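import Groth.Agent.Lib.Cohen.NagataFiniteType
import Groth.Agent.Lib.Excellent.Nagata
import Mathlib.AlgebraicGeometry.Morphisms.FiniteType
import Mathlib.AlgebraicGeometry.Noetherian

/-! Local rings of schemes locally of finite type over a field are Nagata. -/

set_option autoImplicit false
set_option linter.style.haveILetI false
universe u

open CategoryTheory AlgebraicGeometry

namespace Groth.Agent.H25.NagataStalk

/-- Fields are Nagata. -/
theorem isNagata_field (k : Type u) [Field k] : CAlg.IsNagata k := by
  refine ⟨inferInstance, fun p hp => ?_⟩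
  intro L _ _ _ _ hfin
  haveI : p.IsMaximal := Ideal.bot_isMaximal.eq_of_le hp.ne_top bot_le ▸ Ideal.bot_isMaximal
  let F := FractionRing (k ⧸ p)
  haveI : Module.Finite (k ⧸ p) F := Module.Finite.of_surjective (Algebra.linearMap (k ⧸ p) F)
    (IsField.localization_map_bijective (M := nonZeroDivisors (k ⧸ p))
      (fun h => zero_notMem_nonZeroDivisors h)
      ((Ideal.Quotient.maximal_ideal_iff_isField_quotient p).1 ‹_›)).2
  haveI : Module.Finite (k ⧸ p) L := Module.Finite.trans F L
  haveI : IsNoetherian (k ⧸ p) L := isNoetherian_of_isNoetherianRing_of_finite _ _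
  exact Module.Finite.of_injective (integralClosure (k ⧸ p) L).val.toLinearMap Subtype.val_injective

/-- The local rings of a scheme locally of finite type over a field are Nagata. -/
theorem isNagata_stalk {k : Type u} [Field k] {X : Scheme.{u}} (f : X ⟶ Spec (CommRingCat.of k))
    [LocallyOfFiniteType f] (x : X) : CAlg.IsNagata (X.presheaf.stalk x) := by
  obtain ⟨_, ⟨U, hU, rfl⟩, hxU, -⟩ :=
    X.isBasis_affineOpens.exists_subset_of_mem_open (Set.mem_univ x) isOpen_univ
  replace hU : IsAffineOpen U := hU
  have h := LocallyOfFiniteType.finiteType_appLE f (isAffineOpen_top (Spec (CommRingCat.of k))) hU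
    (le_top : U ≤ f ⁻¹ᵁ ⊤)
  let ψ : k →+* Γ(X, U) := (f.appLE ⊤ U le_top).hom.comp (Scheme.ΓSpecIso (CommRingCat.of k)).inv.hom
  letI := ψ.toAlgebra
  haveI : Algebra.FiniteType k Γ(X, U) := by
    refine RingHom.finiteType_algebraMap.1 ?_
    exact RingHom.FiniteType.comp h (RingHom.FiniteType.of_surjective _
      (Scheme.ΓSpecIso (CommRingCat.of k)).commRingCatIsoToRingEquiv.symm.surjective)
  letI := TopCat.Presheaf.algebra_section_stalk X.presheaf (⟨x, hxU⟩ : U)
  haveI := hU.isLocalization_stalk ⟨x, hxU⟩
  exact Lib.Excellent.Nagata.isNagata_of_isLocalization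
    (hU.primeIdealOf ⟨x, hxU⟩).asIdeal.primeCompl
    (Lib.Cohen.NagataFiniteType.isNagata_of_finiteType (S := Γ(X, U)) (isNagata_field k))

end Groth.Agent.H25.NagataStalk
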