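import Groth.Agent.H25.DeltaFlat
import Groth.Agent.H52.FBase.GeomRed
import Mathlib.RingTheory.Localization.BaseChange
import Mathlib.RingTheory.LocalProperties.Reduced
import Mathlib.RingTheory.Ideal.GoingDown
import Mathlib.RingTheory.Flat.Localization

/-!
The δ-invariant and localisations of extensions of scalars to a field extension.
-/

set_option autoImplicit false
set_option linter.style.haveILetI false
universe u

namespace Groth.Agent.H25.DeltaBaseChange

open scoped TensorProduct nonZeroDivisors
open IsLocalRing

variable (k A K : Type u) [Field k] [CommRing A] [Algebra k A] [Field K] [Algebra k K]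

/-- Reduced tensor products with localisations of `A ⊗ K`. -/
theorem isReduced_localization_tensor (q : Ideal (A ⊗[k] K)) [q.IsPrime]
    (L : Type u) [CommRing L] [Algebra A L] [Algebra k L] [IsScalarTower k A L]
    [IsReduced (L ⊗[k] K)] : IsReduced (Localization.AtPrime q ⊗[A] L) := by
  haveI : IsReduced ((A ⊗[k] K) ⊗[A] L) := by
    refine isReduced_of_injective
      ((Algebra.TensorProduct.cancelBaseChange k A L L K).toRingEquiv.toRingHom.comp
        (Algebra.TensorProduct.comm A (A ⊗[k] K) L).toRingEquiv.toRingHom) ?_
    exact (Algebra.TensorProduct.cancelBaseChange k A L L K).injective.comp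
      (Algebra.TensorProduct.comm A (A ⊗[k] K) L).injective
  let f : (A ⊗[k] K) ⊗[A] L →ₐ[A] Localization.AtPrime q ⊗[A] L :=
    Algebra.TensorProduct.map (IsScalarTower.toAlgHom A (A ⊗[k] K) _) (AlgHom.id A L)
  letI := f.toRingHom.toAlgebra
  haveI : IsScalarTower (A ⊗[k] K) ((A ⊗[k] K) ⊗[A] L) (Localization.AtPrime q ⊗[A] L) :=
    IsScalarTower.of_algebraMap_eq fun c => by
      show _ = f (c ⊗ₜ[A] (1 : L))
      rw [Algebra.TensorProduct.map_tmul]
      rfl
  have hloc := IsLocalization.tensorProduct_tensorProduct A L q.primeCompl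
    (Localization.AtPrime q) (by
      ext l
      show f (1 ⊗ₜ[A] l) = 1 ⊗ₜ[A] l
      rw [Algebra.TensorProduct.map_tmul, map_one]
      rfl)
  exact isReduced_localizationPreserves
    (Algebra.algebraMapSubmonoid ((A ⊗[k] K) ⊗[A] L) q.primeCompl)
    (Localization.AtPrime q ⊗[A] L) inferInstance

omit [Algebra k A] in
/-- `B ⊗ L = κ(B) ⊗ L` when `m_A` generates `m_B` and kills `L`. -/
theorem isReduced_residue_tensor [IsLocalRing A] (B L : Type u) [CommRing B] [IsLocalRing B]
    [Algebra A B] [CommRing L] [Algebra A L]
    (hm : (maximalIdeal A).map (algebraMap A B) = maximalIdeal B)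
    (hL : ∀ a ∈ maximalIdeal A, algebraMap A L a = 0) [IsReduced (B ⊗[A] L)] :
    IsReduced (ResidueField B ⊗[A] L) := by
  let g : B →ₐ[A] ResidueField B := IsScalarTower.toAlgHom A B (ResidueField B)
  have hs : Function.Surjective g := IsLocalRing.residue_surjective
  let f : B ⊗[A] L →ₐ[A] ResidueField B ⊗[A] L :=
    Algebra.TensorProduct.map g (AlgHom.id A L)
  have hfs : Function.Surjective f := TensorProduct.map_surjective hs Function.surjective_id
  have hfi : Function.Injective f := by
    rw [injective_iff_map_eq_zero]
    intro x hx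
    have hx' : x ∈ RingHom.ker f := hx
    rw [Algebra.TensorProduct.map_ker _ _ hs Function.surjective_id] at hx'
    have h0 : (RingHom.ker g).map
        (Algebra.TensorProduct.includeLeft (R := A) (S := A) (B := L)) = ⊥ := by
      rw [show RingHom.ker g = maximalIdeal B from IsLocalRing.ker_residue, ← hm, eq_bot_iff,
        Ideal.map_le_iff_le_comap, Ideal.map_le_iff_le_comap]
      intro a ha
      rw [Ideal.mem_comap, Ideal.mem_comap, AlgHom.commutes,
        ← AlgHom.commutes (Algebra.TensorProduct.includeRight (R := A) (A := B) (B := L)),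
        hL a ha, map_zero]
      exact zero_mem _
    have h1 : (RingHom.ker (AlgHom.id A L)).map
        (Algebra.TensorProduct.includeRight (R := A) (A := B)) = ⊥ := by
      rw [eq_bot_iff, Ideal.map_le_iff_le_comap]
      intro a ha
      rw [show a = 0 from ha]
      exact zero_mem _
    rwa [h0, h1, sup_bot_eq, Ideal.mem_bot] at hx'
  exact isReduced_of_injective (RingEquiv.ofBijective f ⟨hfi, hfs⟩).symm (RingEquiv.injective _)

variable [IsLocalRing A] [IsNoetherianRing A] [IsReduced A] [Ring.KrullDimLE 1 A]

local notation "A'" => integralClosure A (FractionRing A)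

/-- The δ-invariant does not change in `A → (A ⊗_k K)_q` when the points of the normalisation are
geometrically reduced and the dimension stays the same. -/
theorem deltaInv_localization_tensor [Module.Finite A A'] (q : Ideal (A ⊗[k] K)) [q.IsPrime]
    (hq : q.comap (algebraMap A (A ⊗[k] K)) = maximalIdeal A)
    [IsNoetherianRing (Localization.AtPrime q)]
    (hdim : ringKrullDim (Localization.AtPrime q) = ringKrullDim A)
    (hP : ∀ P : Ideal A', P.IsMaximal → Algebra.IsGeometricallyReduced k (A' ⧸ P)) :
    Curv2.deltaInv (Localization.AtPrime q) = Curv2.deltaInv A := by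
  haveI : Module.Flat A (Localization.AtPrime q) :=
    Module.Flat.trans A (A ⊗[k] K) (Localization.AtPrime q)
  haveI : IsLocalHom (algebraMap A (Localization.AtPrime q)) := by
    refine ((IsLocalRing.local_hom_TFAE _).out 0 4 rfl rfl).2 ?_
    rw [IsScalarTower.algebraMap_eq A (A ⊗[k] K) (Localization.AtPrime q), ← Ideal.comap_comap]
    exact (congrArg _ (IsLocalization.AtPrime.under_maximalIdeal (Localization.AtPrime q) q)).trans hq
  have hredB : ∀ P : Ideal A', P.IsMaximal →
      IsReduced (Localization.AtPrime q ⊗[A] (A' ⧸ P)) := fun P hPm => by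
    haveI := hP P hPm
    haveI := H52.FBase.GeomRed.isReduced_tensor_field (k := k) (A := A' ⧸ P) K
    exact isReduced_localization_tensor k A K q (A' ⧸ P)
  -- the maximal ideal is extended
  have hm : (maximalIdeal A).map (algebraMap A (Localization.AtPrime q)) =
      maximalIdeal (Localization.AtPrime q) := by
    obtain ⟨P, hPm⟩ := Ideal.exists_maximal A'
    have hPA : P.comap (algebraMap A A') = maximalIdeal A :=
      IsLocalRing.eq_maximalIdeal (Ideal.isMaximal_comap_of_isIntegral_of_isMaximal P)
    haveI := hP P hPm
    let i : A ⧸ maximalIdeal A →ₐ[k] A' ⧸ P :=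
      Ideal.Quotient.liftₐ (maximalIdeal A) (IsScalarTower.toAlgHom k A (A' ⧸ P)) fun a ha => by
        show algebraMap A (A' ⧸ P) a = 0
        rw [IsScalarTower.algebraMap_apply A A' (A' ⧸ P), Ideal.Quotient.algebraMap_eq,
          Ideal.Quotient.eq_zero_iff_mem]
        exact (hPA.symm ▸ ha : a ∈ P.comap (algebraMap A A'))
    haveI : Algebra.IsGeometricallyReduced k (A ⧸ maximalIdeal A) := by
      letI := Ideal.Quotient.field (maximalIdeal A)
      exact Algebra.IsGeometricallyReduced.of_injective i i.toRingHom.injective
    haveI := H52.FBase.GeomRed.isReduced_tensor_field (k := k) (A := A ⧸ maximalIdeal A) K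
    haveI := isReduced_localization_tensor k A K q (A ⧸ maximalIdeal A)
    let e := Algebra.TensorProduct.quotIdealMapEquivTensorQuot (Localization.AtPrime q) (maximalIdeal A)
    haveI : IsReduced (Localization.AtPrime q ⧸
        (maximalIdeal A).map (algebraMap A (Localization.AtPrime q))) :=
      isReduced_of_injective e.toRingEquiv.toRingHom e.injective
    have hrad : ((maximalIdeal A).map (algebraMap A (Localization.AtPrime q))).IsRadical :=
      (Ideal.isRadical_iff_quotient_reduced _).2 ‹_›
    have hle : (maximalIdeal A).map (algebraMap A (Localization.AtPrime q)) ≤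
        maximalIdeal (Localization.AtPrime q) :=
      ((IsLocalRing.local_hom_TFAE _).out 0 2 rfl rfl).1 ‹_›
    rw [← hrad.radical, Ideal.radical_eq_sInf]
    refine le_antisymm (sInf_le ⟨hle, (maximalIdeal.isMaximal _).isPrime⟩) ?_
    refine le_sInf fun J ⟨hJ, hJp⟩ => ?_
    haveI := hJp
    by_contra hne
    have hlt : J < maximalIdeal (Localization.AtPrime q) :=
      lt_of_le_not_ge (IsLocalRing.le_maximalIdeal hJp.ne_top) hne
    haveI : J.LiesOver (maximalIdeal A) := ⟨(maximalIdeal.isMaximal A).eq_of_le
      (Ideal.IsPrime.comap _).ne_top (Ideal.map_le_iff_le_comap.1 hJ)⟩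
    have h1 : ((maximalIdeal A).height : WithBot ℕ∞) = ringKrullDim A :=
      IsLocalRing.maximalIdeal_height_eq_ringKrullDim
    have h2 : (maximalIdeal A).height ≤ J.height :=
      (Ideal.height_eq_height_add_of_liesOver_of_hasGoingDown (maximalIdeal A) J).ge.trans' le_self_add
    have h3 : J.height < (maximalIdeal (Localization.AtPrime q)).height :=
      Ideal.height_strict_mono_of_isPrime hlt
    have h4 : ((maximalIdeal (Localization.AtPrime q)).height : WithBot ℕ∞) =
        (maximalIdeal A).height := by
      rw [IsLocalRing.maximalIdeal_height_eq_ringKrullDim, h1, hdim]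
    rw [WithBot.coe_inj] at h4
    exact absurd (h4 ▸ h3) (not_lt.2 h2)
  refine DeltaFlat.deltaInv_eq_of_isReduced A (Localization.AtPrime q) (fun P hPm => ?_) hm
  haveI := hredB P hPm
  refine isReduced_residue_tensor A (Localization.AtPrime q) (A' ⧸ P) hm fun a ha => ?_
  rw [IsScalarTower.algebraMap_apply A A' (A' ⧸ P), Ideal.Quotient.algebraMap_eq,
    Ideal.Quotient.eq_zero_iff_mem]
  have hPA : P.comap (algebraMap A A') = maximalIdeal A :=
    IsLocalRing.eq_maximalIdeal (Ideal.isMaximal_comap_of_isIntegral_of_isMaximal P)
  exact Ideal.mem_comap.1 (hPA.symm ▸ ha)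

/-- The δ-invariant only depends on the ring up to isomorphism. -/
theorem deltaInv_of_ringEquiv {R S : Type u} [CommRing R] [CommRing S] (e : R ≃+* S) :
    Curv2.deltaInv R = Curv2.deltaInv S := by
  letI := e.toRingHom.toAlgebra
  have hs : Function.Surjective (algebraMap R S) := e.surjective
  haveI : IsFractionRing R (FractionRing S) := by
    have h := IsLocalization.isLocalization_of_base_ringEquiv S⁰ (FractionRing S) e.symm
    rw [MulEquivClass.map_nonZeroDivisors] at h
    convert h using 1
    exact Algebra.algebra_ext _ _ fun r =>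
      IsScalarTower.algebraMap_apply R S (FractionRing S) r
  let ε : FractionRing R ≃ₐ[R] FractionRing S := IsLocalization.algEquiv R⁰ _ _
  let e' : integralClosure R (FractionRing R) ≃ₗ[R] integralClosure S (FractionRing S) :=
    (AlgEquiv.mapIntegralClosure ε).toLinearEquiv.trans
      { toFun := fun z => ⟨z.1, z.2.tower_top⟩
        invFun := fun z => ⟨z.1, isIntegral_trans (R := R) (A := S) _ z.2⟩
        map_add' := fun _ _ => rfl
        map_smul' := fun _ _ => rfl
        left_inv := fun _ => rfl
        right_inv := fun _ => rfl }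
  let N : Submodule S (integralClosure S (FractionRing S)) :=
    LinearMap.range (Algebra.linearMap S (integralClosure S (FractionRing S)))
  have hN : (LinearMap.range (Algebra.linearMap R (integralClosure R (FractionRing R)))).map
      e'.toLinearMap = N.restrictScalars R := by
    apply le_antisymm
    · rintro _ ⟨_, ⟨r, rfl⟩, rfl⟩
      exact ⟨e r, Subtype.ext (ε.commutes r).symm⟩
    · rintro _ ⟨t, rfl⟩
      obtain ⟨r, rfl⟩ := hs t
      exact ⟨_, ⟨r, rfl⟩, Subtype.ext (ε.commutes r)⟩
  haveI : Algebra.IsIntegral R S := Algebra.isIntegral_def.2 fun x => by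
    obtain ⟨r, rfl⟩ := hs x
    exact isIntegral_algebraMap
  exact ((Submodule.Quotient.equiv _ _ e' hN).trans
    (Submodule.Quotient.restrictScalarsEquiv R N)).length_eq.trans
      (Module.length_eq_of_surjective (S := R) (M := integralClosure S (FractionRing S) ⧸ N) hs)

end Groth.Agent.H25.DeltaBaseChange
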