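import Groth.Agent.Lib.Depth.CM
import Groth.Agent.Lib.Depth.Assoc
import Groth.Agent.Lib.Regular.Quotient
import Groth.Agent.Lib.Excellent.Transport
import Groth.Agent.Lib.Grass.FreeCM
import Mathlib.RingTheory.Ideal.AssociatedPrime.Localization
import Mathlib.RingTheory.Ideal.KrullsHeightTheorem
import Mathlib.RingTheory.Flat.TorsionFree
import Mathlib.RingTheory.Flat.Localization

/-!
# Associated primes and complete-intersection reductions of Cohen–Macaulay rings
-/

set_option linter.style.haveILetI false

universe u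

open IsLocalRing LocCoh

namespace Groth.Agent.H25.CMUnmixed

/-- A regular local ring is Cohen–Macaulay. -/
theorem isCohenMacaulayLocalRing_of_regular (R : Type u) [CommRing R] [IsRegularLocalRing R] :
    IsCohenMacaulayLocalRing R := by
  classical
  have hfg : (maximalIdeal R).FG := IsNoetherian.noetherian _
  obtain ⟨s, hcard, hspan⟩ := Submodule.FG.exists_span_set_encard_eq_spanFinrank hfg
  have hsfin : s.Finite := Set.finite_of_encard_le_coe hcard.le
  set rs := hsfin.toFinset.toList with hrsdef
  have hlist : Ideal.ofList rs = maximalIdeal R := by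
    rw [Ideal.ofList, ← hspan, Ideal.span]
    congr 1
    ext r
    simp [hrsdef]
  have hlen : rs.length = (maximalIdeal R).spanFinrank := by
    rw [hrsdef, Finset.length_toList]
    have := hsfin.encard_eq_coe_toFinset_card
    rw [hcard] at this
    exact_mod_cast this.symm
  refine Groth.Agent.Lib.Depth.CM.isCohenMacaulayLocalRing_of_isRegular
    (Groth.Agent.Lib.Regular.Quotient.isRegular_of_span_eq_maximalIdeal rs hlist hlen) ?_
  rw [hlen, IsRegularLocalRing.spanFinrank_maximalIdeal]

theorem isCohenMacaulayRing_of_regular (R : Type u) [CommRing R] [IsRegularRing R] :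
    IsCohenMacaulayRing R where
  isCohenMacaulayLocalRing_localization p _ := isCohenMacaulayLocalRing_of_regular _

/-- In a Cohen–Macaulay local ring every associated prime is minimal. -/
theorem mem_minimalPrimes_of_local (R : Type u) [CommRing R] [h : IsCohenMacaulayLocalRing R]
    {p : Ideal R} (hp : p ∈ associatedPrimes R R) : p ∈ minimalPrimes R := by
  haveI := hp.1
  refine ⟨⟨hp.1, bot_le⟩, fun q hq hqp => ?_⟩
  haveI := hq.1
  by_contra hne
  have h1 := Groth.Agent.Lib.Depth.Assoc.ringKrullDim_quotient_add_one_le_of_lt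
    (lt_of_le_not_ge hqp hne)
  rw [Groth.Agent.Lib.Depth.CM.ringKrullDim_quotient_eq
    (Groth.Agent.Lib.Depth.CM.isCohenMacaulayModule_self (R := R)) hp,
    Module.supportDim_self_eq_ringKrullDim] at h1
  have h2 : ringKrullDim (R ⧸ q) ≤ ringKrullDim R :=
    ringKrullDim_le_of_surjective _ Ideal.Quotient.mk_surjective
  have hfin : FiniteRingKrullDim R := inferInstance
  obtain ⟨d, hd⟩ : ∃ d : ℕ, ringKrullDim R = d := by
    obtain ⟨d, hd⟩ := WithBot.ne_bot_iff_exists.1 (ringKrullDim_ne_bot (R := R))
    have hne' : d ≠ ⊤ := fun ht => ringKrullDim_ne_top (R := R) (by rw [← hd, ht]; rfl)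
    obtain ⟨d, rfl⟩ := ENat.ne_top_iff_exists.1 hne'
    exact ⟨d, hd.symm⟩
  have h3 := h1.trans h2
  rw [hd, show ((d : WithBot ℕ∞) + 1) = ((d + 1 : ℕ) : WithBot ℕ∞) from by norm_cast] at h3
  have h4 : d + 1 ≤ d := by exact_mod_cast h3
  omega

/-- In a Cohen–Macaulay ring every associated prime is minimal. -/
theorem mem_minimalPrimes (R : Type u) [CommRing R] [IsCohenMacaulayRing R]
    {P : Ideal R} (hP : P ∈ associatedPrimes R R) : P ∈ minimalPrimes R := by
  haveI := hP.1
  haveI := IsCohenMacaulayRing.isCohenMacaulayLocalRing_localization (R := R) P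
  have h1 := Module.associatedPrimes.mem_associatedPrimes_atPrime_of_mem_associatedPrimes hP
  let e : LocalizedModule.AtPrime P R ≃ₗ[Localization.AtPrime P] Localization.AtPrime P :=
    (IsLocalizedModule.iso P.primeCompl
      (Algebra.linearMap R (Localization.AtPrime P))).extendScalarsOfIsLocalization
      P.primeCompl (Localization.AtPrime P)
  rw [LinearEquiv.AssociatedPrimes.eq e] at h1
  have h2 := mem_minimalPrimes_of_local _ h1
  refine ⟨⟨hP.1, bot_le⟩, fun q hq hqP => ?_⟩
  haveI := hq.1
  have hd : Disjoint (P.primeCompl : Set R) (q : Set R) :=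
    Set.disjoint_left.2 fun x hx hxq => hx (hqP hxq)
  haveI hq' := IsLocalization.isPrime_of_isPrime_disjoint P.primeCompl (Localization.AtPrime P) q hq.1 hd
  have h3 := h2.2 ⟨hq', bot_le⟩ (IsLocalRing.le_maximalIdeal hq'.ne_top)
  have h4 := Ideal.comap_mono (f := algebraMap R (Localization.AtPrime P)) h3
  rw [← Ideal.under_def, ← Ideal.under_def,
    IsLocalization.under_map_of_isPrime_disjoint P.primeCompl _ hq.1 hd] at h4
  exact (Localization.AtPrime.under_maximalIdeal (I := P)).ge.trans h4

/-- Quotient of a Cohen–Macaulay ring by a regular element. -/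
theorem isCohenMacaulayRing_quotient {R : Type u} [CommRing R]
    [IsCohenMacaulayRing R] {x : R} (hx : IsSMulRegular R x) :
    IsCohenMacaulayRing (R ⧸ Ideal.span {x}) := by
  refine Groth.Agent.Lib.Grass.FreeCM.isCohenMacaulayRing_of_forall_isMaximal _ fun n hn => ?_
  set m := n.comap (Ideal.Quotient.mk (Ideal.span {x}))
  have hL : IsCohenMacaulayLocalRing (Localization.AtPrime m) :=
    IsCohenMacaulayRing.isCohenMacaulayLocalRing_localization m
  set y := algebraMap R (Localization.AtPrime m) x
  let φ : Localization.AtPrime m →+* Localization.AtPrime n :=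
    Localization.localRingHom m n (Ideal.Quotient.mk (Ideal.span {x})) rfl
  have hφ : ∀ (a : R) (s : m.primeCompl), φ (IsLocalization.mk' _ a s) =
      IsLocalization.mk' _ (Ideal.Quotient.mk (Ideal.span {x}) a)
        (⟨Ideal.Quotient.mk (Ideal.span {x}) s, s.2⟩ : n.primeCompl) := fun a s =>
    Localization.localRingHom_mk' _ _ _ _ a s
  have hsurj : Function.Surjective φ := by
    intro z
    obtain ⟨⟨a, s⟩, rfl⟩ :=
      IsLocalization.mk'_surjective (S := Localization.AtPrime n) (M := n.primeCompl) z
    obtain ⟨a, rfl⟩ := Ideal.Quotient.mk_surjective a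
    obtain ⟨s, hs⟩ := s
    obtain ⟨s, rfl⟩ := Ideal.Quotient.mk_surjective s
    exact ⟨IsLocalization.mk' _ a (⟨s, hs⟩ : m.primeCompl), hφ a ⟨s, hs⟩⟩
  have hyφ : φ y = 0 := by
    simp only [y, φ, Localization.localRingHom_to_map, Ideal.Quotient.eq_zero_iff_mem.2
      (Ideal.mem_span_singleton_self x), map_zero]
  have hker : RingHom.ker φ = Ideal.span {y} := by
    refine le_antisymm (fun z hz => ?_) ?_
    · obtain ⟨⟨a, s⟩, rfl⟩ :=
        IsLocalization.mk'_surjective (S := Localization.AtPrime m) (M := m.primeCompl) z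
      rw [RingHom.mem_ker, hφ, IsLocalization.mk'_eq_zero_iff] at hz
      obtain ⟨⟨t, ht⟩, hta⟩ := hz
      obtain ⟨t, rfl⟩ := Ideal.Quotient.mk_surjective t
      rw [← map_mul, Ideal.Quotient.eq_zero_iff_mem, Ideal.mem_span_singleton] at hta
      obtain ⟨c, hc⟩ := hta
      refine Ideal.mem_span_singleton.2 ⟨IsLocalization.mk' _ c (⟨t, ht⟩ * s), ?_⟩
      simp only [y, IsLocalization.mul_mk'_eq_mk'_of_mul, ← hc]
      exact (IsLocalization.mk'_eq_iff_eq.2 (by push_cast; ring)).symm
    · rw [Ideal.span_singleton_le_iff_mem]; exact hyφ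
  have hreg : IsSMulRegular (Localization.AtPrime m) y := by
    have h1 : IsSMulRegular (Localization.AtPrime m) x := by
      haveI : Module.Flat R (Localization.AtPrime m) :=
        IsLocalization.flat (Localization.AtPrime m) m.primeCompl
      exact Module.Flat.isSMulRegular_of_isRegular (isLeftRegular_iff_isRegular.1 hx)
    intro a b hab
    exact h1 (by simpa [y, Algebra.smul_def, smul_eq_mul] using hab)
  let e : (Localization.AtPrime m ⧸ Ideal.span {y}) ≃+* Localization.AtPrime n :=
    (Ideal.quotEquivOfEq hker.symm).trans (RingHom.quotientKerEquivOfSurjective hsurj)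
  have : IsLocalRing (Localization.AtPrime m ⧸ Ideal.span {y}) := e.symm.isLocalRing
  have hymax : y ∈ IsLocalRing.maximalIdeal (Localization.AtPrime m) := by
    refine fun hu => zero_ne_one (α := Localization.AtPrime n) ?_
    exact ((hyφ ▸ hu.map φ : IsUnit (0 : Localization.AtPrime n))).mul_left_cancel (by simp)
  have := (Groth.Agent.Lib.Depth.CM.isCohenMacaulayLocalRing_quotient_span_singleton_iff
    hymax hreg).2 hL
  exact Groth.Agent.Lib.Excellent.Transport.isCohenMacaulayLocalRing_of_ringEquiv e

/-- an element outside all minimal primes is regular -/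
theorem isSMulRegular_of_notMem (R : Type u) [CommRing R] [IsCohenMacaulayRing R] {x : R}
    (hx : ∀ P ∈ minimalPrimes R, x ∉ P) : IsSMulRegular R x := by
  by_contra h
  have h' : x ∈ ⋃ p ∈ associatedPrimes R R, (p : Set R) := by
    rw [biUnion_associatedPrimes_eq_compl_regular]
    exact h
  obtain ⟨P, hP, hxP⟩ := Set.mem_iUnion₂.1 h'
  exact hx P (mem_minimalPrimes R hP) hxP

/-- height drops modulo a regular element -/
theorem height_quotient_le {R : Type u} [CommRing R] [IsNoetherianRing R] {x : R}
    (hx : IsSMulRegular R x) : ∀ (n : ℕ) (P : Ideal (R ⧸ Ideal.span {x})) [P.IsPrime],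
    (P.comap (Ideal.Quotient.mk (Ideal.span {x}))).height ≤ (n + 1 : ℕ) → P.height ≤ n := by
  intro n
  induction n using Nat.strong_induction_on with
  | _ n ih =>
    intro P _ h
    rw [Ideal.height_le_iff]
    intro q hq hqP
    haveI := hq
    have hlt : q.comap (Ideal.Quotient.mk (Ideal.span {x})) <
        P.comap (Ideal.Quotient.mk (Ideal.span {x})) := by
      refine lt_of_le_of_ne (Ideal.comap_mono hqP.le) fun he => hqP.ne ?_
      exact Ideal.comap_injective_of_surjective _ Ideal.Quotient.mk_surjective he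
    have hq1 := Ideal.height_le_iff.1 h _ inferInstance hlt
    rcases n with _ | m
    · exfalso
      rw [Nat.cast_one, Order.lt_one_iff, Ideal.height_eq_zero_iff] at hq1
      have hx0 : x ∈ (q.comap (Ideal.Quotient.mk (Ideal.span {x})) : Set R) := by
        rw [SetLike.mem_coe, Ideal.mem_comap,
          Ideal.Quotient.eq_zero_iff_mem.2 (Ideal.mem_span_singleton_self x)]
        exact q.zero_mem
      refine Set.disjoint_left.1 (Ideal.disjoint_nonZeroDivisors_of_mem_minimalPrimes hq1) hx0 ?_
      exact mem_nonZeroDivisors_iff_right.2 fun z hz => hx (by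
          simpa [mul_comm] using hz)
    · have hfin : (q.comap (Ideal.Quotient.mk (Ideal.span {x}))).height ≠ ⊤ :=
        Ideal.height_ne_top (Ideal.IsPrime.ne_top inferInstance)
      obtain ⟨j, hj⟩ := ENat.ne_top_iff_exists.1 hfin
      have h3 : q.height ≤ m := ih m (by omega) q (by
        rw [← hj] at hq1 ⊢
        norm_cast at hq1 ⊢
        omega)
      exact h3.trans_lt (by norm_cast; omega)

/-- A prime of a Cohen–Macaulay ring becomes minimal in a Cohen–Macaulay quotient. -/
theorem exists_reduction : ∀ (n : ℕ) (R : Type u) [CommRing R] [IsCohenMacaulayRing R]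
    (q : Ideal R) [q.IsPrime], q.height ≤ n →
    ∃ (R' : Type u) (_ : CommRing R') (f : R →+* R'), Function.Surjective f ∧
      RingHom.ker f ≤ q ∧ IsCohenMacaulayRing R' ∧ q.map f ∈ minimalPrimes R' := by
  intro n
  induction n with
  | zero =>
    intro R _ _ q _ hq
    refine ⟨R, inferInstance, RingHom.id R, Function.surjective_id, ?_, inferInstance, ?_⟩
    · intro x hx
      rw [RingHom.mem_ker, RingHom.id_apply] at hx
      rw [hx]
      exact q.zero_mem
    · rw [Ideal.map_id, ← Ideal.height_eq_zero_iff]
      exact nonpos_iff_eq_zero.1 hq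
  | succ n ih =>
    intro R _ _ q _ hq
    by_cases hmin : q ∈ minimalPrimes R
    · refine ih R q ?_
      rw [← Ideal.height_eq_zero_iff] at hmin
      rw [hmin]
      exact bot_le
    have hfin := minimalPrimes.finite_of_isNoetherianRing R
    obtain ⟨x, hxq, hx⟩ : ∃ x ∈ q, ∀ P ∈ minimalPrimes R, x ∉ P := by
      by_contra hcon
      push Not at hcon
      obtain ⟨P, hP, hle⟩ := (Ideal.subset_union_prime_finite hfin (f := id) ⊥ ⊥
        (fun P hP _ _ => hP.1.1) (I := q)).1 (fun x hx => by
          obtain ⟨P, hP, hxP⟩ := hcon x hx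
          exact Set.mem_biUnion hP hxP)
      haveI := hP.1.1
      exact hmin (le_antisymm (hP.2 ⟨inferInstance, bot_le⟩ hle) hle ▸ hP)
    have hreg := isSMulRegular_of_notMem R hx
    haveI := isCohenMacaulayRing_quotient hreg
    have hle : Ideal.span {x} ≤ q := (Ideal.span_singleton_le_iff_mem q).2 hxq
    haveI : (q.map (Ideal.Quotient.mk (Ideal.span {x}))).IsPrime :=
      Ideal.map_isPrime_of_surjective Ideal.Quotient.mk_surjective (by rwa [Ideal.mk_ker])
    have hc : (q.map (Ideal.Quotient.mk (Ideal.span {x}))).comap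
        (Ideal.Quotient.mk (Ideal.span {x})) = q := by
      rw [Ideal.comap_map_of_surjective _ Ideal.Quotient.mk_surjective,
        ← RingHom.ker_eq_comap_bot, Ideal.mk_ker, sup_eq_left.2 hle]
    obtain ⟨R', _, f, hf, hker, hCM, hq'⟩ := ih (R ⧸ Ideal.span {x})
      (q.map (Ideal.Quotient.mk (Ideal.span {x})))
      (height_quotient_le hreg n _ (by rw [hc]; exact hq))
    refine ⟨R', inferInstance, f.comp (Ideal.Quotient.mk _),
      hf.comp Ideal.Quotient.mk_surjective, ?_, hCM, ?_⟩
    · rw [← RingHom.comap_ker]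
      exact (Ideal.comap_mono hker).trans hc.le
    · rwa [← Ideal.map_map]

end Groth.Agent.H25.CMUnmixed
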