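import Groth.Agent.H25.CMUnmixed
import Groth.Agent.H25.MoriNagata.Colon
import Groth.Agent.S0555
import Groth.Prelude.Def_EGA4b
import Mathlib.RingTheory.AlgebraicIndependent.Transcendental

/-!
# Finiteness of sections outside codimension two
-/

set_option linter.style.haveILetI false

universe u

open LocCoh

namespace Groth.Agent.H25.Hull

variable {B : Type u} [CommRing B] [IsDomain B]

/-- elements regular at every prime satisfying `G` -/
def hull (G : Ideal B → Prop) : Subalgebra B (FractionRing B) where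
  carrier := {x | ∀ (p : Ideal B) [p.IsPrime], G p → ∃ s : B, s ∉ p ∧ ∃ a : B,
    algebraMap B (FractionRing B) a = algebraMap B (FractionRing B) s * x}
  mul_mem' := fun {x y} hx hy p _ hp => by
    obtain ⟨s, hs, a, ha⟩ := hx p hp
    obtain ⟨t, ht, b, hb⟩ := hy p hp
    exact ⟨s * t, fun h => (Ideal.IsPrime.mem_or_mem ‹_› h).elim hs ht, a * b, by
      rw [map_mul, map_mul, ha, hb]; ring⟩
  add_mem' := fun {x y} hx hy p _ hp => by
    obtain ⟨s, hs, a, ha⟩ := hx p hp
    obtain ⟨t, ht, b, hb⟩ := hy p hp
    exact ⟨s * t, fun h => (Ideal.IsPrime.mem_or_mem ‹_› h).elim hs ht, t * a + s * b, by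
      rw [map_add, map_mul, map_mul, map_mul, ha, hb]; ring⟩
  algebraMap_mem' := fun r p _ _ =>
    ⟨1, fun h => Ideal.IsPrime.ne_top ‹_› ((Ideal.eq_top_iff_one p).2 h), r, by simp⟩

/-- The criterion: a torsion free module detecting divisibility at `G`-primes. -/
theorem finite_hull (G : Ideal B → Prop) (R' : Type u) [CommRing R'] [IsNoetherianRing R']
    (g : R' →+* B) (hg : Function.Surjective g) (N : Type u) [AddCommGroup N] [Module R' N]
    [Module.Finite R' N] [Nontrivial N] (hkill : ∀ r : R', g r = 0 → ∀ n : N, r • n = 0)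
    (htf : ∀ (r : R') (n : N), g r ≠ 0 → r • n = 0 → n = 0)
    (hlift : ∀ b : B, b ≠ 0 → ∃ s : R', g s = b ∧ ∀ m : N,
      (∀ (p : Ideal B) [p.IsPrime], G p → ∃ t : R', g t ∉ p ∧ ∃ n : N, t • m = s • n) →
        ∃ n : N, m = s • n) :
    Module.Finite B (hull G) := by
  classical
  letI algR : Algebra R' B := g.toAlgebra
  haveI : IsScalarTower R' B (FractionRing B) := inferInstance
  haveI : IsScalarTower R' B (hull G) := inferInstance
  -- the graph
  have hex : ∀ x : hull G, ∀ n : N, ∃ r : N, ∀ (a s : R'),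
      algebraMap B (FractionRing B) (g a) = algebraMap B (FractionRing B) (g s) * x.1 →
      s • r = a • n := by
    intro x n
    obtain ⟨⟨a₀, b₀⟩, hab⟩ := IsLocalization.surj (nonZeroDivisors B) (x : FractionRing B)
    obtain ⟨s, hs, hdiv⟩ := hlift (b₀ : B) (nonZeroDivisors.coe_ne_zero b₀)
    obtain ⟨a, ha⟩ := hg a₀
    obtain ⟨r, hr⟩ := hdiv (a • n) (fun p _ hp => by
      obtain ⟨t₀, ht₀, c₀, hc₀⟩ := x.2 p hp
      obtain ⟨t, rfl⟩ := hg t₀
      obtain ⟨c, rfl⟩ := hg c₀
      refine ⟨t, ht₀, c • n, ?_⟩
      have h1 : g (t * a) = g (s * c) := by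
        apply IsFractionRing.injective B (FractionRing B)
        rw [map_mul, map_mul, map_mul, map_mul, hc₀, ha, hs, ← hab]
        ring
      have h2 : (t * a - s * c) • n = 0 := hkill _ (by rw [map_sub, h1, sub_self]) n
      rwa [sub_smul, sub_eq_zero, mul_smul, mul_smul] at h2)
    refine ⟨r, fun a' s' h' => ?_⟩
    have h1 : g (s * a') = g (s' * a) := by
      apply IsFractionRing.injective B (FractionRing B)
      rw [map_mul, map_mul, map_mul, map_mul, h', ha, hs, ← hab]
      ring
    have h2 : (s * a' - s' * a) • n = 0 := hkill _ (by rw [map_sub, h1, sub_self]) n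
    rw [sub_smul, sub_eq_zero, mul_smul, mul_smul, hr, ← mul_smul, ← mul_smul, mul_comm s' s,
      mul_smul, mul_smul] at h2
    refine sub_eq_zero.1 (htf s _ (by rw [hs]; exact nonZeroDivisors.coe_ne_zero b₀) ?_)
    rw [smul_sub, h2, sub_self]
  choose φ hφ using hex
  have hrep : ∀ x : hull G, ∃ a s : R', g s ≠ 0 ∧
      algebraMap B (FractionRing B) (g a) = algebraMap B (FractionRing B) (g s) * x.1 := by
    intro x
    obtain ⟨⟨a₀, b₀⟩, hab⟩ := IsLocalization.surj (nonZeroDivisors B) (x : FractionRing B)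
    obtain ⟨a, ha⟩ := hg a₀
    obtain ⟨s, hs⟩ := hg b₀
    exact ⟨a, s, by rw [hs]; exact nonZeroDivisors.coe_ne_zero b₀, by
      rw [ha, hs, mul_comm]; exact hab.symm⟩
  have huniq : ∀ (x : hull G) (n r : N) (a s : R'), g s ≠ 0 →
      algebraMap B (FractionRing B) (g a) = algebraMap B (FractionRing B) (g s) * x.1 →
      s • r = a • n → r = φ x n := by
    intro x n r a s hs h hr
    refine sub_eq_zero.1 (htf s _ hs ?_)
    rw [smul_sub, hr, hφ x n a s h, sub_self]
  let Φ : hull G →ₗ[R'] (N →ₗ[R'] N) :=
    { toFun := fun x =>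
        { toFun := φ x
          map_add' := fun n n' => by
            obtain ⟨a, s, hs, h⟩ := hrep x
            refine (huniq x _ _ a s hs h ?_).symm
            rw [smul_add, smul_add, hφ x n a s h, hφ x n' a s h]
          map_smul' := fun c n => by
            obtain ⟨a, s, hs, h⟩ := hrep x
            refine (huniq x _ _ a s hs h ?_).symm
            rw [RingHom.id_apply, smul_comm, hφ x n a s h, smul_comm] }
      map_add' := fun x y => by
        ext n
        obtain ⟨a, s, hs, h⟩ := hrep x
        obtain ⟨a', s', hs', h'⟩ := hrep y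
        refine (huniq (x + y) n _ (s' * a + s * a') (s * s') (by
          rw [map_mul]; exact mul_ne_zero hs hs') ?_ ?_).symm
        · simp only [map_add, map_mul, h, h', Subalgebra.coe_add]
          ring
        · change (s * s') • (φ x n + φ y n) = _
          rw [smul_add, add_smul, mul_smul, smul_comm, hφ x n a s h, mul_smul,
            mul_smul, mul_smul, hφ y n a' s' h']
      map_smul' := fun c x => by
        ext n
        simp only [RingHom.id_apply, LinearMap.smul_apply, LinearMap.coe_mk, AddHom.coe_mk]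
        obtain ⟨a, s, hs, h⟩ := hrep x
        refine (huniq (c • x) n _ (c * a) s hs ?_ ?_).symm
        · rw [show ((c • x : hull G) : FractionRing B) = c • (x : FractionRing B) from rfl,
            ← algebraMap_smul B c (x : FractionRing B),
            show algebraMap R' B c = g c from rfl, map_mul, map_mul, h, Algebra.smul_def]
          ring
        · change s • (c • φ x n) = _
          rw [smul_comm, hφ x n a s h, mul_smul] }
  have hinj : Function.Injective Φ := by
    rw [injective_iff_map_eq_zero]
    intro x hx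
    obtain ⟨n, hn⟩ := exists_ne (0 : N)
    obtain ⟨a, s, hs, h⟩ := hrep x
    have h1 : φ x n = 0 := LinearMap.congr_fun hx n
    have h2 := hφ x n a s h
    rw [h1, smul_zero] at h2
    have ha : g a = 0 := by
      by_contra hne
      exact hn (htf a n hne h2.symm)
    rw [ha, map_zero] at h
    apply Subtype.ext
    exact (mul_eq_zero.1 h.symm).resolve_left
      (fun h0 => hs (IsFractionRing.injective B (FractionRing B) (h0.trans (map_zero _).symm)))
  haveI : IsNoetherian R' N := isNoetherian_of_isNoetherianRing_of_finite R' N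
  haveI : Module.Finite R' (hull G) := Module.Finite.of_injective Φ hinj
  exact Module.Finite.of_restrictScalars_finite R' B _

/-- The case of a minimal prime in a Cohen–Macaulay ring. -/
theorem finite_hull_of_CM (G : Ideal B → Prop)
    (hG : ∀ (p : Ideal B) [p.IsPrime], p.height = 1 → G p)
    (R' : Type u) [CommRing R'] [IsCohenMacaulayRing R']
    (g : R' →+* B) (hg : Function.Surjective g) (hmin : RingHom.ker g ∈ minimalPrimes R') :
    Module.Finite B (hull G) := by
  classical
  set q := RingHom.ker g with hq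
  haveI : q.IsPrime := RingHom.ker_isPrime g
  let N : Ideal R' := (⊥ : Submodule R' R').colon (q : Set R')
  have memN : ∀ n, n ∈ N ↔ ∀ d ∈ q, n * d = 0 := by
    intro n
    rw [show (n ∈ N) = (n ∈ (⊥ : Submodule R' R').colon (q : Set R')) from rfl,
      Submodule.mem_colon]
    simp [smul_eq_mul]
  have hfin := minimalPrimes.finite_of_isNoetherianRing R'
  have hqass : q ∈ associatedPrimes R' R' := by
    apply Module.associatedPrimes.minimalPrimes_annihilator_subset_associatedPrimes R' R'
    rwa [Module.annihilator_eq_bot.2 inferInstance]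
  haveI : Nontrivial N := by
    obtain ⟨-, v, hv⟩ := (isAssociatedPrime_iff (M := R')).1 hqass
    have hvN : v ∈ N := (memN v).2 fun d hd => by
      rw [hv, Submodule.mem_colon_singleton, Submodule.mem_bot, smul_eq_mul] at hd
      rwa [mul_comm]
    refine ⟨⟨⟨v, hvN⟩, 0, fun h => ?_⟩⟩
    have hv0 : v = 0 := congrArg Subtype.val h
    refine (RingHom.ker_isPrime g).ne_top ((Ideal.eq_top_iff_one _).2 ?_)
    rw [← hq, hv, Submodule.mem_colon_singleton, hv0, smul_zero]
    exact Submodule.zero_mem _
  refine finite_hull G R' g hg N (fun r hr n => ?_) (fun r n hr h => ?_) ?_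
  · apply Subtype.ext
    change r * (n : R') = 0
    rw [mul_comm]
    exact (memN _).1 n.2 r (RingHom.mem_ker.2 hr)
  · -- torsion free
    apply Subtype.ext
    change (n : R') = 0
    by_contra hn0
    have hrn : r * (n : R') = 0 := congrArg Subtype.val h
    obtain ⟨P, hP, hle⟩ := exists_le_isAssociatedPrime_of_isNoetherianRing (R := R') (n : R') hn0
    have hqP : q ≤ P := fun d hd => hle (by
      rw [Submodule.mem_colon_singleton, Submodule.mem_bot, smul_eq_mul, mul_comm]
      exact (memN _).1 n.2 d hd)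
    have hrP : r ∈ P := hle (by
      rw [Submodule.mem_colon_singleton, Submodule.mem_bot, smul_eq_mul]
      exact hrn)
    have hPq : P ≤ q := (CMUnmixed.mem_minimalPrimes R' hP).2 hmin.1 hqP
    exact hr (RingHom.mem_ker.1 (hPq hrP))
  · intro b hb
    obtain ⟨s₀, rfl⟩ := hg b
    -- a regular lift
    obtain ⟨s, hs, hsreg⟩ : ∃ s, g s = g s₀ ∧ IsSMulRegular R' s := by
      let S₁ := (hfin.toFinset).filter fun P => s₀ ∉ P
      let I : Ideal R' := S₁.inf id
      have hIP : ∀ P ∈ minimalPrimes R', s₀ ∈ P → ¬ I ≤ P := by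
        intro P hP hsP hle
        haveI := hP.1.1
        obtain ⟨Q, hQ, hQP⟩ := (Ideal.IsPrime.inf_le' inferInstance).1 hle
        obtain ⟨hQ1, hQ2⟩ := Finset.mem_filter.1 hQ
        have hQm : Q ∈ minimalPrimes R' := hfin.mem_toFinset.1 hQ1
        haveI := hQm.1.1
        have hPQ : P ≤ Q := hP.2 hQm.1 hQP
        exact hQ2 (hPQ hsP)
      let S₂ := {P ∈ minimalPrimes R' | s₀ ∈ P}
      have hS₂ : S₂.Finite := hfin.subset fun P hP => hP.1
      obtain ⟨d, hdI, hd⟩ : ∃ d ∈ I, ∀ P ∈ S₂, d ∉ P := by
        by_contra hcon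
        push Not at hcon
        obtain ⟨P, hP, hle⟩ := (Ideal.subset_union_prime_finite hS₂ (f := id) ⊥ ⊥
          (fun P hP _ _ => hP.1.1.1) (I := I)).1 (fun x hx => by
            obtain ⟨P, hP, hxP⟩ := hcon x hx
            exact Set.mem_biUnion hP hxP)
        exact hIP P hP.1 hP.2 hle
      have hdmem : ∀ P ∈ minimalPrimes R', s₀ ∉ P → d ∈ P := fun P hP hsP =>
        (Finset.inf_le (f := id) (Finset.mem_filter.2 ⟨hfin.mem_toFinset.2 hP, hsP⟩)) hdI
      refine ⟨s₀ + d, ?_, CMUnmixed.isSMulRegular_of_notMem R' fun P hP hmem => ?_⟩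
      · rw [map_add, RingHom.mem_ker.1 (hdmem q hmin fun h => hb (RingHom.mem_ker.1 h)), add_zero]
      · by_cases hsP : s₀ ∈ P
        · exact hd P ⟨hP, hsP⟩ ((add_mem_cancel_left hsP).1 hmem)
        · exact hsP ((P.add_mem_iff_left (hdmem P hP hsP)).1 hmem)
    refine ⟨s, hs, fun m hm => ?_⟩
    by_cases hmem : (m : R') ∈ Ideal.span {s}
    · obtain ⟨r, hr⟩ := Ideal.mem_span_singleton.1 hmem
      refine ⟨⟨r, (memN r).2 fun d hd => hsreg ?_⟩, Subtype.ext hr⟩
      change s * (r * d) = s * 0
      rw [← mul_assoc, ← hr, (memN _).1 m.2 d hd, mul_zero]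
    exfalso
    haveI := CMUnmixed.isCohenMacaulayRing_quotient hsreg
    have hne : Ideal.Quotient.mk (Ideal.span {s}) (m : R') ≠ 0 := by
      rwa [ne_eq, Ideal.Quotient.eq_zero_iff_mem]
    obtain ⟨Pb, hPb, hle⟩ := exists_le_isAssociatedPrime_of_isNoetherianRing
      (R := R' ⧸ Ideal.span {s}) _ hne
    haveI := hPb.1
    have hmin' := CMUnmixed.mem_minimalPrimes _ hPb
    set P := Pb.comap (Ideal.Quotient.mk (Ideal.span {s})) with hPdef
    have hcol : ∀ r, r * (m : R') ∈ Ideal.span {s} → r ∈ P := fun r hr => hle (by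
      rw [Submodule.mem_colon_singleton, Submodule.mem_bot, smul_eq_mul, ← map_mul,
        Ideal.Quotient.eq_zero_iff_mem]
      exact hr)
    have hPmin : P ∈ (Ideal.span {s}).minimalPrimes := by
      rw [Ideal.minimalPrimes_eq_comap]
      exact ⟨Pb, hmin', rfl⟩
    have hP1 := Ideal.height_le_one_of_isPrincipal_of_mem_minimalPrimes _ P hPmin
    by_cases hqP : q ≤ P
    · have hcp : (P.map g).comap g = P := by
        rw [Ideal.comap_map_of_surjective g hg, ← RingHom.ker_eq_comap_bot, sup_eq_left.2 hqP]
      haveI : (P.map g).IsPrime := Ideal.map_isPrime_of_surjective hg hqP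
      have hsP : s ∈ P := by
        rw [hPdef, Ideal.mem_comap, Ideal.Quotient.eq_zero_iff_mem.2 (Ideal.mem_span_singleton_self s)]
        exact Pb.zero_mem
      have hp1 : (P.map g).height = 1 := by
        refine le_antisymm ((Ideal.height_le_iff (n := 1)).2 fun q0 hq0 hlt => ?_) ?_
        · haveI := hq0
          rw [Nat.cast_one, Order.lt_one_iff, Ideal.height_eq_zero_iff,
            IsDomain.minimalPrimes_eq_singleton_bot, Set.mem_singleton_iff]
          have hlt' : q0.comap g < P := by
            refine lt_of_le_of_ne ((Ideal.comap_mono hlt.le).trans hcp.le) fun he => hlt.ne ?_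
            rw [← he, Ideal.map_comap_of_surjective g hg]
          have h0 := (Ideal.height_le_iff (n := 1)).1 (by exact_mod_cast hP1) _ inferInstance hlt'
          rw [Nat.cast_one, Order.lt_one_iff, Ideal.height_eq_zero_iff] at h0
          have hle0 : q0.comap g ≤ q := h0.2 hmin.1 (Ideal.ker_le_comap g)
          rw [eq_bot_iff, ← Ideal.map_comap_of_surjective g hg q0]
          exact (Ideal.map_mono hle0).trans ((Ideal.map_eq_bot_iff_le_ker g).2 le_rfl).le
        · rw [Order.one_le_iff_ne_zero, ne_eq, Ideal.height_eq_zero_iff,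
            IsDomain.minimalPrimes_eq_singleton_bot, Set.mem_singleton_iff]
          intro h0
          have := Ideal.mem_map_of_mem g hsP
          rw [h0, Submodule.mem_bot, hs] at this
          exact hb this
      obtain ⟨t, ht, n, hn⟩ := hm (P.map g) (hG _ hp1)
      apply ht
      refine Ideal.mem_map_of_mem g (hcol t (Ideal.mem_span_singleton.2 ⟨(n : R'), ?_⟩))
      exact congrArg Subtype.val hn
    · obtain ⟨d, hd, hdP⟩ := SetLike.not_le_iff_exists.1 hqP
      apply hdP
      apply hcol
      rw [mul_comm, (memN _).1 m.2 d hd]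
      exact zero_mem _

/-- The normalisation case. -/
theorem finite_hull_of_univCatenary [IsNoetherianRing B] (hA : CAlg.IsUniversallyCatenary B)
    (hint : Module.Finite B (integralClosure B (FractionRing B))) (G : Ideal B → Prop)
    (hG : ∀ (p : Ideal B) [p.IsPrime], p.height = 1 → G p) :
    Module.Finite B (hull G) := by
  haveI := hint
  let S := integralClosure B (FractionRing B)
  haveI : IsNoetherianRing S.toSubring := IsNoetherianRing.of_finite B S
  haveI : Algebra.IsIntegral B S := inferInstance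
  have hle : (hull G).toSubmodule ≤ S.toSubmodule := by
    intro x hx
    by_contra hxS
    let T := S.toSubring.comap (RingHom.id (FractionRing B))
    have hclosed : ∀ z, IsIntegral S.toSubring z → z ∈ S.toSubring := fun z hz => by
      have hz' : IsIntegral S z := hz
      exact isIntegral_trans (R := B) z hz'
    have hfrac : ∀ y : FractionRing B, ∃ b : T, (b : FractionRing B) ≠ 0 ∧
        (b : FractionRing B) * y ∈ T := by
      intro y
      obtain ⟨⟨a, b⟩, hab⟩ := IsLocalization.surj (nonZeroDivisors B) y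
      exact ⟨⟨algebraMap B (FractionRing B) b, S.algebraMap_mem (b : B)⟩,
        (IsLocalization.map_units _ b).ne_zero,
        show algebraMap B (FractionRing B) b * y ∈ S by
          rw [mul_comm, hab]; exact S.algebraMap_mem a⟩
    obtain ⟨P, hP, hP0, hcol, -, hht⟩ :=
      MoriNagata.exists_prime (RingHom.id _) S.toSubring hclosed hfrac (x := x) hxS
    haveI := hP
    let η : S →+* T :=
      { toFun := fun a => ⟨a, a.2⟩
        map_one' := rfl
        map_mul' := fun _ _ => rfl
        map_zero' := rfl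
        map_add' := fun _ _ => rfl }
    have hηs : Function.Surjective η := fun v => ⟨⟨v, v.2⟩, rfl⟩
    have hηi : Function.Injective η := fun a b h =>
      Subtype.ext (congrArg (fun v : T => (v : FractionRing B)) h)
    set P' := P.comap η
    haveI : P'.IsPrime := Ideal.IsPrime.comap η
    have hP'0 : P' ≠ ⊥ := fun h => hP0 (by
      rw [← Ideal.map_comap_of_surjective η hηs P, show P.comap η = ⊥ from h, Ideal.map_bot])
    have hP'1 : P'.height = 1 := by
      refine le_antisymm ((Ideal.height_le_iff (n := 1)).2 fun q hq hlt => ?_) ?_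
      · haveI := hq
        rw [Nat.cast_one, Order.lt_one_iff, Ideal.height_eq_zero_iff,
          IsDomain.minimalPrimes_eq_singleton_bot, Set.mem_singleton_iff]
        have hker : RingHom.ker η ≤ q := by
          rw [(RingHom.injective_iff_ker_eq_bot η).1 hηi]; exact bot_le
        have hcq : (q.map η).comap η = q := by
          rw [Ideal.comap_map_of_surjective η hηs, ← RingHom.ker_eq_comap_bot, sup_eq_left.2 hker]
        have h0 := hht (q.map η) (Ideal.map_isPrime_of_surjective hηs hker)
          (Ideal.map_le_iff_le_comap.2 hlt.le) (fun h => hlt.ne (by rw [← hcq, h]))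
        rw [← hcq, h0, ← RingHom.ker_eq_comap_bot, (RingHom.injective_iff_ker_eq_bot η).1 hηi]
      · rw [Order.one_le_iff_ne_zero, ne_eq, Ideal.height_eq_zero_iff,
          IsDomain.minimalPrimes_eq_singleton_bot, Set.mem_singleton_iff]
        exact hP'0
    set p := P'.comap (algebraMap B S) with hp
    haveI : P'.LiesOver p := ⟨rfl⟩
    haveI : FaithfulSMul B S := (faithfulSMul_iff_algebraMap_injective B S).2 fun a b h =>
      IsFractionRing.injective B (FractionRing B) (congrArg Subtype.val h)
    haveI : Algebra.FiniteType B S := inferInstance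
    haveI : Algebra.IsAlgebraic B S := inferInstance
    haveI : FaithfulSMul (B ⧸ p) (S ⧸ P') := (faithfulSMul_iff_algebraMap_injective _ _).2
      (Ideal.quotientMap_injective' le_rfl)
    haveI : Algebra.IsIntegral (B ⧸ p) (S ⧸ P') := ⟨fun x => by
      obtain ⟨y, rfl⟩ := Ideal.Quotient.mk_surjective x
      obtain ⟨f, hf, hfy⟩ := Algebra.IsIntegral.isIntegral (R := B) y
      refine ⟨f.map (Ideal.Quotient.mk p), hf.map _, ?_⟩
      rw [Polynomial.eval₂_map, show (algebraMap (B ⧸ p) (S ⧸ P')).comp (Ideal.Quotient.mk p) =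
        (Ideal.Quotient.mk P').comp (algebraMap B S) from rfl, ← Polynomial.hom_eval₂, hfy, map_zero]⟩
    haveI : Algebra.IsAlgebraic (B ⧸ p) (S ⧸ P') := Algebra.IsIntegral.isAlgebraic
    have hdim := Groth.Agent.S0555.result B hA S p P'
    rw [trdeg_eq_zero, trdeg_eq_zero, add_zero, add_zero, hP'1] at hdim
    have hp1 : p.height = 1 := (Cardinal.ofENat_inj.1 hdim).symm
    obtain ⟨t, ht, a, ha⟩ := hx p (hG p hp1)
    apply ht
    have h1 : η (algebraMap B S t) ∈ P := hcol _ (show algebraMap B (FractionRing B) t * x ∈ S by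
      rw [← ha]; exact S.algebraMap_mem a)
    exact h1
  haveI : IsNoetherian B S.toSubmodule :=
    isNoetherian_of_fg_of_noetherian _ (Module.Finite.iff_fg.1 hint)
  exact Module.Finite.of_injective (Submodule.inclusion hle) (Submodule.inclusion_injective hle)

theorem heightOneHullFinite [IsNoetherianRing B] (hA : CAlg.IsUniversallyCatenary B)
    (hint : Module.Finite B (integralClosure B (FractionRing B))) : EGA4.HeightOneHullFinite B :=
  ⟨hull fun p => p.height = 1, rfl,
    finite_hull_of_univCatenary hA hint _ fun _ _ h => h⟩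

theorem sections_finite (A : Type u) [CommRing A] [IsNoetherianRing A]
    (hA : (∃ (R : Type u) (_ : CommRing R), IsNoetherianRing R ∧ IsRegularRing R ∧
        ∃ f : R →+* A, Function.Surjective f) ∨
      (CAlg.IsUniversallyCatenary A ∧ CAlg.IsUniversallyJapanese A))
    (q : Ideal A) [q.IsPrime] (J : Ideal (A ⧸ q)) (hJ2 : (2 : ℕ∞) ≤ J.height) :
    ∃ B' : Subalgebra (A ⧸ q) (FractionRing (A ⧸ q)),
      (B' : Set (FractionRing (A ⧸ q))) =
          {x | ∀ (p : Ideal (A ⧸ q)) [p.IsPrime], ¬ J ≤ p →
            ∃ s : A ⧸ q, s ∉ p ∧ ∃ a : A ⧸ q,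
              algebraMap (A ⧸ q) (FractionRing (A ⧸ q)) a = algebraMap (A ⧸ q) (FractionRing (A ⧸ q)) s * x} ∧
        Module.Finite (A ⧸ q) B' := by
  refine ⟨hull fun p => ¬ J ≤ p, rfl, ?_⟩
  have hG : ∀ (p : Ideal (A ⧸ q)) [p.IsPrime], p.height = 1 → ¬ J ≤ p := fun p _ hp hle => by
    have := hJ2.trans ((Ideal.height_mono hle).trans hp.le)
    norm_cast at this
  rcases hA with ⟨R, _, _, hreg, f, hf⟩ | ⟨hcat, hjap⟩
  · haveI := hreg
    haveI := CMUnmixed.isCohenMacaulayRing_of_regular R
    set Q := q.comap f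
    haveI : Q.IsPrime := Ideal.IsPrime.comap f
    obtain ⟨n, hn⟩ := ENat.ne_top_iff_exists.1 (Ideal.height_ne_top (I := Q) Ideal.IsPrime.ne_top')
    obtain ⟨R', _, φ, hφ, hker, hCM, hmin⟩ := CMUnmixed.exists_reduction n R Q hn.ge
    haveI := hCM
    have hψ : ∀ r ∈ RingHom.ker φ, ((Ideal.Quotient.mk q).comp f) r = 0 := fun r hr => by
      rw [RingHom.comp_apply, Ideal.Quotient.eq_zero_iff_mem]
      exact hker hr
    let g : R' →+* A ⧸ q := φ.liftOfSurjective hφ ⟨(Ideal.Quotient.mk q).comp f, hψ⟩
    have hgc : ∀ r, g (φ r) = Ideal.Quotient.mk q (f r) := fun r =>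
      RingHom.liftOfRightInverse_comp_apply φ _ (Function.rightInverse_surjInv hφ)
        ⟨(Ideal.Quotient.mk q).comp f, hψ⟩ r
    have hgs : Function.Surjective g := fun y => by
      obtain ⟨a, rfl⟩ := Ideal.Quotient.mk_surjective y
      obtain ⟨r, rfl⟩ := hf a
      exact ⟨φ r, hgc r⟩
    have hkg : RingHom.ker g = Q.map φ := by
      ext y
      obtain ⟨r, rfl⟩ := hφ y
      rw [RingHom.mem_ker, hgc, Ideal.Quotient.eq_zero_iff_mem, ← Ideal.mem_comap (f := φ),
        Ideal.comap_map_of_surjective φ hφ, ← RingHom.ker_eq_comap_bot, sup_eq_left.2 hker]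
      rfl
    exact finite_hull_of_CM _ hG R' g hgs (hkg ▸ hmin)
  · have hcat' : CAlg.IsUniversallyCatenary (A ⧸ q) := by
      refine ⟨inferInstance, fun S _ _ hS => ?_⟩
      letI : Algebra A S := ((algebraMap (A ⧸ q) S).comp (algebraMap A (A ⧸ q))).toAlgebra
      haveI : IsScalarTower A (A ⧸ q) S := IsScalarTower.of_algebraMap_eq fun _ => rfl
      exact hcat.2 S (Algebra.FiniteType.trans (S := A ⧸ q) inferInstance hS)
    exact finite_hull_of_univCatenary hcat'
      (hjap (A ⧸ q) inferInstance (FractionRing (A ⧸ q)) inferInstance) _ hG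

end Groth.Agent.H25.Hull
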