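import Groth.Agent.Lib.Tor.Balance
import Mathlib.Algebra.Category.ModuleCat.Abelian
import Mathlib.Algebra.Homology.HomologySequence
import Mathlib.CategoryTheory.Abelian.LeftDerived

/-!
# Long exact sequence of Tor in the second variable
-/

universe u

namespace Groth.Agent.H25.TorLES

open CategoryTheory CategoryTheory.Limits MonoidalCategory

variable {A : Type u} [CommRing A] (M : ModuleCat.{u} A)

/-- `Tor_n(M, -)`. -/
noncomputable abbrev T (n : ℕ) : ModuleCat.{u} A ⥤ ModuleCat.{u} A :=
  (CategoryTheory.Tor (ModuleCat.{u} A) n).obj M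

/-- The homology of `P ⊗ -` for the chosen resolution. -/
noncomputable abbrev Hf (n : ℕ) : ModuleCat.{u} A ⥤ ModuleCat.{u} A :=
  Lib.Tor.Balance.tensorCxFun (projectiveResolution M).complex ⋙
    HomologicalComplex.homologyFunctor _ (ComplexShape.down ℕ) n

/-- `H_n(P ⊗ -) ≅ Tor_n(M, -)`. -/
noncomputable def comparison (n : ℕ) : Hf M n ≅ T M n :=
  Lib.Tor.Balance.torIsoOfResolution (projectiveResolution M) n

instance tensorCxFun_additive (P : ChainComplex (ModuleCat.{u} A) ℕ) :
    (Lib.Tor.Balance.tensorCxFun P).Additive where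
  map_add {X Y f g} := by
    ext i : 1
    exact MonoidalPreadditive.whiskerLeft_add f g

instance T_additive (n : ℕ) : (T M n).Additive := Functor.additive_of_iso (comparison M n)

instance tensorLeft_preservesFiniteColimits : PreservesFiniteColimits (tensorLeft M) :=
  have : PreservesColimitsOfSize.{0, 0} (tensorLeft M) := inferInstance
  PreservesColimitsOfSize.preservesFiniteColimits _

/-- `Tor_0(M, -) ≅ M ⊗ -`. -/
noncomputable def zeroIso : T M 0 ≅ tensorLeft M :=
  have : PreservesFiniteColimits ((tensoringLeft (ModuleCat.{u} A)).obj M) :=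
    tensorLeft_preservesFiniteColimits M
  ((tensoringLeft (ModuleCat.{u} A)).obj M).leftDerivedZeroIsoSelf

variable {M} {S : ShortComplex (ModuleCat.{u} A)} (hS : S.ShortExact)

include hS in
lemma shortExact_cx :
    (S.map (Lib.Tor.Balance.tensorCxFun (projectiveResolution M).complex)).ShortExact :=
  Lib.Tor.Balance.shortExact_tensorCxFun _
    (fun i => Lib.Tor.Balance.flat_of_projective ((projectiveResolution M).complex.X i)) S hS

lemma map_eq (n : ℕ) {X Y : ModuleCat.{u} A} (f : X ⟶ Y) :
    (T M n).map f = (comparison M n).inv.app X ≫ (Hf M n).map f ≫ (comparison M n).hom.app Y := by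
  rw [(comparison M n).hom.naturality, Iso.inv_hom_id_app_assoc]

/-- The connecting map on `H(P ⊗ -)`. -/
noncomputable def δ' (n : ℕ) : (Hf M (n + 1)).obj S.X₃ ⟶ (Hf M n).obj S.X₁ :=
  (shortExact_cx hS).δ (n + 1) n (by simp)

lemma δ'_comp (n : ℕ) : δ' (M := M) hS n ≫ (Hf M n).map S.f = 0 :=
  (shortExact_cx (M := M) hS).δ_comp (n + 1) n (by simp)

lemma comp_δ' (n : ℕ) : (Hf M (n + 1)).map S.g ≫ δ' hS n = 0 :=
  (shortExact_cx (M := M) hS).comp_δ (n + 1) n (by simp)

/-- The connecting map. -/
noncomputable def δ (n : ℕ) : (T M (n + 1)).obj S.X₃ ⟶ (T M n).obj S.X₁ :=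
  (comparison M (n + 1)).inv.app _ ≫ δ' hS n ≫
    (comparison M n).hom.app _

lemma map_comp (n : ℕ) : (T M n).map S.f ≫ (T M n).map S.g = 0 := by
  rw [← Functor.map_comp, S.zero]
  exact (T M n).map_zero _ _

include hS in
lemma exact₂ (n : ℕ) (w : (T M n).map S.f ≫ (T M n).map S.g = 0) :
    (ShortComplex.mk ((T M n).map S.f) ((T M n).map S.g) w).Exact := by
  refine ShortComplex.exact_of_iso ?_ ((shortExact_cx (M := M) hS).homology_exact₂ n)
  exact ShortComplex.isoMk ((comparison M n).app _) ((comparison M n).app _)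
    ((comparison M n).app _) ((comparison M n).hom.naturality S.f).symm
    ((comparison M n).hom.naturality S.g).symm

lemma δ_comp (n : ℕ) : δ hS n ≫ (T M n).map S.f = 0 := by
  rw [δ, map_eq, Category.assoc, Category.assoc, Iso.hom_inv_id_app_assoc]
  rw [← Category.assoc (δ' hS n), δ'_comp hS n, zero_comp, comp_zero]

lemma comp_δ (n : ℕ) : (T M (n + 1)).map S.g ≫ δ hS n = 0 := by
  rw [δ, map_eq, Category.assoc, Category.assoc, Iso.hom_inv_id_app_assoc]
  rw [← Category.assoc ((Hf M (n + 1)).map S.g), comp_δ' hS n, zero_comp, comp_zero]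

lemma exact₁ (n : ℕ) : (ShortComplex.mk (δ hS n) ((T M n).map S.f) (δ_comp hS n)).Exact := by
  refine ShortComplex.exact_of_iso ?_
    ((shortExact_cx (M := M) hS).homology_exact₁ (n + 1) n (by simp))
  exact ShortComplex.isoMk ((comparison M (n + 1)).app _) ((comparison M n).app _)
    ((comparison M n).app _) (Iso.hom_inv_id_app_assoc (comparison M (n + 1)) S.X₃ _) ((comparison M n).hom.naturality S.f).symm

lemma exact₃ (n : ℕ) :
    (ShortComplex.mk ((T M (n + 1)).map S.g) (δ hS n) (comp_δ hS n)).Exact := by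
  refine ShortComplex.exact_of_iso ?_
    ((shortExact_cx (M := M) hS).homology_exact₃ (n + 1) n (by simp))
  exact ShortComplex.isoMk ((comparison M (n + 1)).app _) ((comparison M (n + 1)).app _)
    ((comparison M n).app _) ((comparison M (n + 1)).hom.naturality S.g).symm (Iso.hom_inv_id_app_assoc (comparison M (n + 1)) S.X₃ _)

include hS in
lemma epi_zero : Epi ((T M 0).map S.g) := by
  have : Epi S.g := hS.epi_g
  have h : (T M 0).map S.g =
      (zeroIso M).hom.app _ ≫ (tensorLeft M).map S.g ≫ (zeroIso M).inv.app _ := by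
    rw [(zeroIso M).inv.naturality, Iso.hom_inv_id_app_assoc]
  rw [h]
  have : Epi ((tensorLeft M).map S.g) :=
    ((ModuleCat.epi_iff_surjective _).mpr
      (LinearMap.lTensor_surjective M ((ModuleCat.epi_iff_surjective _).mp hS.epi_g)))
  exact epi_comp' inferInstance (epi_comp' this inferInstance)

/-- If `Tor_{n+1}(M, X₂) = 0` then `δ` is injective. -/
lemma mono_δ (n : ℕ) (h : IsZero ((T M (n + 1)).obj S.X₂)) : Mono (δ (M := M) hS n) :=
  (exact₃ hS n).mono_g (h.eq_of_src _ _)

include hS in
lemma isZero_mid (n : ℕ) (h₁ : IsZero ((T M n).obj S.X₁)) (h₃ : IsZero ((T M n).obj S.X₃)) :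
    IsZero ((T M n).obj S.X₂) :=
  (exact₂ hS n (map_comp n)).isZero_of_both_zeros (h₁.eq_of_src _ _) (h₃.eq_of_tgt _ _)

include hS in
lemma isZero_right (n : ℕ) (h₂ : IsZero ((T M (n + 1)).obj S.X₂)) (h₁ : IsZero ((T M n).obj S.X₁)) :
    IsZero ((T M (n + 1)).obj S.X₃) :=
  (exact₃ hS n).isZero_of_both_zeros (h₂.eq_of_src _ _) (h₁.eq_of_tgt _ _)

include hS in
lemma isZero_left (n : ℕ) (h₃ : IsZero ((T M (n + 1)).obj S.X₃)) (h₂ : IsZero ((T M n).obj S.X₂)) :
    IsZero ((T M n).obj S.X₁) :=
  (exact₁ hS n).isZero_of_both_zeros (h₃.eq_of_src _ _) (h₂.eq_of_tgt _ _)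

/-- `Tor_n(-,-)` is finite for finite modules over a Noetherian ring. -/
lemma finite_tor [IsNoetherianRing A] (M : ModuleCat.{u} A) [Module.Finite A M] :
    ∀ (n : ℕ) (N : ModuleCat.{u} A), Module.Finite A N → Module.Finite A ((T M n).obj N)
  | 0, N, _ => by
    have : Module.Finite A ((tensorLeft M).obj N) := inferInstanceAs (Module.Finite A (TensorProduct A M N))
    exact Module.Finite.equiv ((zeroIso M).app N).toLinearEquiv.symm
  | n + 1, N, _ => by
    obtain ⟨k, f, hf⟩ := Module.Finite.exists_fin' A N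
    let S := f.shortComplexKer
    have hS : S.ShortExact := LinearMap.shortExact_shortComplexKer hf
    have : Module.Flat A S.X₂ := inferInstanceAs (Module.Flat A (Fin k → A))
    have hz := Lib.Tor.Balance.isZero_tor_succ_of_flat_right M S.X₂ n
    have := finite_tor M n S.X₁ (inferInstanceAs (Module.Finite A (LinearMap.ker f)))
    have := mono_δ hS n hz
    exact Module.Finite.of_injective (δ hS n).hom ((ModuleCat.mono_iff_injective _).mp this)

end Groth.Agent.H25.TorLES
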