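import Groth.Prelude.Def_Fitting
import Mathlib.LinearAlgebra.Matrix.Adjugate
import Mathlib.LinearAlgebra.Matrix.SchurComplement
import Mathlib.LinearAlgebra.TensorProduct.RightExactness
import Mathlib.LinearAlgebra.Dimension.Free
import Mathlib.RingTheory.TensorProduct.IsBaseChangePi
import Mathlib.RingTheory.TensorProduct.Finite
import Mathlib.RingTheory.IsTensorProduct
import Mathlib.RingTheory.Finiteness.Basic
import Mathlib.Data.Fin.Tuple.Basic

/-!
# Fitting ideals: independence of generators, presentations, base change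
-/

universe u v w

open TensorProduct Matrix

namespace Groth.Agent.H25.Fitting

variable {R : Type u} [CommRing R] {M : Type v} [AddCommGroup M] [Module R M]

/-- Relations among `x`. -/
noncomputable def rel {ι : Type*} [Fintype ι] (x : ι → M) : Submodule R (ι → R) :=
  LinearMap.ker (Fintype.linearCombination R x)

@[simp] lemma mem_rel {ι : Type*} [Fintype ι] {x : ι → M} {v : ι → R} :
    v ∈ rel x ↔ ∑ i, v i • x i = 0 := Iff.rfl

/-- `p × p` minors of rows taken in `S`. -/
def Mn {ι : Type*} (S : Set (ι → R)) (p : ℕ) : Ideal R :=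
  Ideal.span {d | ∃ (z : Fin p → ι → R) (e : Fin p → ι), (∀ b, z b ∈ S) ∧
    d = (Matrix.of fun a b => z b (e a)).det}

lemma det_mem_Mn {ι : Type*} {S : Set (ι → R)} {p : ℕ} (z : Fin p → ι → R) (e : Fin p → ι)
    (hz : ∀ b, z b ∈ S) : (Matrix.of fun a b => z b (e a)).det ∈ Mn S p :=
  Ideal.subset_span ⟨z, e, hz, rfl⟩

lemma det_mem_Mn' {ι : Type*} {S : Set (ι → R)} {p : ℕ} (z : Fin p → ι → R) (e : Fin p → ι)
    (hz : ∀ b, z b ∈ S) : (Matrix.of fun b a => z b (e a)).det ∈ Mn S p := by
  have h := det_mem_Mn z e hz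
  rwa [← Matrix.det_transpose] at h

lemma Mn_mono {ι : Type*} {S S' : Set (ι → R)} (h : S ⊆ S') (p : ℕ) : Mn S p ≤ Mn S' p :=
  Ideal.span_mono fun d ⟨z, e, hz, hd⟩ => ⟨z, e, fun b => h (hz b), hd⟩

lemma Mn_zero {ι : Type*} (S : Set (ι → R)) : Mn S 0 = ⊤ := by
  rw [Ideal.eq_top_iff_one]
  have := det_mem_Mn (S := S) (p := 0) (fun b => b.elim0) (fun b => b.elim0) (fun b => b.elim0)
  rwa [Matrix.det_isEmpty] at this

lemma multilinear_mem {p : ℕ} {N : Type w} [AddCommGroup N] [Module R N]
    (f : MultilinearMap R (fun _ : Fin p => N) R) (S : Set N) (J : Ideal R)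
    (h : ∀ z : Fin p → N, (∀ b, z b ∈ S) → f z ∈ J) :
    ∀ (z : Fin p → N), (∀ b, z b ∈ Submodule.span R S) → f z ∈ J := by
  intro z hz
  classical
  suffices ∀ (T : Finset (Fin p)) (z : Fin p → N), (∀ b ∈ T, z b ∈ Submodule.span R S) →
      (∀ b ∉ T, z b ∈ S) → f z ∈ J from
    this Finset.univ z (fun b _ => hz b) (fun b hb => absurd (Finset.mem_univ b) hb)
  intro T
  induction T using Finset.induction with
  | empty => exact fun z _ hz => h z fun b => hz b (Finset.notMem_empty b)
  | @insert c T hc ih =>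
    intro z hz hz'
    have key : ∀ y ∈ Submodule.span R S, f (Function.update z c y) ∈ J := by
      intro y hy
      induction hy using Submodule.span_induction with
      | mem y hy =>
        refine ih _ (fun b hb => ?_) (fun b hb => ?_)
        · rw [Function.update_of_ne (by rintro rfl; exact hc hb)]
          exact hz b (Finset.mem_insert_of_mem hb)
        · rcases eq_or_ne b c with rfl | hbc
          · rwa [Function.update_self]
          · rw [Function.update_of_ne hbc]
            exact hz' b (by simp [hb, hbc])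
      | zero => rw [f.map_update_zero]; exact zero_mem _
      | add a b _ _ ha hb => rw [f.map_update_add]; exact add_mem ha hb
      | smul r a _ ha => rw [f.map_update_smul]; exact J.mul_mem_left r ha
    have := key (z c) (hz c (Finset.mem_insert_self c T))
    rwa [Function.update_eq_self] at this

/-- The determinant of the selected columns, multilinear in the rows. -/
noncomputable def detMap {ι : Type*} {p : ℕ} (e : Fin p → ι) :
    MultilinearMap R (fun _ : Fin p => ι → R) R :=
  (Matrix.detRowAlternating (R := R) (n := Fin p)).toMultilinearMap.compLinearMap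
    (fun _ => LinearMap.funLeft R R e)

lemma detMap_apply {ι : Type*} {p : ℕ} (e : Fin p → ι) (z : Fin p → ι → R) :
    detMap e z = (Matrix.of fun a b => z b (e a)).det := by
  rw [← Matrix.det_transpose]
  rfl

lemma Mn_span {ι : Type*} (S : Set (ι → R)) (p : ℕ) :
    Mn (Submodule.span R S : Set (ι → R)) p = Mn S p := by
  refine le_antisymm ?_ (Mn_mono Submodule.subset_span p)
  refine Ideal.span_le.mpr ?_
  rintro d ⟨z, e, hz, rfl⟩
  rw [← detMap_apply]
  exact multilinear_mem (detMap e) S (Mn S p)
    (fun z hz => by rw [detMap_apply]; exact det_mem_Mn z e hz) z hz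

lemma Mn_eq_bot_of_card_lt {ι κ : Type*} [Fintype κ] (c : κ → ι → R) {p : ℕ}
    (h : Fintype.card κ < p) : Mn (Set.range c) p = ⊥ := by
  rw [Mn, Ideal.span_eq_bot]
  rintro d ⟨z, e, hz, rfl⟩
  choose g hg using hz
  obtain ⟨b, b', hbb, hg'⟩ := Fintype.exists_ne_map_eq_of_card_lt g (by simpa using h)
  refine Matrix.det_zero_of_column_eq hbb fun a => ?_
  simp only [Matrix.of_apply, ← hg, hg']

lemma Mn_fg {ι : Type*} [Finite ι] {S : Set (ι → R)} (hS : S.Finite) (p : ℕ) : (Mn S p).FG := by
  refine Submodule.fg_span ?_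
  have : Finite S := hS
  refine (Set.finite_range fun ze : (Fin p → S) × (Fin p → ι) =>
    (Matrix.of fun a b => (ze.1 b : ι → R) (ze.2 a)).det).subset ?_
  rintro d ⟨z, e, hz, rfl⟩
  exact ⟨(fun b => ⟨z b, hz b⟩, e), rfl⟩

/-- Square matrices whose first `n - k` rows are relations. -/
noncomputable def Fx {n : ℕ} (x : Fin n → M) (k : ℕ) : Ideal R :=
  Ideal.span {d | ∃ a : Matrix (Fin n) (Fin n) R,
    (∀ i : Fin n, (i : ℕ) < n - k → a i ∈ rel x) ∧ d = a.det}

lemma det_mem_Mn_of_top_rows {ι : Type*} (S : Set (ι → R)) (p : ℕ) :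
    ∀ (q : ℕ) (e : Fin (p + q) → ι) (A : Matrix (Fin (p + q)) (Fin (p + q)) R),
      (∀ i : Fin p, ∃ v ∈ S, ∀ j, A (Fin.castAdd q i) j = v (e j)) → A.det ∈ Mn S p
  | 0, e, A, h => by
    choose z hz hA using h
    have : A = Matrix.of fun b a => z b (e a) := by
      ext i j; exact hA i j
    rw [this]
    exact det_mem_Mn' z e hz
  | q + 1, e, A, h => by
    rw [Matrix.det_succ_row A (Fin.last (p + q))]
    refine sum_mem fun j _ => Ideal.mul_mem_left _ _ ?_
    refine det_mem_Mn_of_top_rows S p q (e ∘ j.succAbove) _ fun i => ?_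
    obtain ⟨v, hv, hA⟩ := h i
    refine ⟨v, hv, fun j' => ?_⟩
    have hi : (Fin.last (p + q)).succAbove (Fin.castAdd q i) = Fin.castAdd (q + 1) i := by
      rw [Fin.succAbove_last]; rfl
    exact (congrArg (fun t => A t (j.succAbove j')) hi).trans (hA _)

lemma Fx_eq_Mn {n : ℕ} (x : Fin n → M) (k : ℕ) : Fx (R := R) x k = Mn (rel (R := R) x : Set (Fin n → R)) (n - k) := by
  refine le_antisymm (Ideal.span_le.mpr ?_) (Ideal.span_le.mpr ?_)
  · rintro d ⟨a, ha, rfl⟩
    obtain ⟨q, hq⟩ := Nat.exists_eq_add_of_le (Nat.sub_le n k)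
    generalize n - k = p at ha hq ⊢
    subst hq
    exact det_mem_Mn_of_top_rows _ p q id a fun i => ⟨a _, ha _ i.isLt, fun j => rfl⟩
  · rintro d ⟨z, e, hz, rfl⟩
    classical
    by_cases he : Function.Injective e
    swap
    · obtain ⟨a, a', h, hne⟩ : ∃ a a', e a = e a' ∧ a ≠ a' := by
        simpa [Function.Injective, and_comm] using he
      rw [Matrix.det_zero_of_row_eq hne (funext fun b => by simp [h])]
      exact zero_mem _
    obtain ⟨q, hq⟩ := Nat.exists_eq_add_of_le (Nat.sub_le n k)
    have hcard : Fintype.card {j : Fin n // j ∉ Set.range e} = q := by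
      rw [Fintype.card_subtype_compl]
      simp only [Set.mem_range, Fintype.card_fin]
      have : Fintype.card {j : Fin n // ∃ a, e a = j} = n - k := by
        rw [← Nat.card_eq_fintype_card]
        exact (Nat.card_congr (Equiv.ofInjective e he).symm).trans (Nat.card_fin _)
      omega
    let c : Fin (n - k) ⊕ Fin q ≃ Fin n :=
      (Equiv.sumCongr (Equiv.ofInjective e he) (Fintype.equivFinOfCardEq hcard).symm).trans
        (Equiv.sumCompl (· ∈ Set.range e))
    let r : Fin (n - k) ⊕ Fin q ≃ Fin n := finSumFinEquiv.trans (finCongr hq.symm)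
    let B : Matrix (Fin (n - k) ⊕ Fin q) (Fin (n - k) ⊕ Fin q) R :=
      Matrix.fromBlocks (Matrix.of fun b a => z b (c (.inl a)))
        (Matrix.of fun b a => z b (c (.inr a))) 0 1
    let A : Matrix (Fin n) (Fin n) R := B.submatrix r.symm c.symm
    have hB : B.det = (Matrix.of fun a b => z b (e a)).det := by
      rw [Matrix.det_fromBlocks_zero₂₁, Matrix.det_one, mul_one, ← Matrix.det_transpose]
      rfl
    have hA : A.det = Equiv.Perm.sign (c.symm.trans r) * B.det := by
      have h1 : A = (B.submatrix r.symm r.symm).submatrix id (c.symm.trans r) := by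
        ext i j; simp [A]
      rw [h1, Matrix.det_permute', Matrix.det_submatrix_equiv_self]
    have hmem : A.det ∈ Fx (R := R) x k := by
      refine Ideal.subset_span ⟨A, fun i hi => ?_, rfl⟩
      have hi' : r.symm i = .inl ⟨i, hi⟩ := by
        rw [Equiv.symm_apply_eq]
        simp [r]
      have : A i = z ⟨i, hi⟩ := by
        funext j
        obtain ⟨s, rfl⟩ := c.surjective j
        simp only [A, Matrix.submatrix_apply, hi', Equiv.symm_apply_apply, B]
        rcases s with s | s <;> simp
      rw [this]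
      exact hz _
    rw [hA, hB] at hmem
    exact (Ideal.unit_mul_mem_iff_mem _
      ((Units.isUnit _).map (Int.castRingHom R))).mp hmem

lemma Fx_comp_equiv {n : ℕ} (x : Fin n → M) (σ : Equiv.Perm (Fin n)) (k : ℕ) :
    Fx (R := R) (x ∘ σ) k = Fx (R := R) x k := by
  suffices ∀ (x : Fin n → M) (σ : Equiv.Perm (Fin n)), Fx (R := R) (x ∘ σ) k ≤ Fx (R := R) x k by
    refine le_antisymm (this x σ) ?_
    conv_lhs => rw [show x = (x ∘ σ) ∘ σ.symm by funext i; simp]
    exact this _ σ.symm
  intro x σ
  refine Ideal.span_le.mpr ?_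
  rintro d ⟨a, ha, rfl⟩
  have hmem : (a.submatrix id σ.symm).det ∈ Fx (R := R) x k := by
    refine Ideal.subset_span ⟨_, fun i hi => ?_, rfl⟩
    have := mem_rel.mp (ha i hi)
    rw [mem_rel, ← Equiv.sum_comp σ]
    simpa using this
  rw [Matrix.det_permute'] at hmem
  exact (Ideal.unit_mul_mem_iff_mem _
    ((Units.isUnit _).map (Int.castRingHom R))).mp hmem

lemma Fx_snoc {n : ℕ} (x : Fin n → M) (w : M) (hw : w ∈ Submodule.span R (Set.range x)) (k : ℕ) :
    Fx (R := R) (Fin.snoc x w : Fin (n + 1) → M) k = Fx (R := R) x k := by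
  obtain ⟨c, hc⟩ := (Submodule.mem_span_range_iff_exists_fun R).mp hw
  refine le_antisymm (Ideal.span_le.mpr ?_) (Ideal.span_le.mpr ?_)
  · rintro d ⟨A, hA, rfl⟩
    let U : Matrix (Fin (n + 1)) (Fin (n + 1)) R :=
      Matrix.of fun i j => Fin.lastCases ((Fin.snoc c 1 : Fin (n + 1) → R) j) (fun i' => if i'.castSucc = j then 1 else 0) i
    have hU : U.det = 1 := by
      rw [Matrix.det_of_lowerTriangular]
      · refine Finset.prod_eq_one fun i _ => ?_
        induction i using Fin.lastCases <;> simp [U]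
      · intro i j hij
        induction i using Fin.lastCases with
        | last =>
          exact absurd (OrderDual.toDual_lt_toDual.mp hij) (not_lt.mpr (Fin.le_last j))
        | cast i =>
          have : i.castSucc ≠ j := (OrderDual.toDual_lt_toDual.mp hij).ne
          simp [U, this]
    have hAU : (A * U).det = A.det := by rw [Matrix.det_mul, hU, mul_one]
    have e1 : ∀ i j, (A * U) i (Fin.castSucc j) = A i j.castSucc + A i (Fin.last n) * c j := by
      intro i j
      rw [Matrix.mul_apply, Fin.sum_univ_castSucc]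
      simp [U]
    rw [← hAU, Matrix.det_succ_column (A * U) (Fin.last n)]
    refine sum_mem fun i _ => Ideal.mul_mem_left _ _ ?_
    refine Ideal.subset_span ⟨_, fun j hj => ?_, rfl⟩
    have hlt : ((i.succAbove j : Fin (n + 1)) : ℕ) < n + 1 - k := by
      have : ((i.succAbove j : Fin (n + 1)) : ℕ) ≤ j + 1 := by
        rw [Fin.succAbove]; split_ifs <;> simp
      omega
    have h := mem_rel.mp (hA _ hlt)
    rw [Fin.sum_univ_castSucc] at h
    simp only [Fin.snoc_castSucc, Fin.snoc_last] at h
    rw [mem_rel, ← h]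
    simp only [Matrix.submatrix_apply, Fin.succAbove_last, e1, add_smul, Finset.sum_add_distrib,
      mul_smul, ← Finset.smul_sum, hc]
  · rintro d ⟨a, ha, rfl⟩
    let B : Matrix (Fin (n + 1)) (Fin (n + 1)) R :=
      Matrix.of (Fin.cons (Fin.snoc (-c) 1 : Fin (n + 1) → R) fun i => (Fin.snoc (a i) 0 : Fin (n + 1) → R))
    have hBd : B.det = (-1) ^ n * a.det := by
      rw [Matrix.det_succ_column B (Fin.last n), Fin.sum_univ_succ]
      rw [Finset.sum_eq_zero (fun i _ => by simp [B]), add_zero]
      have hsub : B.submatrix (Fin.succAbove 0) (Fin.succAbove (Fin.last n)) = a := by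
        ext i j
        simp [B, Fin.succAbove_zero, Fin.succAbove_last]
      rw [hsub]
      simp [B]
    have hmem : B.det ∈ Fx (R := R) (Fin.snoc x w : Fin (n + 1) → M) k := by
      refine Ideal.subset_span ⟨B, fun i hi => ?_, rfl⟩
      rw [mem_rel, Fin.sum_univ_castSucc]
      induction i using Fin.cases with
      | zero => simp [B, hc, Finset.sum_neg_distrib]
      | succ i =>
        have hi' : (i : ℕ) < n - k := by simp only [Fin.val_succ] at hi; omega
        simpa [B] using mem_rel.mp (ha i hi')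
    rw [hBd] at hmem
    exact (Ideal.unit_mul_mem_iff_mem _ ((isUnit_neg_one).pow n)).mp hmem

lemma Fx_append {n : ℕ} (x : Fin n → M) : ∀ {m : ℕ} (y : Fin m → M),
    (∀ i, y i ∈ Submodule.span R (Set.range x)) → ∀ k,
    Fx (R := R) (Fin.append x y) k = Fx (R := R) x k
  | 0, y, _, k => by
    rw [Subsingleton.elim y Fin.elim0, Fin.append_elim0]
    rfl
  | m + 1, y, h, k => by
    have h1 : Fin.append x y = Fin.snoc (Fin.append x (Fin.init y)) (y (Fin.last m)) := by
      rw [← Fin.append_snoc, Fin.snoc_init_self]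
    rw [h1]
    refine (Fx_snoc _ _ ?_ k).trans (Fx_append x _ (fun i => h _) k)
    refine Submodule.span_mono ?_ (h (Fin.last m))
    rintro _ ⟨i, rfl⟩
    exact ⟨Fin.castAdd m i, Fin.append_left _ _ i⟩

lemma Fx_eq_of_span {n m : ℕ} (x : Fin n → M) (y : Fin m → M)
    (hy : ∀ i, y i ∈ Submodule.span R (Set.range x)) (hx : ∀ i, x i ∈ Submodule.span R (Set.range y))
    (k : ℕ) : Fx (R := R) x k = Fx (R := R) y k := by
  rw [← Fx_append x y hy k, ← Fx_append y x hx k]
  have key : ∀ {a b : ℕ} (h : a = b) (f : Fin b → M),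
      Fx (R := R) (f ∘ Fin.cast h) k = Fx (R := R) f k := by
    intro a b h f; subst h; rfl
  have e : Fin.append x y = (Fin.append y x ∘ Fin.cast (Nat.add_comm n m)) ∘
      (finAddFlip.trans (finCongr (Nat.add_comm n m).symm) : Equiv.Perm (Fin (n + m))) := by
    funext i
    induction i using Fin.addCases <;> simp
  rw [e, Fx_comp_equiv, key]

/-- The Fitting ideal is computed by any generating tuple. -/
theorem ideal_eq_Fx {n : ℕ} (x : Fin n → M) (hx : Submodule.span R (Set.range x) = ⊤) (k : ℕ) :
    Fitt.ideal R M k = Fx (R := R) x k := by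
  refine le_antisymm (Ideal.span_le.mpr ?_) (Ideal.span_le.mpr ?_)
  · rintro d ⟨m, y, a, hy, ha, rfl⟩
    rw [Fx_eq_of_span x y (fun i => hx ▸ Submodule.mem_top) (fun i => hy ▸ Submodule.mem_top) k]
    exact Ideal.subset_span ⟨a, fun i hi => mem_rel.mpr (ha i hi), rfl⟩
  · rintro d ⟨a, ha, rfl⟩
    exact Ideal.subset_span ⟨n, x, a, hx, fun i hi => mem_rel.mp (ha i hi), rfl⟩

theorem ideal_eq {n : ℕ} (x : Fin n → M) (hx : Submodule.span R (Set.range x) = ⊤) (k : ℕ) :
    Fitt.ideal R M k = Mn (rel (R := R) x : Set (Fin n → R)) (n - k) :=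
  (ideal_eq_Fx x hx k).trans (Fx_eq_Mn x k)

theorem ideal_eq_of_rel {n : ℕ} (x : Fin n → M) (hx : Submodule.span R (Set.range x) = ⊤)
    (S : Set (Fin n → R)) (hS : rel x = Submodule.span R S) (k : ℕ) :
    Fitt.ideal R M k = Mn S (n - k) := by
  rw [ideal_eq x hx k, hS, Mn_span]

theorem ideal_eq_top {n : ℕ} (x : Fin n → M) (hx : Submodule.span R (Set.range x) = ⊤) {k : ℕ}
    (hk : n ≤ k) : Fitt.ideal R M k = ⊤ := by
  rw [ideal_eq x hx k, Nat.sub_eq_zero_of_le hk, Mn_zero]

lemma span_range_comp {M' : Type*} [AddCommGroup M'] [Module R M'] (f : M →ₗ[R] M')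
    (hf : Function.Surjective f) {ι : Type*} (x : ι → M) (hx : Submodule.span R (Set.range x) = ⊤) :
    Submodule.span R (Set.range (f ∘ x)) = ⊤ := by
  rw [Set.range_comp, Submodule.span_image, hx, Submodule.map_top, LinearMap.range_eq_top.mpr hf]

theorem ideal_le_of_surjective [Module.Finite R M] {M' : Type w} [AddCommGroup M'] [Module R M']
    (f : M →ₗ[R] M') (hf : Function.Surjective f) (k : ℕ) :
    Fitt.ideal R M k ≤ Fitt.ideal R M' k := by
  obtain ⟨n, x, hx⟩ := Module.Finite.exists_fin (R := R) (M := M)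
  rw [ideal_eq x hx k, ideal_eq _ (span_range_comp f hf x hx) k]
  refine Mn_mono (fun v hv => mem_rel.mpr ?_) _
  have := congrArg f (mem_rel.mp hv)
  simpa [map_sum] using this

theorem ideal_congr [Module.Finite R M] {M' : Type w} [AddCommGroup M'] [Module R M']
    (e : M ≃ₗ[R] M') (k : ℕ) : Fitt.ideal R M k = Fitt.ideal R M' k :=
  have : Module.Finite R M' := Module.Finite.equiv e
  le_antisymm (ideal_le_of_surjective e.toLinearMap e.surjective k)
    (ideal_le_of_surjective e.symm.toLinearMap e.symm.surjective k)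

lemma map_Mn {R' : Type*} [CommRing R'] (f : R →+* R') {ι : Type*} (S : Set (ι → R)) (p : ℕ) :
    (Mn S p).map f = Mn ((fun v => f ∘ v) '' S) p := by
  rw [Mn, Ideal.map_span, Mn]
  congr 1
  ext d
  constructor
  · rintro ⟨_, ⟨z, e, hz, rfl⟩, rfl⟩
    refine ⟨fun b => f ∘ z b, e, fun b => ⟨z b, hz b, rfl⟩, ?_⟩
    rw [RingHom.map_det]; rfl
  · rintro ⟨z, e, hz, rfl⟩
    choose z' hz' hzz using hz
    refine ⟨_, ⟨z', e, hz', rfl⟩, ?_⟩
    rw [RingHom.map_det]
    refine congrArg Matrix.det ?_
    ext a b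
    simp [← hzz]

section BaseChange

variable (R' : Type*) [CommRing R'] [Algebra R R']

lemma span_range_baseChange {n : ℕ} (x : Fin n → M) (hx : Submodule.span R (Set.range x) = ⊤) :
    Submodule.span R' (Set.range fun i => (1 : R') ⊗ₜ[R] x i) = ⊤ := by
  have h := congrArg (Submodule.baseChange R') hx
  rw [Submodule.baseChange_span, Submodule.baseChange_top, ← Set.range_comp] at h
  exact h

lemma rel_baseChange {n : ℕ} (x : Fin n → M) (hx : Submodule.span R (Set.range x) = ⊤) :
    rel (R := R') (fun i => (1 : R') ⊗ₜ[R] x i) =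
      Submodule.span R' ((fun v => algebraMap R R' ∘ v) '' (rel (R := R) x : Set (Fin n → R))) := by
  let π := Fintype.linearCombination R x
  have hπ : Function.Surjective π := LinearMap.range_eq_top.mp (by
    rw [Fintype.range_linearCombination]; exact hx)
  have hex : Function.Exact (rel (R := R) x).subtype π := LinearMap.exact_subtype_ker_map π
  have h2 := lTensor_exact R' hex hπ
  let E : R' ⊗[R] (Fin n → R) ≃ₗ[R'] (Fin n → R') :=
    TensorProduct.piScalarRight R R' R' (Fin n)
  have hE : ∀ t, Fintype.linearCombination R' (fun i => (1 : R') ⊗ₜ[R] x i) (E t) =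
      π.lTensor R' t := by
    intro t
    induction t using TensorProduct.induction_on with
    | zero => simp
    | add a b ha hb => rw [map_add, map_add, ha, hb, map_add]
    | tmul r v =>
      simp only [E, piScalarRight_apply, piScalarRightHom_tmul, Fintype.linearCombination_apply,
        LinearMap.lTensor_tmul, π, tmul_sum]
      refine Finset.sum_congr rfl fun i _ => ?_
      rw [TensorProduct.smul_tmul', smul_eq_mul, mul_one, TensorProduct.smul_tmul]
  refine le_antisymm (fun v hv => ?_) (Submodule.span_le.mpr ?_)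
  · obtain ⟨t, rfl⟩ := E.surjective v
    have : π.lTensor R' t = 0 := (hE t).symm.trans hv
    obtain ⟨s, rfl⟩ := (h2 t).mp this
    clear this hv
    induction s using TensorProduct.induction_on with
    | zero => simp
    | add a b ha hb => rw [map_add, map_add]; exact add_mem ha hb
    | tmul r v =>
      have : E ((rel (R := R) x).subtype.lTensor R' (r ⊗ₜ v)) = r • (algebraMap R R' ∘ (v : Fin n → R)) := by
        funext i
        simp [E, Algebra.smul_def, mul_comm]
      rw [this]
      exact Submodule.smul_mem _ _ (Submodule.subset_span ⟨v, v.2, rfl⟩)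
  · rintro _ ⟨v, hv, rfl⟩
    rw [SetLike.mem_coe, mem_rel]
    simp only [Function.comp_apply, algebraMap_smul, ← tmul_smul, ← tmul_sum, mem_rel.mp hv,
      tmul_zero]

/-- Fitting ideals commute with base change. -/
theorem ideal_baseChange [Module.Finite R M] (k : ℕ) :
    Fitt.ideal R' (R' ⊗[R] M) k = (Fitt.ideal R M k).map (algebraMap R R') := by
  obtain ⟨n, x, hx⟩ := Module.Finite.exists_fin (R := R) (M := M)
  rw [ideal_eq_of_rel _ (span_range_baseChange R' x hx) _ (rel_baseChange R' x hx) k,
    ideal_eq x hx k, map_Mn]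

theorem ideal_of_isBaseChange [Module.Finite R M] {N : Type*} [AddCommGroup N] [Module R N]
    [Module R' N] [IsScalarTower R R' N] {f : M →ₗ[R] N} (hf : IsBaseChange R' f) (k : ℕ) :
    Fitt.ideal R' N k = (Fitt.ideal R M k).map (algebraMap R R') :=
  (ideal_congr hf.equiv k).symm.trans (ideal_baseChange R' k)

end BaseChange

theorem ideal_zero_le_annihilator [Module.Finite R M] :
    Fitt.ideal R M 0 ≤ Module.annihilator R M := by
  refine Ideal.span_le.mpr ?_
  rintro d ⟨n, x, a, hx, ha, rfl⟩
  rw [SetLike.mem_coe, Module.mem_annihilator]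
  intro m
  have hm : m ∈ Submodule.span R (Set.range x) := hx ▸ Submodule.mem_top
  refine Submodule.span_induction ?_ (smul_zero _) ?_ ?_ hm
  · rintro _ ⟨j, rfl⟩
    have : a.det • x j = ∑ i, a.adjugate j i • ∑ l, a i l • x l := by
      simp only [Finset.smul_sum, ← mul_smul]
      rw [Finset.sum_comm]
      simp only [← Finset.sum_smul, ← Matrix.mul_apply, Matrix.adjugate_mul, Matrix.smul_apply,
        Matrix.one_apply, smul_eq_mul, mul_ite, mul_one, mul_zero, ite_smul, zero_smul,
        Finset.sum_ite_eq, Finset.mem_univ, if_true]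
    rw [this]
    exact Finset.sum_eq_zero fun i _ => by rw [ha i (by omega), smul_zero]
  · intro a b _ _ ha hb; rw [smul_add, ha, hb, add_zero]
  · intro r a _ ha; rw [smul_comm, ha, smul_zero]

theorem pow_mem_ideal_zero {n : ℕ} (x : Fin n → M) (hx : Submodule.span R (Set.range x) = ⊤)
    (f : R) (hf : ∀ m : M, f • m = 0) : f ^ n ∈ Fitt.ideal R M 0 := by
  refine Ideal.subset_span ⟨n, x, Matrix.diagonal fun _ => f, hx, fun i _ => ?_, by simp⟩
  simp [Matrix.diagonal_apply, ite_smul, hf]

/-- Free modules: `Fit_k = ⊥` below the rank. -/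
theorem ideal_eq_bot_of_free [Nontrivial R] [Module.Free R M] [Module.Finite R M] {k : ℕ}
    (hk : k < Module.finrank R M) : Fitt.ideal R M k = ⊥ := by
  let b := Module.finBasis R M
  have hb : rel (R := R) b = Submodule.span R (Set.range (Fin.elim0 : Fin 0 → _)) := by
    rw [show Set.range (Fin.elim0 : Fin 0 → Fin (Module.finrank R M) → R) = ∅ from
      Set.range_eq_empty _, Submodule.span_empty]
    exact LinearMap.ker_eq_bot.mpr b.linearIndependent.fintypeLinearCombination_injective
  rw [ideal_eq_of_rel _ b.span_eq _ hb k]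
  exact Mn_eq_bot_of_card_lt _ (by simp; omega)

end Groth.Agent.H25.Fitting
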