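import Groth.Agent.H25.Fitting
import Groth.Prelude.Def_FlatCA
import Mathlib.RingTheory.Localization.AtPrime.Basic
import Mathlib.Algebra.Module.LocalizedModule.Basic
import Mathlib.RingTheory.Localization.BaseChange
import Mathlib.RingTheory.Spectrum.Prime.FreeLocus
import Mathlib.RingTheory.LocalProperties.FinitePresentation

/-!
# Fitting ideals: minors and the local structure of a module
-/

universe u v w

open TensorProduct Matrix

namespace Groth.Agent.H25.Fitting

variable {R : Type u} [CommRing R] {M : Type v} [AddCommGroup M] [Module R M]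

/-- The minor of `z` on the columns `e`. -/
def minor {ι : Type*} {p : ℕ} (z : Fin p → ι → R) (e : Fin p → ι) : R :=
  (Matrix.of fun a b => z b (e a)).det

lemma minor_mem {ι : Type*} {S : Set (ι → R)} {p : ℕ} (z : Fin p → ι → R) (e : Fin p → ι)
    (hz : ∀ b, z b ∈ S) : minor z e ∈ Mn S p := det_mem_Mn z e hz

lemma adjugate_mulVec_apply {n : Type*} [Fintype n] [DecidableEq n] (A : Matrix n n R) (v : n → R)
    (a : n) : ∑ b, A.adjugate a b * v b = (A.updateCol a v).det := by
  rw [← Matrix.cramer_apply, Matrix.cramer_eq_adjugate_mulVec]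
  rfl

/-- Cramer's rule for relations. -/
lemma minor_smul {n p : ℕ} (x : Fin n → M) (z : Fin p → Fin n → R) (hz : ∀ b, z b ∈ rel x)
    (e : Fin p → Fin n) (a : Fin p) :
    ∑ i, minor z (Function.update e a i) • x i = 0 := by
  classical
  let B : Matrix (Fin p) (Fin p) R := Matrix.of fun b a => z b (e a)
  have key : ∀ i, minor z (Function.update e a i) = ∑ b, B.adjugate a b * z b i := by
    intro i
    rw [adjugate_mulVec_apply, minor, ← Matrix.det_transpose]
    refine congrArg Matrix.det ?_
    ext b a'
    simp only [Matrix.transpose_apply, Matrix.of_apply, Matrix.updateCol_apply, B]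
    split_ifs with h
    · rw [h, Function.update_self]
    · rw [Function.update_of_ne h]
  simp only [key, Finset.sum_smul, mul_smul]
  rw [Finset.sum_comm]
  refine Finset.sum_eq_zero fun b _ => ?_
  rw [← Finset.smul_sum, mem_rel.mp (hz b), smul_zero]

lemma minor_update_range {n p : ℕ} (z : Fin p → Fin n → R) (e : Fin p → Fin n) (a a' : Fin p)
    (h : a' ≠ a) : minor z (Function.update e a (e a')) = 0 := by
  refine Matrix.det_zero_of_row_eq h (funext fun b => ?_)
  simp [Function.update_self, Function.update_of_ne h]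

/-- If all minors are multiples of `f` and one is `f * c`, then up to `c` the module is spanned by
the complementary generators and the elements killed by `f`. -/
lemma smul_mem_span_sup {n p : ℕ} (x : Fin n → M) (hx : Submodule.span R (Set.range x) = ⊤)
    (z : Fin p → Fin n → R) (hz : ∀ b, z b ∈ rel x) (e : Fin p → Fin n) (f c : R)
    (hc : minor z e = f * c) (hall : ∀ a i, f ∣ minor z (Function.update e a i)) (y : M) :
    c • y ∈ Submodule.span R (x '' (Set.range e)ᶜ) ⊔ LinearMap.ker (f • (LinearMap.id : M →ₗ[R] M)) := by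
  classical
  set N := Submodule.span R (x '' (Set.range e)ᶜ) ⊔ LinearMap.ker (f • (LinearMap.id : M →ₗ[R] M))
  have hy : y ∈ Submodule.span R (Set.range x) := hx ▸ Submodule.mem_top
  refine Submodule.span_induction ?_ (by rw [smul_zero]; exact zero_mem N) ?_ ?_ hy
  · rintro _ ⟨i, rfl⟩
    by_cases hi : i ∈ Set.range e
    swap
    · exact Submodule.mem_sup_left (Submodule.smul_mem _ _ (Submodule.subset_span ⟨i, hi, rfl⟩))
    obtain ⟨a, rfl⟩ := hi
    choose d hd using hall a
    let d' : Fin n → R := fun i => if i ∈ Set.range e then (if i = e a then c else 0) else d i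
    have hsum : f • ∑ i, d' i • x i = 0 := by
      rw [← minor_smul x z hz e a, Finset.smul_sum]
      refine Finset.sum_congr rfl fun i _ => ?_
      rw [← mul_smul]
      congr 1
      by_cases hi : i ∈ Set.range e
      · simp only [d', if_pos hi]
        obtain ⟨a', rfl⟩ := hi
        by_cases h : e a' = e a
        · rw [if_pos h, h, Function.update_eq_self, hc]
        · rw [if_neg h, mul_zero, minor_update_range z e a a' (fun hh => h (congrArg e hh))]
      · simp only [d', if_neg hi, hd i]
    have hrest : c • x (e a) - ∑ i, d' i • x i ∈ Submodule.span R (x '' (Set.range e)ᶜ) := by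
      rw [Finset.sum_eq_add_sum_sdiff_singleton_of_mem (Finset.mem_univ (e a))]
      simp only [d', Set.mem_range, exists_apply_eq_apply, if_true, sub_add_cancel_left]
      refine neg_mem (sum_mem fun i hi => ?_)
      have hne : i ≠ e a := by simpa using hi
      split_ifs with h1
      · rw [zero_smul]; exact zero_mem _
      · exact Submodule.smul_mem _ _ (Submodule.subset_span ⟨i, by simpa using h1, rfl⟩)
    have := add_mem (Submodule.mem_sup_left (T := LinearMap.ker (f • (LinearMap.id : M →ₗ[R] M))) hrest)
      (Submodule.mem_sup_right (S := Submodule.span R (x '' (Set.range e)ᶜ))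
        (show ∑ i, d' i • x i ∈ LinearMap.ker (f • (LinearMap.id : M →ₗ[R] M)) from hsum))
    rwa [sub_add_cancel] at this
  · intro a b _ _ ha hb; rw [smul_add]; exact add_mem ha hb
  · intro r a _ ha; rw [smul_comm]; exact N.smul_mem r ha

/-- A relation vanishing on the columns of a minor gives a larger minor. -/
lemma minor_mul_mem {n p : ℕ} {S : Set (Fin n → R)} (z : Fin p → Fin n → R) (hz : ∀ b, z b ∈ S)
    (e : Fin p → Fin n) (v : Fin n → R) (hv : v ∈ S) (hve : ∀ a, v (e a) = 0) (i : Fin n) :
    minor z e * v i ∈ Mn S (p + 1) := by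
  have hmem := minor_mem (S := S) (Fin.snoc z v : Fin (p + 1) → Fin n → R)
    (Fin.snoc e i : Fin (p + 1) → Fin n) (fun b => by
      induction b using Fin.lastCases with
      | last => simpa using hv
      | cast b => simpa using hz b)
  have hd : minor (Fin.snoc z v : Fin (p + 1) → Fin n → R) (Fin.snoc e i : Fin (p + 1) → Fin n) =
      minor z e * v i := by
    rw [minor, Matrix.det_succ_column _ (Fin.last p), Fin.sum_univ_castSucc,
      Finset.sum_eq_zero (fun a _ => by simp [hve]), zero_add]
    simp only [Matrix.of_apply, Fin.snoc_last, Fin.val_last]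
    rw [Even.neg_one_pow ⟨p, rfl⟩, one_mul, mul_comm]
    refine congrArg (· * v i) (congrArg Matrix.det ?_)
    ext a b
    simp [Fin.succAbove_last]
  rwa [hd] at hmem

lemma minor_eq_zero_of_not_injective {ι : Type*} {p : ℕ} (z : Fin p → ι → R) (e : Fin p → ι)
    (he : ¬ Function.Injective e) : minor z e = 0 := by
  obtain ⟨a, a', h, hne⟩ : ∃ a a', e a = e a' ∧ a ≠ a' := by
    simpa [Function.Injective, and_comm] using he
  exact Matrix.det_zero_of_row_eq hne (funext fun b => by simp [h])

lemma card_compl_range_le {n k : ℕ} (e : Fin (n - k) → Fin n) (he : Function.Injective e) :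
    (Finset.univ \ Finset.univ.image e).card ≤ k := by
  rw [Finset.card_sdiff, Finset.inter_univ, Finset.card_image_of_injective _ he]
  simp; omega

lemma exists_fin_span {n k : ℕ} (x : Fin n → M) (s : Finset (Fin n)) (hs : s.card ≤ k) :
    ∃ g : Fin k → M, Submodule.span R (Set.range g) = Submodule.span R (x '' s) := by
  classical
  let g : Fin k → M := fun i => if h : (i : ℕ) < s.card then x (s.equivFin.symm ⟨i, h⟩) else 0
  refine ⟨g, le_antisymm (Submodule.span_le.mpr ?_) (Submodule.span_le.mpr ?_)⟩
  · rintro _ ⟨i, rfl⟩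
    simp only [g]
    split_ifs with h
    · exact Submodule.subset_span ⟨_, (s.equivFin.symm ⟨i, h⟩).2, rfl⟩
    · exact zero_mem _
  · rintro _ ⟨i, hi, rfl⟩
    refine Submodule.subset_span ⟨⟨s.equivFin ⟨i, hi⟩, lt_of_lt_of_le (Fin.is_lt _) hs⟩, ?_⟩
    simp [g]

/-- For `Fit_k(M) ⊆ (f)` and a minor equal to `f * c`. -/
lemma exists_span_sup [Module.Finite R M] {n k : ℕ} (x : Fin n → M)
    (hx : Submodule.span R (Set.range x) = ⊤) (f c : R) (hf : Fitt.ideal R M k ≤ Ideal.span {f})
    (z : Fin (n - k) → Fin n → R) (hz : ∀ b, z b ∈ rel x) (e : Fin (n - k) → Fin n)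
    (he : Function.Injective e) (hc : minor z e = f * c) :
    ∃ g : Fin k → M, ∀ y : M, c • y ∈ Submodule.span R (Set.range g) ⊔
      LinearMap.ker (f • (LinearMap.id : M →ₗ[R] M)) := by
  classical
  obtain ⟨g, hg⟩ := exists_fin_span x _ (card_compl_range_le e he) (R := R)
  refine ⟨g, fun y => ?_⟩
  rw [hg]
  convert smul_mem_span_sup x hx z hz e f c hc (fun a i => Ideal.mem_span_singleton.mp
    (hf ((ideal_eq x hx k).ge (minor_mem z _ hz)))) y using 5
  simp [Set.compl_eq_univ_sdiff]

section Localization

variable (S : Submonoid R)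

theorem ideal_localization [Module.Finite R M] (k : ℕ) :
    Fitt.ideal (Localization S) (LocalizedModule S M) k =
      (Fitt.ideal R M k).map (algebraMap R (Localization S)) :=
  ideal_of_isBaseChange _ (IsLocalizedModule.isBaseChange S (Localization S)
    (LocalizedModule.mkLinearMap S M)) k

theorem exists_mem_of_map_ideal_eq_top (I : Ideal R) (h : I.map (algebraMap R (Localization S)) = ⊤) :
    ∃ s ∈ S, s ∈ I := by
  by_contra hh
  push Not at hh
  exact (IsLocalization.map_algebraMap_ne_top_iff_disjoint S (Localization S) I).mpr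
    (Set.disjoint_left.mpr fun s hs hI => hh s hs hI) h

lemma span_localized {ι : Type*} (g : ι → M)
    (h : ∀ y : M, ∃ s ∈ S, s • y ∈ Submodule.span R (Set.range g)) :
    Submodule.span (Localization S) (Set.range (LocalizedModule.mkLinearMap S M ∘ g)) = ⊤ := by
  rw [eq_top_iff]
  rintro y -
  obtain ⟨⟨m, t⟩, rfl⟩ := IsLocalizedModule.mk'_surjective S (LocalizedModule.mkLinearMap S M) y
  obtain ⟨s, hs, hm⟩ := h m
  have h1 : LocalizedModule.mkLinearMap S M (s • m) ∈
      Submodule.span (Localization S) (Set.range (LocalizedModule.mkLinearMap S M ∘ g)) := by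
    have := Submodule.mem_map_of_mem (f := LocalizedModule.mkLinearMap S M) hm
    rw [Submodule.map_span, ← Set.range_comp] at this
    exact Submodule.span_le_restrictScalars R (Localization S) _ this
  have h2 := Submodule.smul_mem _ (IsLocalization.mk' (Localization S) (1 : R) (t * ⟨s, hs⟩)) h1
  rwa [← IsLocalizedModule.mk'_one S, IsLocalizedModule.mk'_smul_mk', one_smul, mul_one,
    mul_comm t, show s • m = (⟨s, hs⟩ : S) • m from rfl, IsLocalizedModule.mk'_cancel_left] at h2

lemma linearIndependent_localized {k : ℕ} (g : Fin k → M)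
    (h : ∀ a : Fin k → R, ∑ i, a i • g i = 0 → ∀ i, ∃ s ∈ S, s * a i = 0) :
    LinearIndependent (Localization S) (LocalizedModule.mkLinearMap S M ∘ g) := by
  rw [Fintype.linearIndependent_iff]
  intro b hb i
  obtain ⟨t, ht⟩ := IsLocalization.exist_integer_multiples S Finset.univ b
  choose a ha using fun i => ht i (Finset.mem_univ i)
  have h0 : LocalizedModule.mkLinearMap S M (∑ i, a i • g i) = 0 := by
    rw [map_sum, ← smul_zero (t : R), ← hb, Finset.smul_sum]
    refine Finset.sum_congr rfl fun j _ => ?_
    rw [map_smul, Function.comp_apply, ← algebraMap_smul (Localization S) (a j), ha, smul_assoc]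
  obtain ⟨s', hs'⟩ := (IsLocalizedModule.eq_zero_iff S (LocalizedModule.mkLinearMap S M)).mp h0
  have h1 : ∑ j, ((s' : R) * a j) • g j = 0 := by
    simpa [Finset.smul_sum, mul_smul, Submonoid.smul_def] using hs'
  obtain ⟨s, hs, hsa⟩ := h _ h1 i
  have h2 : algebraMap R (Localization S) (s * (s' : R) * t) * b i = 0 := by
    rw [map_mul, mul_assoc, ← Algebra.smul_def (t : R) (b i), ← ha, ← map_mul, mul_assoc, hsa,
      map_zero]
  exact ((IsLocalization.map_units (Localization S)
    ⟨s * s' * t, S.mul_mem (S.mul_mem hs s'.2) t.2⟩).mul_right_eq_zero).mp h2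

end Localization

/-- Free of rank `k` on a basic open neighbourhood. -/
lemma free_away [Module.Finite R M] {k : ℕ} (p : Ideal R) [p.IsPrime] (c : R) (hc : c ∉ p)
    (g : Fin k → M) (hspan : ∀ y : M, c • y ∈ Submodule.span R (Set.range g))
    (hind : ∀ a : Fin k → R, ∑ i, a i • g i = 0 → ∀ i, c * a i = 0) :
    Module.Free (Localization.Away c) (LocalizedModule (Submonoid.powers c) M) ∧
      Module.finrank (Localization.Away c) (LocalizedModule (Submonoid.powers c) M) = k := by
  have hc' : c ∈ Submonoid.powers c := Submonoid.mem_powers c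
  have : Nontrivial (Localization.Away c) := by
    rw [nontrivial_iff]
    refine ⟨1, 0, fun h => ?_⟩
    obtain ⟨⟨_, j, rfl⟩, hj⟩ := (IsLocalization.map_eq_zero_iff (Submonoid.powers c)
      (Localization.Away c) (1 : R)).mp (by rw [map_one, h])
    rw [mul_one] at hj
    exact hc (‹p.IsPrime›.mem_of_pow_mem j (by rw [show c ^ j = 0 from hj]; exact zero_mem p))
  let b := Module.Basis.mk
    (linearIndependent_localized (Submonoid.powers c) g fun a ha i => ⟨c, hc', hind a ha i⟩)
    (span_localized (Submonoid.powers c) g fun y => ⟨c, hc', hspan y⟩).ge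
  exact ⟨Module.Free.of_basis b, by rw [Module.finrank_eq_card_basis b, Fintype.card_fin]⟩

/-- A finite module free of constant rank on basic open neighbourhoods is projective. -/
lemma projective_of_free_away [Module.Finite R M]
    (h : ∀ (p : Ideal R) [p.IsPrime], ∃ c : R, c ∉ p ∧
      Module.Free (Localization.Away c) (LocalizedModule (Submonoid.powers c) M)) :
    Module.Projective R M := by
  let s : Set R := {c | Module.Free (Localization.Away c) (LocalizedModule (Submonoid.powers c) M)}
  have hs : Ideal.span s = ⊤ := by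
    by_contra hne
    obtain ⟨m, hm, hle⟩ := Ideal.exists_le_maximal _ hne
    obtain ⟨c, hc, hfree⟩ := h m
    exact hc (hle (Ideal.subset_span hfree))
  have : Module.FinitePresentation R M :=
    Module.FinitePresentation.of_localizationSpan s hs fun c =>
      have : Module.Free (Localization.Away c.1) (LocalizedModule.Away c.1 M) := c.2
      have : Module.Finite (Localization.Away c.1) (LocalizedModule.Away c.1 M) :=
        Module.Finite.of_isLocalizedModule (Submonoid.powers c.1)
          (LocalizedModule.mkLinearMap (Submonoid.powers c.1) M)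
      Module.finitePresentation_of_projective _ _
  rw [← Module.freeLocus_eq_univ_iff, Set.eq_univ_iff_forall]
  intro p
  obtain ⟨c, hc, hfree⟩ := h p.asIdeal
  exact (Module.basicOpen_subset_freeLocus_iff.mpr (inferInstance : Module.Projective
    (Localization.Away c) (LocalizedModule.Away c M))) hc

/-- The key structural hypothesis: `Fit_k = (f)` with `f` regular and `Fit_j = 0` for `j < k`. -/
structure Principal (M : Type v) [AddCommGroup M] [Module R M] [Module.Finite R M] (k : ℕ) (f : R) :
    Prop where
  nzd : f ∈ nonZeroDivisors R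
  eq : Fitt.ideal R M k = Ideal.span {f}
  lt : ∀ j, j + 1 = k → Fitt.ideal R M j = ⊥

lemma exists_minor {n k : ℕ} [Module.Finite R M] (x : Fin n → M)
    (hx : Submodule.span R (Set.range x) = ⊤) (f : R) (hf : Fitt.ideal R M k = Ideal.span {f})
    (p : Ideal R) [p.IsPrime] (hann : ∀ d, f * d = 0 → d ∈ p) :
    ∃ (z : Fin (n - k) → Fin n → R) (e : Fin (n - k) → Fin n) (c : R),
      (∀ b, z b ∈ rel x) ∧ Function.Injective e ∧ minor z e = f * c ∧ c ∉ p := by
  by_contra hh
  push Not at hh
  have hle : Fitt.ideal R M k ≤ Ideal.span {f} * p := by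
    rw [ideal_eq x hx k]
    refine Ideal.span_le.mpr ?_
    rintro d ⟨z, e, hz, rfl⟩
    by_cases he : Function.Injective e
    · obtain ⟨c, hc⟩ := Ideal.mem_span_singleton.mp
        (hf.le ((ideal_eq x hx k).ge (minor_mem z e hz)))
      exact Ideal.mem_span_singleton_mul.mpr ⟨c, hh z e c hz he hc, hc.symm⟩
    · rw [show (Matrix.of fun a b => z b (e a)).det = 0 from minor_eq_zero_of_not_injective z e he]
      exact zero_mem _
  obtain ⟨q, hq, hfq⟩ := Ideal.mem_span_singleton_mul.mp
    (hle (hf.ge (Ideal.mem_span_singleton_self f)))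
  have h1 : f * (q - 1) = 0 := by rw [mul_sub, hfq, mul_one, sub_self]
  exact ‹p.IsPrime›.ne_top ((Ideal.eq_top_iff_one p).mpr
    (by simpa using sub_mem hq (hann _ h1)))

namespace Principal

variable [Module.Finite R M] {k : ℕ} {f : R} (h : Principal M k f)
include h

local notation "M'" => LinearMap.ker (f • (LinearMap.id : M →ₗ[R] M))

lemma local_data (p : Ideal R) [p.IsPrime] {n : ℕ} (x : Fin n → M)
    (hx : Submodule.span R (Set.range x) = ⊤) :
    ∃ (c : R) (z : Fin (n - k) → Fin n → R) (e : Fin (n - k) → Fin n), c ∉ p ∧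
      (∀ b, z b ∈ rel x) ∧ Function.Injective e ∧ minor z e = f * c ∧
      ∀ v ∈ rel x, (∀ a, v (e a) = 0) → ∀ i, c * v i = 0 := by
  classical
  obtain ⟨z, e, c, hz, he, hc, hcp⟩ := exists_minor x hx f h.eq p
    (fun d hd => by rw [(mul_left_mem_nonZeroDivisors_eq_zero_iff h.nzd).mp hd]; exact zero_mem p)
  refine ⟨c, z, e, hcp, hz, he, hc, fun v hv hve i => ?_⟩
  by_cases hi : i ∈ Set.range e
  · obtain ⟨a, rfl⟩ := hi; rw [hve, mul_zero]
  have hlt : n - k < n := by
    have : (Finset.univ.image e).card < (Finset.univ : Finset (Fin n)).card :=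
      Finset.card_lt_card ⟨Finset.subset_univ _, fun hss => hi (by simpa using hss (Finset.mem_univ i))⟩
    simpa [Finset.card_image_of_injective _ he] using this
  have hm : minor z e * v i ∈ Mn (rel (R := R) x : Set (Fin n → R)) (n - k + 1) :=
    minor_mul_mem z hz e v hv hve i
  obtain ⟨j, rfl⟩ : ∃ j, k = j + 1 := ⟨k - 1, by omega⟩
  have hj : j < n := by
    by_contra hjn
    have h0 := h.lt j rfl
    rw [ideal_eq_top x hx (not_lt.mp hjn)] at h0
    have : Subsingleton R := subsingleton_of_zero_eq_one
      ((Ideal.mem_bot.mp (h0 ▸ (Submodule.mem_top : (1 : R) ∈ (⊤ : Ideal R)))).symm)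
    exact hcp (by rw [Subsingleton.elim c 0]; exact zero_mem p)
  rw [show n - (j + 1) + 1 = n - j by omega, ← ideal_eq x hx j, h.lt j rfl, Ideal.mem_bot, hc,
    mul_assoc] at hm
  exact (mul_left_mem_nonZeroDivisors_eq_zero_iff h.nzd).mp hm

/-- Approximate basis of `M / ker f` near `p`. -/
lemma approx (p : Ideal R) [p.IsPrime] :
    ∃ c : R, c ∉ p ∧ ∃ g : Fin k → M, (∀ y : M, c • y ∈ Submodule.span R (Set.range g) ⊔ M') ∧
      ∀ a : Fin k → R, ∑ i, a i • g i ∈ M' → ∀ i, c * a i = 0 := by
  classical
  obtain ⟨n, x, hx⟩ := Module.Finite.exists_fin (R := R) (M := M)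
  obtain ⟨c, z, e, hcp, hz, he, hc, hrel⟩ := h.local_data p x hx
  by_cases hkn : k ≤ n
  · have hcard : (Finset.univ \ Finset.univ.image e).card = k := by
      rw [Finset.card_sdiff, Finset.inter_univ, Finset.card_image_of_injective _ he]
      simp; omega
    let s := (Finset.univ \ Finset.univ.image e).equivFinOfCardEq hcard
    refine ⟨c, hcp, fun i => x (s.symm i), fun y => ?_, fun a ha i => ?_⟩
    · convert smul_mem_span_sup x hx z hz e f c hc (fun a i => Ideal.mem_span_singleton.mp
        (h.eq.le ((ideal_eq x hx k).ge (minor_mem z _ hz)))) y using 4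
      ext m
      constructor
      · rintro ⟨j, rfl⟩
        exact ⟨_, fun ⟨a, ha⟩ => (Finset.mem_sdiff.mp (s.symm j).2).2
          (Finset.mem_image.mpr ⟨a, Finset.mem_univ a, ha⟩), rfl⟩
      · rintro ⟨j, hj, rfl⟩; exact ⟨s ⟨j, by simpa using hj⟩, by simp⟩
    · let v : Fin n → R := fun j => if hj : j ∈ Finset.univ \ Finset.univ.image e then f * a (s ⟨j, hj⟩) else 0
      have hv : v ∈ rel x := by
        rw [mem_rel, ← Finset.sum_subset (Finset.subset_univ (Finset.univ \ Finset.univ.image e))
          (fun j _ hj => by simp only [v, dif_neg hj, zero_smul]), ← Finset.sum_coe_sort,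
          ← s.symm.sum_comp]
        have : f • ∑ i, a i • x (s.symm i) = 0 := ha
        rw [Finset.smul_sum] at this
        refine (Finset.sum_congr rfl fun j _ => ?_).trans this
        simp only [v, dif_pos (s.symm j).2, Subtype.coe_eta, Equiv.apply_symm_apply, mul_smul]
      have := hrel v hv (fun b => by simp [v]) (s.symm i)
      simp only [v, dif_pos (s.symm i).2, Subtype.coe_eta, Equiv.apply_symm_apply] at this
      rw [mul_left_comm] at this
      exact (mul_left_mem_nonZeroDivisors_eq_zero_iff h.nzd).mp this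
  · exfalso
    obtain ⟨j, rfl⟩ : ∃ j, k = j + 1 := ⟨k - 1, by omega⟩
    have h0 := h.lt j rfl
    rw [ideal_eq_top x hx (by omega)] at h0
    have : Subsingleton R := subsingleton_of_zero_eq_one
      ((Ideal.mem_bot.mp (h0 ▸ (Submodule.mem_top : (1 : R) ∈ (⊤ : Ideal R)))).symm)
    exact hcp (by rw [Subsingleton.elim c 0]; exact zero_mem p)

lemma free_quot (p : Ideal R) [p.IsPrime] :
    ∃ c : R, c ∉ p ∧
      Module.Free (Localization.Away c) (LocalizedModule (Submonoid.powers c) (M ⧸ M')) ∧
      Module.finrank (Localization.Away c) (LocalizedModule (Submonoid.powers c) (M ⧸ M')) = k := by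
  obtain ⟨c, hc, g, h1, h2⟩ := h.approx p
  refine ⟨c, hc, free_away p c hc ((M').mkQ ∘ g) (fun y => ?_) fun a ha => h2 a ?_⟩
  · obtain ⟨y, rfl⟩ := (M').mkQ_surjective y
    have := Submodule.mem_map_of_mem (f := (M').mkQ) (h1 y)
    rwa [Submodule.map_sup, Submodule.mkQ_map_self, sup_bot_eq, Submodule.map_span, ← Set.range_comp,
      map_smul] at this
  · rw [← Submodule.Quotient.mk_eq_zero, ← Submodule.mkQ_apply, map_sum]
    simpa using ha

lemma projective_quot : Module.Projective R (M ⧸ M') :=
  projective_of_free_away fun p _ =>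
    let ⟨c, hc, hfree, _⟩ := h.free_quot p
    ⟨c, hc, hfree⟩

lemma smul_eq_zero_of_sq {x : M} (hx : f • f • x = 0) : f • x = 0 := by
  let J := LinearMap.ker (LinearMap.toSpanSingleton R M (f • x))
  suffices J = ⊤ by
    have h1 : (1 : R) ∈ J := this ▸ Submodule.mem_top
    simpa [J] using h1
  by_contra hne
  obtain ⟨m, hm, hle⟩ := Ideal.exists_le_maximal _ hne
  obtain ⟨c, hc, g, h1, h2⟩ := h.approx m
  obtain ⟨u, hu, w, hw, huw⟩ := Submodule.mem_sup.mp (h1 x)
  obtain ⟨a, rfl⟩ := (Submodule.mem_span_range_iff_exists_fun R).mp hu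
  have hw' : f • w = 0 := hw
  have hfa : ∑ i, (f * a i) • g i ∈ M' := by
    have e1 : f • c • x = f • ∑ i, a i • g i := by rw [← huw, smul_add, hw', add_zero]
    have e2 : ∑ i, (f * a i) • g i = c • f • x := by
      simp only [mul_smul, ← Finset.smul_sum, ← e1, smul_comm f c]
    rw [e2]
    exact Submodule.smul_mem _ c (show f • f • x = 0 from hx)
  have hca : ∀ i, c * a i = 0 := fun i => by
    have := h2 _ hfa i
    rw [mul_left_comm] at this
    exact (mul_left_mem_nonZeroDivisors_eq_zero_iff h.nzd).mp this
  have hcc : (c * c) • f • x = 0 := by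
    have : c • ∑ i, a i • g i = 0 := by simp [Finset.smul_sum, ← mul_smul, hca]
    rw [mul_smul, smul_comm c f x, ← huw, smul_add, smul_add, hw', smul_zero, add_zero,
      smul_comm c f, this, smul_zero]
  have : c * c ∈ m := hle (show c * c ∈ J by simpa [J] using hcc)
  exact hc ((‹m.IsMaximal›.isPrime.mem_or_mem this).elim id id)

lemma pow_smul_eq_zero_iff (x : M) : (∃ n : ℕ, f ^ n • x = 0) ↔ f • x = 0 := by
  refine ⟨?_, fun hx => ⟨1, by rwa [pow_one]⟩⟩
  rintro ⟨n, hn⟩
  induction n generalizing x with
  | zero => rw [pow_zero, one_smul] at hn; rw [hn, smul_zero]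
  | succ n ih => exact h.smul_eq_zero_of_sq (ih (f • x) (by rwa [← mul_smul, ← pow_succ]))

/-- The relations are locally free. -/
lemma projective_rel {n : ℕ} (x : Fin n → M) (hx : Submodule.span R (Set.range x) = ⊤)
    [Module.Finite R (rel (R := R) x)] : Module.Projective R (rel (R := R) x) := by
  classical
  refine projective_of_free_away fun p _ => ?_
  obtain ⟨c, z, e, hcp, hz, he, hc, hrel⟩ := h.local_data p x hx
  refine ⟨c * c, fun hcc => hcp ((‹p.IsPrime›.mem_or_mem hcc).elim id id),
    (free_away p (c * c) (fun hcc => hcp ((‹p.IsPrime›.mem_or_mem hcc).elim id id))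
      (fun b => (⟨z b, hz b⟩ : rel (R := R) x)) (fun v => ?_) (fun a ha b => ?_)).1⟩
  · let B : Matrix (Fin (n - k)) (Fin (n - k)) R := Matrix.of fun a b => z b (e a)
    let u : Fin (n - k) → R := fun a => (v : Fin n → R) (e a)
    have hdiv : ∀ b, f ∣ ∑ a, B.adjugate b a * u a := by
      intro b
      rw [adjugate_mulVec_apply]
      refine Ideal.mem_span_singleton.mp (h.eq.le ((ideal_eq x hx k).ge ?_))
      have hmem := minor_mem (S := (rel (R := R) x : Set (Fin n → R)))
        (Function.update z b (v : Fin n → R)) e (fun b' => by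
          rcases eq_or_ne b' b with rfl | hb
          · rw [Function.update_self]; exact v.2
          · rw [Function.update_of_ne hb]; exact hz b')
      refine Eq.subst (motive := fun d => d ∈ Mn _ _) ?_ hmem
      refine congrArg Matrix.det ?_
      ext a b'
      rcases eq_or_ne b' b with rfl | hb
      · simp [u]
      · simp [B, hb]
    choose w hw using hdiv
    have hBw : ∀ a, ∑ b, z b (e a) * w b = c * u a := by
      intro a
      refine (mul_cancel_left_mem_nonZeroDivisors h.nzd).mp ?_
      rw [Finset.mul_sum, ← mul_assoc, show f * c = B.det from hc.symm]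
      calc ∑ b, f * (z b (e a) * w b) = ∑ b, B a b * ∑ a', B.adjugate b a' * u a' :=
            Finset.sum_congr rfl fun b _ => by rw [hw b]; simp [B]; ring
        _ = ∑ a', (B * B.adjugate) a a' * u a' := by
            simp only [Finset.mul_sum, Matrix.mul_apply, Finset.sum_mul, mul_assoc]
            rw [Finset.sum_comm]
        _ = B.det * u a := by
            rw [Matrix.mul_adjugate]
            simp [Matrix.smul_apply, Matrix.one_apply, ite_mul]
    let v' : Fin n → R := c • (v : Fin n → R) - ∑ b, w b • z b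
    have hv' : v' ∈ rel x := sub_mem (Submodule.smul_mem _ c v.2)
      (sum_mem fun b _ => Submodule.smul_mem _ _ (hz b))
    have hzero : ∀ a, v' (e a) = 0 := fun a => by
      simp only [v', Pi.sub_apply, Pi.smul_apply, smul_eq_mul, Finset.sum_apply]
      rw [sub_eq_zero]
      exact (hBw a).symm.trans (Finset.sum_congr rfl fun b _ => mul_comm _ _)
    refine (Submodule.mem_span_range_iff_exists_fun R).mpr ⟨fun b => c * w b, Subtype.ext ?_⟩
    funext i
    have h0 := hrel v' hv' hzero i
    simp only [v', Pi.sub_apply, Pi.smul_apply, smul_eq_mul, Finset.sum_apply, mul_sub, sub_eq_zero] at h0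
    simp only [Submodule.coe_sum, Submodule.coe_smul, Pi.smul_apply, smul_eq_mul,
      Finset.sum_apply, mul_assoc, h0, Finset.mul_sum]
  · let B : Matrix (Fin (n - k)) (Fin (n - k)) R := Matrix.of fun a b => z b (e a)
    have h0 : B *ᵥ a = 0 := funext fun i => by
      have := congrFun (congrArg Subtype.val ha) (e i)
      simpa [Matrix.mulVec, dotProduct, B, mul_comm] using this
    have h1 : B.det * a b = 0 := by
      have := congrFun (congrArg (B.adjugate *ᵥ ·) h0) b
      simpa [Matrix.mulVec_mulVec, Matrix.adjugate_mul, Matrix.smul_mulVec] using this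
    rw [show B.det = f * c from hc, mul_assoc] at h1
    rw [mul_assoc, (mul_left_mem_nonZeroDivisors_eq_zero_iff h.nzd).mp h1, mul_zero]

end Principal

lemma exists_span_of_not_le [Module.Finite R M] {k : ℕ} {p : Ideal R} [p.IsPrime]
    (h : ¬ Fitt.ideal R M k ≤ p) :
    ∃ c : R, c ∉ p ∧ ∃ g : Fin k → M, ∀ y : M, c • y ∈ Submodule.span R (Set.range g) := by
  obtain ⟨n, x, hx⟩ := Module.Finite.exists_fin (R := R) (M := M)
  rw [ideal_eq x hx k] at h
  have h' : ∃ (z : Fin (n - k) → Fin n → R) (e : Fin (n - k) → Fin n),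
      (∀ b, z b ∈ rel x) ∧ minor z e ∉ p := by
    by_contra hh
    push Not at hh
    refine h (Ideal.span_le.mpr ?_)
    rintro d ⟨z, e, hz, rfl⟩
    exact hh z e hz
  obtain ⟨z, e, hz, hd⟩ := h'
  have he : Function.Injective e := by
    by_contra he
    exact hd (by rw [minor_eq_zero_of_not_injective z e he]; exact zero_mem p)
  obtain ⟨g, hg⟩ := exists_span_sup x hx 1 (minor z e) (by simp) z hz e he (one_mul _).symm
  refine ⟨_, hd, g, fun y => ?_⟩
  have h1 := hg y
  rwa [one_smul, LinearMap.ker_id, sup_bot_eq] at h1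

lemma exists_mem_ideal_of_span_localized [Module.Finite R M] (S : Submonoid R) {k : ℕ}
    (g : Fin k → LocalizedModule S M)
    (hg : Submodule.span (Localization S) (Set.range g) = ⊤) : ∃ s ∈ S, s ∈ Fitt.ideal R M k :=
  exists_mem_of_map_ideal_eq_top S _ ((ideal_localization S k).symm.trans (ideal_eq_top g hg le_rfl))

lemma not_le_of_span [Module.Finite R M] {k : ℕ} {p : Ideal R} [p.IsPrime] (c : R) (hc : c ∉ p)
    (g : Fin k → M) (hg : ∀ y : M, c • y ∈ Submodule.span R (Set.range g)) :
    ¬ Fitt.ideal R M k ≤ p := fun hle => by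
  obtain ⟨_, ⟨j, rfl⟩, hj⟩ := exists_mem_ideal_of_span_localized (Submonoid.powers c) _
    (span_localized (Submonoid.powers c) g fun y => ⟨c, Submonoid.mem_powers c, hg y⟩)
  exact hc (‹p.IsPrime›.mem_of_pow_mem j (hle hj))

lemma exists_mul_eq_zero_of_free [Module.Finite R M] (S : Submonoid R) [Nontrivial (Localization S)]
    [Module.Free (Localization S) (LocalizedModule S M)] {k : ℕ}
    (hk : k < Module.finrank (Localization S) (LocalizedModule S M)) {d : R}
    (hd : d ∈ Fitt.ideal R M k) : ∃ s ∈ S, s * d = 0 := by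
  have : Module.Finite (Localization S) (LocalizedModule S M) :=
    Module.Finite.of_isLocalizedModule S (LocalizedModule.mkLinearMap S M)
  have h1 := Ideal.mem_map_of_mem (algebraMap R (Localization S)) hd
  rw [← ideal_localization, ideal_eq_bot_of_free hk, Ideal.mem_bot,
    IsLocalization.map_eq_zero_iff S] at h1
  obtain ⟨s, hs⟩ := h1
  exact ⟨s, s.2, hs⟩

end Groth.Agent.H25.Fitting
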