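import Mathlib.RingTheory.Finiteness.Ideal
import Mathlib.RingTheory.Ideal.Operations
import Mathlib.RingTheory.Ideal.MinimalPrime.Localization
import Mathlib.Tactic.Abel
import Mathlib.Tactic.LinearCombination
import Mathlib.Tactic.Ring
import Mathlib.Tactic.TFAE

/-! Small shared helpers of helper25. -/

namespace Groth.Agent.H25.Basic

variable {R : Type*} [CommRing R] {M : Type*} [AddCommGroup M] [Module R M]

/-- A finitely generated submodule whose elements are killed by elements outside a prime is killed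
by a single element outside the prime. -/
theorem exists_notMem_smul_eq_zero (p : Ideal R) [hp : p.IsPrime] {N : Submodule R M} (hN : N.FG)
    (h : ∀ y ∈ N, ∃ s ∉ p, s • y = 0) : ∃ f ∉ p, ∀ y ∈ N, f • y = 0 := by
  classical
  obtain ⟨t, ht⟩ := hN
  have : ∀ y ∈ t, ∃ s, s ∉ p ∧ s • y = 0 := fun y hy => h y (ht ▸ Submodule.subset_span hy)
  choose s hs hsy using this
  refine ⟨∏ y ∈ t.attach, s y.1 y.2, fun hf => ?_, fun x hx => ?_⟩
  · obtain ⟨y, -, hy⟩ := hp.prod_mem_iff.mp hf
    exact hs _ _ hy
  · rw [← ht] at hx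
    induction hx using Submodule.span_induction with
    | mem y hy =>
      rw [← Finset.prod_erase_mul _ _ (Finset.mem_attach t ⟨y, hy⟩), mul_smul, hsy, smul_zero]
    | zero => rw [smul_zero]
    | add a b _ _ ha hb => rw [smul_add, ha, hb, add_zero]
    | smul r a _ ha => rw [smul_comm, ha, smul_zero]

theorem exists_notMem_mul_eq_zero (p : Ideal R) [p.IsPrime] {N : Ideal R} (hN : N.FG)
    (h : ∀ y ∈ N, ∃ s ∉ p, s * y = 0) : ∃ f ∉ p, ∀ y ∈ N, f * y = 0 :=
  exists_notMem_smul_eq_zero (M := R) p hN h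

end Groth.Agent.H25.Basic
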