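import Groth.Agent.H25.BigProj
import Groth.Agent.S7109
import Mathlib.LinearAlgebra.Pi

/-!
Bass: countably generated big projective modules are free.
-/

set_option autoImplicit false

universe u

namespace Groth.Agent.H25.BigFree

open BigProj

variable {R : Type u} [CommRing R] {P : Type u} [AddCommGroup P] [Module R P]

theorem projective_left {K W : Submodule R P} (h : IsCompl K W) [Module.Projective R P] :
    Module.Projective R K :=
  Module.Projective.of_split K.subtype (K.projectionOnto W h)
    (LinearMap.ext fun z => Submodule.projectionOnto_apply_left h z)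

open Classical in
theorem big_compl (hP : Big R P) {K W : Submodule R P} (h : IsCompl K W) [Module.Finite R K] :
    Big R W := by
  intro m hm T hT
  obtain ⟨S, hS⟩ : K.FG := Module.Finite.iff_fg.1 inferInstance
  refine hP m hm (S ∪ T.image Subtype.val) (eq_top_iff.2 ?_)
  rw [← h.sup_eq_top]
  refine sup_le ?_ ?_
  · refine (le_of_eq hS.symm).trans ?_
    exact le_sup_of_le_left (Submodule.span_mono (by simp))
  · intro x hx
    have hmem : (⟨x, hx⟩ : W) ∈ Submodule.span R (T : Set W) ⊔ m • ⊤ := by rw [hT]; trivial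
    have := Submodule.mem_map_of_mem (f := W.subtype) hmem
    rw [Submodule.map_sup, Submodule.map_span, Submodule.map_smul''] at this
    refine SetLike.le_def.1 (sup_le_sup ?_ ?_) this
    · exact Submodule.span_mono (by simp)
    · exact Submodule.smul_mono le_rfl (by rw [h.sup_eq_top]; exact le_top)

theorem exists_rank [IsNoetherianRing (R ⧸ (⊥ : Ideal R).jacobson)] :
    ∀ (r : ℕ) (W : Type u) [AddCommGroup W] [Module R W] [Module.Projective R W], Big R W →
      ∃ (i : (Fin r → R) →ₗ[R] W) (ρ : W →ₗ[R] (Fin r → R)), ρ ∘ₗ i = LinearMap.id := by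
  intro r
  induction r with
  | zero => intro W _ _ _ _; exact ⟨0, 0, LinearMap.ext fun x => Subsingleton.elim _ _⟩
  | succ r ih =>
    intro W _ _ _ hW
    obtain ⟨v, -, φ, hφ⟩ := exists_unimodular hW (0 : W) ⊤ (by simp)
    rw [zero_add] at hφ
    let p : W →ₗ[R] Submodule.span R {v} :=
      (LinearMap.toSpanSingleton R W v ∘ₗ φ).codRestrict _
        (fun z => Submodule.smul_mem _ _ (Submodule.subset_span rfl))
    have hp : ∀ z : Submodule.span R {v}, p z = z := by
      rintro ⟨z, hz⟩
      obtain ⟨a, rfl⟩ := Submodule.mem_span_singleton.1 hz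
      exact Subtype.ext (by simp [p, hφ])
    have hc := LinearMap.isCompl_of_proj hp
    have : Module.Projective R (LinearMap.ker p) := projective_left hc.symm
    have : Module.Finite R (Submodule.span R {v}) :=
      Module.Finite.iff_fg.2 (Submodule.fg_span_singleton v)
    obtain ⟨i, ρ, hρi⟩ := ih (LinearMap.ker p) (big_compl hW hc)
    let c := Fin.consLinearEquiv R (fun _ : Fin (r + 1) => R)
    refine ⟨((LinearMap.toSpanSingleton R W v).coprod ((LinearMap.ker p).subtype ∘ₗ i)) ∘ₗ c.symm.toLinearMap,
      c.toLinearMap ∘ₗ φ.prod (ρ ∘ₗ (LinearMap.ker p).projectionOnto _ hc.symm), ?_⟩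
    refine LinearMap.ext fun x => ?_
    have hk : ∀ y : LinearMap.ker p, φ (y : W) = 0 := by
      intro y
      have h1 : φ (y : W) • v = 0 := congrArg Subtype.val y.2
      have := congrArg φ h1
      rwa [map_smul, hφ, smul_eq_mul, mul_one, map_zero] at this
    obtain ⟨⟨a, b⟩, rfl⟩ := c.surjective x
    simp only [LinearMap.comp_apply, LinearEquiv.coe_coe, LinearEquiv.symm_apply_apply,
      LinearMap.id_apply, LinearMap.coprod_apply, LinearMap.prod_apply, Function.prod_apply,
      LinearMap.toSpanSingleton_apply, Submodule.coe_subtype]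
    congr 1
    refine Prod.ext ?_ ?_
    · show φ (a • v + (i b : W)) = a
      rw [map_add, map_smul, hφ, hk]; simp
    · show ρ ((LinearMap.ker p).projectionOnto _ hc.symm (a • v + (i b : W))) = b
      rw [map_add, Submodule.projectionOnto_apply_left hc.symm (i b),
        (Submodule.projectionOnto_apply_eq_zero_iff hc.symm).2
          (Submodule.smul_mem _ _ (Submodule.subset_span rfl)), zero_add]
      exact LinearMap.congr_fun hρi b

theorem exists_free_summand [IsNoetherianRing (R ⧸ (⊥ : Ideal R).jacobson)] [Module.Projective R P]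
    (hP : Big R P) (x : P) :
    ∃ G H : Submodule R P, IsCompl G H ∧ Module.Free R G ∧ Module.Finite R G ∧ x ∈ G := by
  classical
  obtain ⟨n, K₀, W₀, hc₀, hfree, hfin, hs⟩ := Groth.Agent.S7109.result R P x
  have key : ∀ (n : ℕ) (K W : Submodule R ((Fin n → R) × P)), IsCompl K W → Module.Finite R K →
      Module.IsStablyFree R K → ((0, x) : (Fin n → R) × P) ∈ K →
      ∃ (K K' : Submodule R P), IsCompl K K' ∧ Module.Finite R K ∧ Module.IsStablyFree R K ∧ x ∈ K := by
    intro n
    induction n with
    | zero =>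
      intro K W hKW _ _ hs
      let e : ((Fin 0 → R) × P) ≃ₗ[R] P := LinearEquiv.ofLinearMap (LinearMap.snd R _ P)
        (LinearMap.inr R _ P) (LinearMap.ext fun x => rfl)
        (LinearMap.ext fun x => Prod.ext (Subsingleton.elim _ _) rfl)
      exact ⟨K.map e.toLinearMap, W.map e.toLinearMap, hKW.map (Submodule.orderIsoMapComap e),
        Module.Finite.equiv (e.submoduleMap K), Module.IsStablyFree.equiv (e.submoduleMap K),
        ⟨(0, x), hs, rfl⟩⟩
    | succ n ih =>
      intro K W hKW _ _ hs
      let e : ((Fin (n + 1) → R) × P) ≃ₗ[R] R × ((Fin n → R) × P) :=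
        ((Fin.consLinearEquiv R (fun _ : Fin (n + 1) => R)).symm.prodCongr (LinearEquiv.refl R P)).trans
          (LinearEquiv.prodAssoc R R (Fin n → R) P)
      have := Module.Finite.equiv (e.submoduleMap K)
      have := Module.IsStablyFree.equiv (e.submoduleMap K)
      have hbig : Big R ((Fin n → R) × P) := by
        intro m hm T hT
        refine hP m hm (T.image Prod.snd) ?_
        have := congrArg (Submodule.map (LinearMap.snd R (Fin n → R) P)) hT
        rw [Submodule.map_sup, Submodule.map_span, Submodule.map_smul'', Submodule.map_top,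
          LinearMap.range_eq_top.2 Prod.snd_surjective] at this
        simpa using this
      obtain ⟨K₁, K₁', h1, h2, h3, h4⟩ := BigProj.step (X := (Fin n → R) × P) hbig (0, x)
        (K.map e.toLinearMap) (W.map e.toLinearMap) (hKW.map (Submodule.orderIsoMapComap e))
        ⟨(0, x), hs, rfl⟩
      exact ih K₁ K₁' h1 h2 h3 h4
  obtain ⟨K, W, hKW, hKfin, hKsf, hxK⟩ := key n K₀ W₀ hc₀ hfin inferInstance hs
  obtain ⟨N, _, _, _, _, hfree'⟩ := Module.IsStablyFree.exist_free_prod R K
  rcases subsingleton_or_nontrivial R with _ | _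
  · have : Subsingleton P := Module.subsingleton R P
    exact ⟨⊤, ⊥, isCompl_top_bot, inferInstance, inferInstance, trivial⟩
  let eN := (Module.finBasis R N).equivFun
  have := projective_left hKW.symm
  obtain ⟨i, ρ, hρi⟩ := exists_rank (R := R) _ W (big_compl hP hKW)
  let j : K × (Fin (Module.finrank R N) → R) →ₗ[R] P := K.subtype.coprod (W.subtype ∘ₗ i)
  let ρ' : P →ₗ[R] K × (Fin (Module.finrank R N) → R) :=
    (K.projectionOnto W hKW).prod (ρ ∘ₗ W.projectionOnto K hKW.symm)
  have hj : ∀ z, ρ' (j z) = z := by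
    rintro ⟨k, v⟩
    refine Prod.ext ?_ ?_
    · show K.projectionOnto W hKW ((k : P) + (i v : P)) = k
      rw [map_add, Submodule.projectionOnto_apply_left hKW k,
        (Submodule.projectionOnto_apply_eq_zero_iff hKW).2 (i v).2, add_zero]
    · show ρ (W.projectionOnto K hKW.symm ((k : P) + (i v : P))) = v
      rw [map_add, Submodule.projectionOnto_apply_left hKW.symm (i v),
        (Submodule.projectionOnto_apply_eq_zero_iff hKW.symm).2 k.2, zero_add]
      exact LinearMap.congr_fun hρi v
  let p : P →ₗ[R] LinearMap.range j := j.rangeRestrict ∘ₗ ρ'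
  have hp : ∀ z : LinearMap.range j, p z = z := by
    rintro ⟨_, w, rfl⟩
    exact Subtype.ext (by show j (ρ' (j w)) = j w; rw [hj])
  have hjinj : Function.Injective j := fun a b h => by rw [← hj a, ← hj b, h]
  have : Module.Free R (K × (Fin (Module.finrank R N) → R)) :=
    Module.Free.of_equiv ((LinearEquiv.refl R K).prodCongr eN)
  exact ⟨LinearMap.range j, LinearMap.ker p, LinearMap.isCompl_of_proj hp,
    Module.Free.of_equiv (LinearEquiv.ofInjective j hjinj),
    Module.Finite.range j, ⟨(⟨x, hxK⟩, 0), by simp [j]⟩⟩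

theorem free_of_countable [IsNoetherianRing (R ⧸ (⊥ : Ideal R).jacobson)] [Module.Projective R P]
    (hP : Big R P) {S : Set P} (hS : S.Countable) (hspan : Submodule.span R S = ⊤) :
    Module.Free R P := by
  classical
  obtain ⟨e, he⟩ : ∃ e : ℕ → P, S ⊆ Set.range e := by
    obtain ⟨e, he⟩ := Set.Countable.exists_eq_range (hS.insert 0) (Set.insert_nonempty 0 S)
    exact ⟨e, he ▸ Set.subset_insert 0 S⟩
  let St := {AQ : Submodule R P × Submodule R P //
    IsCompl AQ.1 AQ.2 ∧ Big R AQ.2}
  have step : ∀ (st : St) (g : P), ∃ (G : Submodule R P) (st' : St), Module.Free R G ∧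
      Disjoint G st'.1.2 ∧ G ⊔ st'.1.2 = st.1.2 ∧ st'.1.1 = st.1.1 ⊔ G ∧ g ∈ st'.1.1 := by
    rintro ⟨⟨A, Q⟩, hAQ, hQ⟩ g
    have : Module.Projective R Q := projective_left hAQ.symm
    obtain ⟨x, hx, y, hy, rfl⟩ := Submodule.mem_sup.1 (hAQ.sup_eq_top ▸ Submodule.mem_top (x := g))
    obtain ⟨G₀, H₀, hGH, hfree₀, hfin₀, hyG₀⟩ := exists_free_summand hQ ⟨y, hy⟩
    let G := G₀.map Q.subtype
    let Q' := H₀.map Q.subtype
    have hd : Disjoint G Q' := Submodule.disjoint_map Q.subtype_injective hGH.disjoint
    have hsup : G ⊔ Q' = Q := by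
      rw [← Submodule.map_sup, hGH.sup_eq_top, Submodule.map_subtype_top]
    have hyG : y ∈ G := ⟨⟨y, hy⟩, hyG₀, rfl⟩
    have hfree : Module.Free R G :=
      Module.Free.of_equiv (Submodule.equivMapOfInjective Q.subtype Q.subtype_injective G₀)
    have hproj : Big R Q' := by
      let eH := Submodule.equivMapOfInjective Q.subtype Q.subtype_injective H₀
      intro m hm T hT
      refine big_compl hQ hGH m hm (T.image eH.symm) ?_
      have := congrArg (Submodule.map eH.symm.toLinearMap) hT
      rw [Submodule.map_sup, Submodule.map_span, Submodule.map_smul'', Submodule.map_top,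
        LinearEquiv.range] at this
      simpa using this
    refine ⟨G, ⟨(A ⊔ G, Q'), ⟨⟨?_, ?_⟩, hproj⟩⟩, hfree, hd, hsup, rfl,
      add_mem (Submodule.mem_sup_left hx) (Submodule.mem_sup_right hyG)⟩
    · exact hd.disjoint_sup_left_of_disjoint_sup_right (hsup ▸ hAQ.disjoint)
    · rw [codisjoint_iff, sup_assoc, hsup, hAQ.sup_eq_top]
  choose G nx hG1 hG2 hG3 hG4 hG5 using step
  let st : ℕ → St := fun k =>
    Nat.rec ⟨(⊥, ⊤), isCompl_bot_top, fun m hm T hT => hP m hm (T.image Submodule.topEquiv) (by
        have := congrArg (Submodule.map (Submodule.topEquiv (R := R) (M := P)).toLinearMap) hT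
        rw [Submodule.map_sup, Submodule.map_span, Submodule.map_smul'', Submodule.map_top, LinearEquiv.range] at this
        simpa using this)⟩
      (fun k s => nx s (e k)) k
  let Gk : ℕ → Submodule R P := fun k => G (st k) (e k)
  have hA : ∀ k, (st k).1.1 = ⨆ j ∈ Finset.range k, Gk j := by
    intro k
    induction k with
    | zero => simp [st]
    | succ k ih =>
      change (nx (st k) (e k)).1.1 = _
      rw [hG4, ih, Finset.range_add_one, Finset.iSup_insert, sup_comm]
  have hQanti : Antitone fun k => (st k).1.2 := antitone_nat_of_succ_le fun k => by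
    change (nx (st k) (e k)).1.2 ≤ _
    rw [← hG3 (st k) (e k)]
    exact le_sup_right
  have hGle : ∀ k, Gk k ≤ (st k).1.2 := fun k => hG3 (st k) (e k) ▸ le_sup_left
  have hind : iSupIndep Gk := by
    intro k
    have h1 : Disjoint (Gk k) ((nx (st k) (e k)).1.2 ⊔ (st k).1.1) := by
      refine (hG2 (st k) (e k)).disjoint_sup_right_of_disjoint_sup_left ?_
      rw [hG3]
      exact (st k).2.1.disjoint.symm
    refine h1.mono_right (iSup₂_le fun j hj => ?_)
    rcases lt_or_gt_of_ne hj with h | h
    · refine le_trans ?_ le_sup_right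
      rw [hA k]
      exact le_iSup₂ (f := fun j (_ : j ∈ Finset.range k) => Gk j) j (Finset.mem_range.2 h)
    · exact le_trans ((hGle j).trans (hQanti (Nat.succ_le_of_lt h))) le_sup_left
  have htop : ⨆ k, Gk k = ⊤ := by
    rw [eq_top_iff, ← hspan, Submodule.span_le]
    intro x hx
    obtain ⟨k, rfl⟩ := he hx
    have h1 : e k ∈ (st (k + 1)).1.1 := hG5 (st k) (e k)
    have h2 := (SetLike.ext_iff.1 (hA (k + 1)) (e k)).1 h1
    exact (iSup₂_le (fun j _ => le_iSup Gk j) : (⨆ j ∈ Finset.range (k + 1), Gk j) ≤ ⨆ j, Gk j) h2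
  have hint := (DirectSum.isInternal_submodule_iff_iSupIndep_and_iSup_eq_top Gk).2 ⟨hind, htop⟩
  have : ∀ k, Module.Free R (Gk k) := fun k => hG1 _ _
  exact Module.Free.of_basis (hint.collectedBasis fun k => Module.Free.chooseBasis R (Gk k))


end Groth.Agent.H25.BigFree
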