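import Mathlib.Algebra.Module.Projective
import Mathlib.RingTheory.Jacobson.Ideal
import Mathlib.Algebra.Module.StablyFree.Basic
import Mathlib.RingTheory.Finiteness.Prod
import Mathlib.RingTheory.Localization.AtPrime.Basic
import Mathlib.RingTheory.Localization.Module
import Mathlib.LinearAlgebra.Dimension.Finite
import Mathlib.LinearAlgebra.Dimension.StrongRankCondition
import Mathlib.RingTheory.Noetherian.Basic
import Mathlib.RingTheory.Ideal.Quotient.Operations
import Mathlib.RingTheory.LocalProperties.Projective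
import Groth.Agent.Lib.Pure.LocalFree

/-!
Bass: big projective modules over rings with Noetherian quotient by the Jacobson radical.
-/

set_option autoImplicit false

universe u

namespace Groth.Agent.H25.BigProj

variable {R : Type u} [CommRing R] {P : Type u} [AddCommGroup P] [Module R P]

/-- `P / 𝔪 P` is finitely generated for no maximal ideal `𝔪`. -/
def Big (R : Type u) [CommRing R] (P : Type u) [AddCommGroup P] [Module R P] : Prop :=
  ∀ (m : Ideal R), m.IsMaximal → ∀ T : Finset P,
    Submodule.span R (T : Set P) ⊔ m • ⊤ ≠ (⊤ : Submodule R P)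

/-- The ideal of values of linear forms at `p`. -/
def vals (R : Type u) [CommRing R] {P : Type u} [AddCommGroup P] [Module R P] (p : P) : Ideal R :=
  LinearMap.range (Module.Dual.eval R P p)

theorem apply_mem_vals (p : P) (φ : P →ₗ[R] R) : φ p ∈ vals R p := ⟨φ, rfl⟩

open Classical in
theorem exists_unimodular [IsNoetherianRing (R ⧸ (⊥ : Ideal R).jacobson)] [Module.Projective R P]
    (hP : Big R P) (s : P) (M : Submodule R P) (hM : Submodule.span R {s} ⊔ M = ⊤) :
    ∃ m ∈ M, ∃ φ : P →ₗ[R] R, φ (s + m) = 1 := by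
  obtain ⟨e, he⟩ := Module.projective_def'.1 ‹Module.Projective R P›
  let J : Ideal R := (⊥ : Ideal R).jacobson
  let q := Ideal.Quotient.mk J
  have hqs : Function.Surjective q := Ideal.Quotient.mk_surjective
  have hJm : ∀ m : Ideal R, m.IsMaximal → J ≤ m := fun m hm =>
    sInf_le ⟨bot_le, hm⟩
  have hid : ∀ p, Finsupp.linearCombination R id (e p) = p := fun p => LinearMap.congr_fun he p
  have hexp : ∀ (φ : P →ₗ[R] R) (p : P), φ p = (e p).sum fun i a => a * φ i := by
    intro φ p
    conv_lhs => rw [← hid p]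
    simp only [Finsupp.linearCombination_apply, map_finsuppSum, map_smul,
      smul_eq_mul, id]
  obtain ⟨I, ⟨m₀, hm₀, rfl⟩, hmax⟩ :=
    set_has_maximal_iff_noetherian.2 (inferInstance : IsNoetherian (R ⧸ J) (R ⧸ J))
      {I | ∃ m ∈ M, (vals R (s + m)).map q = I} ⟨_, 0, zero_mem _, rfl⟩
  by_cases htop : (vals R (s + m₀)).map q = ⊤
  · have h1 : (1 : R ⧸ J) ∈ (vals R (s + m₀)).map q := by rw [htop]; trivial
    obtain ⟨a, ⟨φ, rfl⟩, ha⟩ := (Ideal.mem_map_iff_of_surjective q hqs).1 h1
    have hu : IsUnit (φ (s + m₀)) := by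
      have hmem : Module.Dual.eval R P (s + m₀) φ - 1 ∈ J := by
        rw [← Ideal.Quotient.eq_zero_iff_mem, map_sub, ha, map_one, sub_self]
      have := Ideal.mem_jacobson_bot.1 hmem 1
      simpa using this
    obtain ⟨v, hv⟩ := hu.exists_right_inv
    exact ⟨m₀, hm₀, v • φ, by rw [LinearMap.smul_apply, smul_eq_mul, mul_comm, hv]⟩
  exfalso
  obtain ⟨𝔪, h𝔪, hle⟩ := Ideal.exists_le_maximal ((vals R (s + m₀)).map q ⊔ ⊥) (by simpa using htop)
  let m : Ideal R := 𝔪.comap q
  have hm : m.IsMaximal := Ideal.comap_isMaximal_of_surjective q hqs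
  have hvm : vals R (s + m₀) ≤ m :=
    Ideal.map_le_iff_le_comap.1 (le_sup_left.trans hle)
  set p := s + m₀ with hp
  let S := (e p).support
  let ρ : P →ₗ[R] (S → R ⧸ J) :=
    LinearMap.pi fun i => (Algebra.linearMap R (R ⧸ J)) ∘ₗ Finsupp.lapply i.1 ∘ₗ e
  have : IsNoetherian R (R ⧸ J) := by
    refine ⟨fun N => ?_⟩
    let I' : Ideal (R ⧸ J) :=
      { N with
        smul_mem' := fun a b hb => by
          obtain ⟨a, rfl⟩ := hqs a
          rw [show q a • b = a • b from algebraMap_smul (R ⧸ J) a b]
          exact N.smul_mem a hb }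
    obtain ⟨T, hT⟩ := (IsNoetherian.noetherian I' : I'.FG)
    refine ⟨T, le_antisymm (Submodule.span_le.2 fun x hx => ?_) fun x hx => ?_⟩
    · exact (show x ∈ I' from hT ▸ Submodule.subset_span hx)
    · have hxI : x ∈ Submodule.span (R ⧸ J) (T : Set (R ⧸ J)) := by rw [hT]; exact hx
      rwa [← Submodule.restrictScalars_mem R, Submodule.restrictScalars_span R (R ⧸ J) hqs] at hxI
  obtain ⟨T₀, hT₀⟩ := (IsNoetherian.noetherian (M.map ρ) : (M.map ρ).FG)
  have hlift : ∀ y : S → R ⧸ J, ∃ x : P, y ∈ T₀ → x ∈ M ∧ ρ x = y := by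
    intro y
    by_cases hy : y ∈ T₀
    · obtain ⟨x, hx, rfl⟩ := (hT₀ ▸ Submodule.subset_span hy : y ∈ M.map ρ)
      exact ⟨x, fun _ => ⟨hx, rfl⟩⟩
    · exact ⟨0, fun h => absurd h hy⟩
  choose g hg using hlift
  by_cases hall : ∀ k ∈ M, ρ k = 0 → ∀ i, e k i ∈ m
  · refine hP m hm (insert s (T₀.image g)) (eq_top_iff.2 ?_)
    refine (le_of_eq hM.symm).trans ?_
    refine sup_le (Submodule.span_le.2 ?_) ?_
    · intro x hx
      rw [Set.mem_singleton_iff] at hx
      exact Submodule.mem_sup_left (Submodule.subset_span (by simp [hx]))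
    · intro x hx
      have hxρ : ρ x ∈ (Submodule.span R ((T₀.image g : Finset P) : Set P)).map ρ := by
        rw [Submodule.map_span]
        have : ρ x ∈ Submodule.span R (T₀ : Set (S → R ⧸ J)) := by rw [hT₀]; exact ⟨x, hx, rfl⟩
        refine Submodule.span_mono ?_ this
        intro y hy
        exact ⟨g y, by simpa using ⟨y, hy, rfl⟩, (hg y hy).2⟩
      obtain ⟨t, ht, htx⟩ := hxρ
      have htM : t ∈ M := by
        refine Submodule.span_le.2 ?_ ht
        intro z hz
        simp only [Finset.coe_image, Set.mem_image, Finset.mem_coe] at hz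
        obtain ⟨y, hy, rfl⟩ := hz
        exact (hg y hy).1
      have hk := hall (x - t) (sub_mem hx htM) (by rw [map_sub, htx, sub_self])
      have hkm : x - t ∈ m • (⊤ : Submodule R P) := by
        rw [← hid (x - t), Finsupp.linearCombination_apply]
        exact Submodule.sum_mem _ fun i _ => Submodule.smul_mem_smul (hk i) Submodule.mem_top
      rw [← add_sub_cancel t x]
      exact add_mem (Submodule.mem_sup_left (Submodule.span_mono (by simp) ht))
        (Submodule.mem_sup_right hkm)
  push Not at hall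
  obtain ⟨k, hkM, hk0, i₀, hi₀⟩ := hall
  have hkS : ∀ i ∈ S, q (e k i) = 0 := fun i hi => congrFun hk0 ⟨i, hi⟩
  have hco : ∀ i, q (e p i) ∈ (vals R (p + k)).map q ∧ q (e k i) ∈ (vals R (p + k)).map q := by
    intro i
    have h := Ideal.mem_map_of_mem q (apply_mem_vals (p + k) (Finsupp.lapply i ∘ₗ e))
    simp only [LinearMap.comp_apply, map_add, Finsupp.lapply_apply] at h
    by_cases hi : i ∈ S
    · rw [hkS i hi] at h ⊢
      exact ⟨by simpa using h, zero_mem _⟩
    · have : e p i = 0 := Finsupp.notMem_support_iff.1 hi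
      rw [this, map_zero] at h ⊢
      exact ⟨zero_mem _, by simpa using h⟩
  have hmono : (vals R p).map q ≤ (vals R (p + k)).map q := by
    rw [Ideal.map_le_iff_le_comap]
    rintro _ ⟨φ, rfl⟩
    rw [Ideal.mem_comap, show Module.Dual.eval R P p φ = φ p from rfl, hexp φ p, map_finsuppSum]
    exact Submodule.sum_mem _ fun i _ => by
      dsimp only
      rw [map_mul]; exact Ideal.mul_mem_right _ _ (hco i).1
  refine hmax _ ⟨m₀ + k, add_mem hm₀ hkM, by rw [← add_assoc]⟩ (lt_of_le_not_ge hmono fun hge => ?_)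
  have h2 := Ideal.mem_comap.2 (hge (hco i₀).2)
  rw [Ideal.comap_map_of_surjective q hqs, ← RingHom.ker_eq_comap_bot, Ideal.mk_ker] at h2
  exact hi₀ (sup_le hvm (hJm m hm) h2)

open Classical in
theorem big_of_not_finite [Module.Projective R P]
    (hP : ∀ (m : Ideal R) [m.IsMaximal],
      ¬ Module.Finite (Localization.AtPrime m) (LocalizedModule m.primeCompl P)) : Big R P := by
  intro m hm T hT
  refine hP m ?_
  let A := Localization.AtPrime m
  let L := LocalizedModule m.primeCompl P
  let mk := LocalizedModule.mkLinearMap m.primeCompl P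
  have : Module.Projective A L :=
    Module.projective_of_isLocalizedModule m.primeCompl mk
  set mA := IsLocalRing.maximalIdeal A with hmA
  have hgen : Submodule.span A ((T.image mk : Finset L) : Set L) ⊔ mA • ⊤ = ⊤ := by
    rw [eq_top_iff]; intro x _
    obtain ⟨⟨p, t⟩, rfl⟩ := IsLocalizedModule.mk'_surjective m.primeCompl mk x
    rw [show Function.uncurry (IsLocalizedModule.mk' mk) (p, t) =
      IsLocalization.mk' A (1 : R) t • mk p by
        rw [← IsLocalizedModule.mk'_one m.primeCompl mk, IsLocalizedModule.mk'_smul_mk']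
        simp [Function.uncurry]]
    refine Submodule.smul_mem _ _ ?_
    have hp : p ∈ Submodule.span R (T : Set P) ⊔ m • ⊤ := by rw [hT]; trivial
    have hle : Submodule.span R (T : Set P) ⊔ m • ⊤ ≤ Submodule.comap mk
        ((Submodule.span A ((T.image mk : Finset L) : Set L) ⊔ mA • ⊤).restrictScalars R) := by
      refine sup_le (Submodule.span_le.2 fun y hy => ?_) (Submodule.smul_le.2 fun a ha y _ => ?_)
      · exact Submodule.mem_sup_left (Submodule.subset_span (Finset.mem_image_of_mem mk hy))
      · rw [Submodule.mem_comap, Submodule.restrictScalars_mem, map_smul, ← algebraMap_smul A a (mk y)]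
        exact Submodule.mem_sup_right (Submodule.smul_mem_smul
          ((IsLocalization.AtPrime.to_map_mem_maximal_iff A m a).2 ha) Submodule.mem_top)
    exact hle hp
  -- bound on the rank of free summands
  have hbound : ∀ (κ : Type u) [Fintype κ] (r : L →ₗ[A] (κ → A)), Function.Surjective r →
      Fintype.card κ ≤ T.card := by
    intro κ _ r hr
    let k := A ⧸ mA
    let π : (κ → A) → (κ → k) := fun v i => Ideal.Quotient.mk mA (v i)
    have hspan : Submodule.span k ((T.image fun y => π (r (mk y)) : Finset (κ → k)) : Set (κ → k)) = ⊤ := by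
      rw [eq_top_iff]; intro v _
      choose v' hv' using fun i => Ideal.Quotient.mk_surjective (v i)
      obtain ⟨x, hx⟩ := hr v'
      have hmem : ∀ y ∈ Submodule.span A ((T.image mk : Finset L) : Set L) ⊔ mA • ⊤,
          π (r y) ∈ Submodule.span k ((T.image fun y => π (r (mk y)) : Finset (κ → k)) : Set (κ → k)) := by
        intro y hy
        obtain ⟨a, ha, b, hb, rfl⟩ := Submodule.mem_sup.1 hy
        have hb0 : π (r b) = 0 := by
          refine Submodule.smul_induction_on hb (fun c hc z _ => ?_) (fun c d hc hd => ?_)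
          · funext i
            show Ideal.Quotient.mk mA (r (c • z) i) = 0
            rw [map_smul, Ideal.Quotient.eq_zero_iff_mem]
            exact Ideal.mul_mem_right _ _ hc
          · funext i
            show Ideal.Quotient.mk mA (r (c + d) i) = 0
            rw [map_add, Pi.add_apply, map_add]
            rw [show Ideal.Quotient.mk mA (r c i) = 0 from congrFun hc i,
              show Ideal.Quotient.mk mA (r d i) = 0 from congrFun hd i, add_zero]
        have hadd : π (r (a + b)) = π (r a) + π (r b) := by funext i; simp [π]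
        rw [hadd, hb0, add_zero]
        clear hy hadd
        induction ha using Submodule.span_induction with
        | mem z hz =>
          simp only [Finset.coe_image, Set.mem_image, Finset.mem_coe] at hz
          obtain ⟨w, hw, rfl⟩ := hz
          exact Submodule.subset_span (by simpa using ⟨w, hw, rfl⟩)
        | zero => simp [π]; exact zero_mem _
        | add c d _ _ hc hd =>
          rw [show π (r (c + d)) = π (r c) + π (r d) by funext i; simp [π]]; exact add_mem hc hd
        | smul c d _ hd =>
          rw [show π (r (c • d)) = Ideal.Quotient.mk mA c • π (r d) by funext i; simp [π]]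
          exact Submodule.smul_mem _ _ hd
      have := hmem x (by rw [hgen]; trivial)
      rwa [hx, show π v' = v from funext hv'] at this
    have h1 := finrank_span_finset_le_card (R := k) (T.image fun y => π (r (mk y)))
    have h2 := Finset.card_image_le (s := T) (f := fun y => π (r (mk y)))
    rw [Set.finrank, hspan, finrank_top, Module.finrank_fintype_fun_eq_card] at h1
    omega
  let Good : ℕ → Prop := fun n => ∃ (κ : Type u) (_ : Fintype κ) (i : (κ → A) →ₗ[A] L)
    (r : L →ₗ[A] (κ → A)), r ∘ₗ i = LinearMap.id ∧ Fintype.card κ = n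
  have h0 : Good 0 := ⟨PEmpty, inferInstance, 0, 0,
    LinearMap.ext fun x => funext fun i => i.elim, rfl⟩
  obtain ⟨n, hn, hmaxn⟩ : ∃ n, Good n ∧ ¬ Good (n + 1) ∧ ∀ j, n < j → ¬ Good j := by
    let n := Nat.findGreatest Good T.card
    have hn : Good n := Nat.findGreatest_spec (Nat.zero_le _) h0
    have hj : ∀ j, n < j → ¬ Good j := by
      intro j hj hg
      have hg' := hg
      obtain ⟨κ, _, i, r, hri, rfl⟩ := hg'
      have := hbound κ r (fun v => ⟨i v, LinearMap.congr_fun hri v⟩)
      exact Nat.findGreatest_is_greatest hj this hg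
    exact ⟨n, hn, hj _ (Nat.lt_succ_self n), hj⟩
  obtain ⟨κ, _, i, r, hri, rfl⟩ := hn
  have hsurj : Function.Surjective i := by
    intro x
    by_contra hne
    let Q := LinearMap.ker r
    have hpr : ∀ z, z - i (r z) ∈ Q := fun z => by
      rw [LinearMap.mem_ker, map_sub, ← LinearMap.comp_apply r i, hri, LinearMap.id_apply, sub_self]
    let pr : L →ₗ[A] Q := (LinearMap.id - i ∘ₗ r).codRestrict Q hpr
    have : Module.Projective A Q := Module.Projective.of_split Q.subtype pr
      (LinearMap.ext fun z => Subtype.ext (by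
        show (z : L) - i (r z) = z
        rw [LinearMap.mem_ker.1 z.2, map_zero, sub_zero]))
    obtain ⟨κ', _, i', r', hri', hy⟩ :=
      Groth.Agent.Lib.Pure.LocalFree.exists_free_summand (R := A) (P := ↥Q) (pr x)
    rcases isEmpty_or_nonempty κ' with h | h
    · obtain ⟨c, hc⟩ := hy
      apply hne
      refine ⟨r x, ?_⟩
      have : (pr x : L) = 0 := by rw [← hc, Subsingleton.elim c 0, map_zero]; rfl
      have h' : x - i (r x) = 0 := this
      exact (sub_eq_zero.1 h').symm
    · refine hmaxn.2 (Fintype.card κ + Fintype.card κ') (Nat.lt_add_of_pos_right Fintype.card_pos) ?_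
      let e := LinearEquiv.sumArrowLequivProdArrow κ κ' A A
      refine ⟨κ ⊕ κ', inferInstance, (LinearMap.coprod i (Q.subtype ∘ₗ i')) ∘ₗ e.toLinearMap,
        e.symm.toLinearMap ∘ₗ LinearMap.prod r (r' ∘ₗ pr), ?_, Fintype.card_sum⟩
      refine LinearMap.ext fun v => e.injective ?_
      simp only [LinearMap.comp_apply, LinearEquiv.coe_coe, LinearEquiv.apply_symm_apply,
        LinearMap.id_apply]
      have hq0 : ∀ z, r (Q.subtype (i' z)) = 0 := fun z => (i' z).2
      have hri1 : ∀ a, r (i a) = a := fun a => LinearMap.congr_fun hri a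
      refine Prod.ext ?_ ?_
      · simp [hri1, hq0]
      · have hz : pr ((i (e v).1) + Q.subtype (i' (e v).2)) = i' (e v).2 := by
          refine Subtype.ext ?_
          show (i (e v).1 + Q.subtype (i' (e v).2)) - i (r (i (e v).1 + Q.subtype (i' (e v).2))) = Q.subtype (i' (e v).2)
          rw [map_add, hri1, hq0, add_zero]; simp
        show r' (pr _) = _
        rw [LinearMap.coprod_apply, LinearMap.comp_apply, hz]
        exact LinearMap.congr_fun hri' _
  exact Module.Finite.of_surjective i hsurj

/-- One step of Bass' cancellation. -/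
theorem step [IsNoetherianRing (R ⧸ (⊥ : Ideal R).jacobson)] {X : Type u} [AddCommGroup X]
    [Module R X] [Module.Projective R X] (hX : Big R X) (s : X) (K W : Submodule R (R × X))
    (hKW : IsCompl K W) [Module.Finite R K] [Module.IsStablyFree R K] (hs : ((0, s) : R × X) ∈ K) :
    ∃ K₁ K₁' : Submodule R X, IsCompl K₁ K₁' ∧ Module.Finite R K₁ ∧ Module.IsStablyFree R K₁ ∧ s ∈ K₁ := by
  classical
  let pK := K.projectionOnto W hKW
  let pW := W.projectionOnto K hKW.symm
  have hsum : ∀ z : R × X, (pK z : R × X) + pW z = z := fun z =>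
    by rw [Submodule.coe_projectionOnto_apply, Submodule.coe_projectionOnto_apply]; exact Submodule.projection_add_projection_eq_self hKW z
  let f : R × X →ₗ[R] R := LinearMap.fst R R X
  have hbig : Big R W := by
    intro m hm T hT
    obtain ⟨S, hS⟩ : K.FG := Module.Finite.iff_fg.1 inferInstance
    refine hX m hm ((S ∪ T.image Subtype.val).image Prod.snd) ?_
    rw [eq_top_iff]; intro x _
    have hK : (pK (0, x) : R × X) ∈ Submodule.span R (S : Set (R × X)) := by rw [hS]; exact Subtype.coe_prop _
    have hW : pW (0, x) ∈ Submodule.span R (T : Set W) ⊔ m • ⊤ := by rw [hT]; trivial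
    let N := Submodule.span R (((S ∪ T.image Subtype.val).image Prod.snd : Finset X) : Set X) ⊔ m • ⊤
    have h1 : Submodule.span R (S : Set (R × X)) ≤ N.comap (LinearMap.snd R R X) :=
      Submodule.span_le.2 fun z hz => Submodule.mem_sup_left (Submodule.subset_span
        (Finset.mem_image_of_mem _ (Finset.mem_union_left _ hz)))
    have h2 : Submodule.span R (T : Set W) ⊔ m • ⊤ ≤ N.comap (LinearMap.snd R R X ∘ₗ W.subtype) := by
      refine sup_le (Submodule.span_le.2 fun z hz => Submodule.mem_sup_left (Submodule.subset_span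
        (Finset.mem_image_of_mem _ (Finset.mem_union_right _ (Finset.mem_image_of_mem _ hz)))))
        (Submodule.smul_le.2 fun a ha z _ => ?_)
      show (LinearMap.snd R R X ∘ₗ W.subtype) (a • z) ∈ N
      rw [map_smul]
      exact Submodule.mem_sup_right (Submodule.smul_mem_smul ha Submodule.mem_top)
    have := add_mem (h1 hK) (h2 hW)
    show x ∈ N
    have hx : x = ((pK (0, x) : R × X)).2 + ((pW (0, x) : R × X)).2 := by
      rw [← Prod.snd_add, hsum]
    rw [hx]; exact this
  have : Module.Projective R W := Module.Projective.of_split W.subtype pW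
    (LinearMap.ext fun z => Submodule.projectionOnto_apply_left hKW.symm z)
  let k₀ := pK (1, 0)
  let w₀ := pW (1, 0)
  have hf1 : f k₀ + f w₀ = 1 := by rw [← map_add, hsum]; rfl
  let M : Submodule R W := Submodule.comap (f ∘ₗ W.subtype) (K.map f)
  have hM : Submodule.span R {w₀} ⊔ M = ⊤ := by
    rw [eq_top_iff]; intro w _
    rw [Submodule.mem_sup]
    refine ⟨f w • w₀, Submodule.smul_mem _ _ (Submodule.subset_span rfl), w - f w • w₀, ?_, by abel⟩
    show f ((w : R × X) - f w • (w₀ : R × X)) ∈ K.map f
    rw [map_sub, map_smul, show f w - f w • f w₀ = f w • f k₀ by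
      rw [eq_sub_of_add_eq hf1, smul_eq_mul, smul_eq_mul]; ring]
    exact Submodule.smul_mem _ _ ⟨_, k₀.2, rfl⟩
  obtain ⟨μ, hμ, φ, hφ⟩ := exists_unimodular hbig w₀ M hM
  obtain ⟨k', hk', hk'eq⟩ : f (μ : R × X) ∈ K.map f := hμ
  let w : W := w₀ + μ
  let u : R × X := (k₀ : R × X) - k' + w
  let K₂ : Submodule R (R × X) := K ⊔ Submodule.span R {(w : R × X)}
  have hu : u ∈ K₂ := add_mem (Submodule.mem_sup_left (sub_mem k₀.2 hk'))
    (Submodule.mem_sup_right (Submodule.subset_span rfl))
  have hfu : f u = 1 := by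
    show f ((k₀ : R × X) - k' + ((w₀ : R × X) + (μ : R × X))) = 1
    rw [map_add, map_add, map_sub, hk'eq, ← hf1]; ring
  let Φ : R × X →ₗ[R] R := φ ∘ₗ pW
  have hΦK : ∀ z ∈ K, Φ z = 0 := fun z hz => by
    show φ (pW z) = 0
    rw [show pW z = 0 from (Submodule.projectionOnto_apply_eq_zero_iff hKW.symm).2 hz, map_zero]
  have hΦw : Φ w = 1 := by
    show φ (pW w) = 1
    rw [show pW (w : R × X) = w from Submodule.projectionOnto_apply_left hKW.symm w]; exact hφ
  -- projection to `K₂`
  let p2 : R × X →ₗ[R] R × X :=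
    K.subtype ∘ₗ pK + (LinearMap.toSpanSingleton R (R × X) (w : R × X)) ∘ₗ Φ
  have hpKw : pK (w : R × X) = 0 :=
    (Submodule.projectionOnto_apply_eq_zero_iff hKW).2 w.2
  have hp2m : ∀ z, p2 z ∈ K₂ := fun z => add_mem (Submodule.mem_sup_left (pK z).2)
    (Submodule.mem_sup_right (Submodule.smul_mem _ _ (Submodule.subset_span rfl)))
  have hp2s : ∀ z ∈ K₂, p2 z = z := by
    intro z hz
    have : K₂ ≤ LinearMap.eqLocus p2 LinearMap.id := by
      refine sup_le (fun a ha => ?_) (Submodule.span_le.2 ?_)
      · show (pK a : R × X) + Φ a • (w : R × X) = a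
        rw [hΦK a ha, zero_smul, add_zero,
          show pK a = ⟨a, ha⟩ from Submodule.projectionOnto_apply_left hKW ⟨a, ha⟩]
      · intro a ha
        rw [Set.mem_singleton_iff] at ha; subst ha
        show (pK (w : R × X) : R × X) + Φ w • (w : R × X) = w
        rw [hpKw, hΦw, one_smul]; simp
    exact this hz
  let K₁ : Submodule R X :=
    K₂.map (LinearMap.snd R R X - (LinearMap.toSpanSingleton R X u.2) ∘ₗ f)
  let β : R × X →ₗ[R] X := LinearMap.snd R R X - (LinearMap.toSpanSingleton R X u.2) ∘ₗ f
  have hβu : β u = 0 := by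
    show u.2 - f u • u.2 = 0
    rw [hfu, one_smul, sub_self]
  have hin : ∀ x ∈ K₁, ((0, x) : R × X) ∈ K₂ := by
    rintro _ ⟨z, hz, rfl⟩
    have : ((0, β z) : R × X) = z - f z • u := by
      refine Prod.ext ?_ rfl
      show 0 = f z - f z • f u
      rw [hfu, smul_eq_mul, mul_one, sub_self]
    show ((0, β z) : R × X) ∈ K₂
    rw [this]; exact sub_mem hz (Submodule.smul_mem _ _ hu)
  have hmem : ∀ x, β (p2 (0, x)) ∈ K₁ := fun x => ⟨_, hp2m _, rfl⟩
  let p1 : X →ₗ[R] K₁ := (β ∘ₗ p2 ∘ₗ LinearMap.inr R R X).codRestrict K₁ hmem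
  have hp1 : ∀ x : K₁, p1 x = x := fun x => Subtype.ext (by
    show β (p2 (0, (x : X))) = x
    rw [hp2s _ (hin x x.2)]
    show (x : X) - f ((0, (x : X)) : R × X) • u.2 = x
    simp [f])
  refine ⟨K₁, LinearMap.ker p1, LinearMap.isCompl_of_proj hp1, ?_, ?_, ?_⟩
  · have : Module.Finite R K₂ := Module.Finite.iff_fg.2
      ((Module.Finite.iff_fg.1 inferInstance).sup (Submodule.fg_span_singleton _))
    exact Module.Finite.iff_fg.2 ((Module.Finite.iff_fg.1 this).map β)
  · -- `K₁ × R ≅ K₂ ≅ K × R`
    let a : (K₁ × R) →ₗ[R] K₂ :=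
      LinearMap.codRestrict K₂ ((LinearMap.inr R R X ∘ₗ K₁.subtype).coprod
        (LinearMap.toSpanSingleton R (R × X) u))
        (fun z => add_mem (hin _ z.1.2) (Submodule.smul_mem _ _ hu))
    let b : K₂ →ₗ[R] K₁ × R :=
      LinearMap.prod ((β ∘ₗ K₂.subtype).codRestrict K₁ (fun z => ⟨_, z.2, rfl⟩)) (f ∘ₗ K₂.subtype)
    let e1 : (K₁ × R) ≃ₗ[R] K₂ := LinearEquiv.ofLinearMap a b
      (LinearMap.ext fun z => Subtype.ext (by
        show ((0, β (z : R × X)) : R × X) + f z • u = z
        refine Prod.ext ?_ ?_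
        · show (0 : R) + f z • f u = f z
          rw [hfu, smul_eq_mul, mul_one, zero_add]
        · show β (z : R × X) + f z • u.2 = (z : R × X).2
          exact sub_add_cancel _ _))
      (LinearMap.ext fun z => by
        refine Prod.ext (Subtype.ext ?_) ?_
        · show β (((0, (z.1 : X)) : R × X) + z.2 • u) = z.1
          rw [map_add, map_smul, hβu, smul_zero, add_zero]
          show (z.1 : X) - f ((0, (z.1 : X)) : R × X) • u.2 = z.1
          simp [f]
        · show f (((0, (z.1 : X)) : R × X) + z.2 • u) = z.2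
          rw [map_add, map_smul, hfu]
          simp [f])
    let a' : (K × R) →ₗ[R] K₂ :=
      LinearMap.codRestrict K₂ (K.subtype.coprod (LinearMap.toSpanSingleton R (R × X) (w : R × X)))
        (fun z => add_mem (Submodule.mem_sup_left z.1.2)
          (Submodule.mem_sup_right (Submodule.smul_mem _ _ (Submodule.subset_span rfl))))
    let b' : K₂ →ₗ[R] K × R := LinearMap.prod (pK ∘ₗ K₂.subtype) (Φ ∘ₗ K₂.subtype)
    let e2 : (K × R) ≃ₗ[R] K₂ := LinearEquiv.ofLinearMap a' b'
      (LinearMap.ext fun z => Subtype.ext (hp2s _ z.2))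
      (LinearMap.ext fun z => by
        refine Prod.ext ?_ ?_
        · show pK ((z.1 : R × X) + z.2 • (w : R × X)) = z.1
          rw [map_add, map_smul, hpKw, smul_zero, add_zero]
          exact Submodule.projectionOnto_apply_left hKW z.1
        · show Φ ((z.1 : R × X) + z.2 • (w : R × X)) = z.2
          rw [map_add, map_smul, hΦK _ z.1.2, hΦw]
          simp)
    obtain ⟨N, _, _, _, _, hfree⟩ := Module.IsStablyFree.exist_free_prod R K
    have : Module.Free R (K₁ × (R × N)) :=
      Module.Free.of_equiv (((LinearEquiv.prodAssoc R K₁ R N).symm.trans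
        ((e1.trans e2.symm).prodCongr (LinearEquiv.refl R N))).trans
        ((LinearEquiv.prodAssoc R K R N).trans
          (((LinearEquiv.refl R K).prodCongr (LinearEquiv.prodComm R R N)).trans
            (LinearEquiv.prodAssoc R K N R).symm))).symm
    exact Module.IsStablyFree.of_free_prod R K₁ (R × N)
  · refine ⟨(0, s), Submodule.mem_sup_left hs, ?_⟩
    show s - f ((0, s) : R × X) • u.2 = s
    simp [f]

end Groth.Agent.H25.BigProj
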