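import Groth.Agent.H25.FittingBlowUp
import Mathlib.RingTheory.Flat.Basic
import Mathlib.RingTheory.Flat.TorsionFree
import Mathlib.RingTheory.Nilpotent.Lemmas
import Mathlib.RingTheory.Finiteness.Basic

/-!
# Flattening by blowing up a Fitting ideal
-/

universe u

open TensorProduct

namespace Groth.Agent.H25.Fitting

variable {R : Type u} [CommRing R]

lemma exists_pow_mul_mem_Mn {n p : ℕ} {S : Set (Fin n → R)} {Z : Set (Fin n → R)} (f : R)
    (h : ∀ v ∈ S, ∃ N : ℕ, f ^ N • v ∈ Submodule.span R Z) {d : R} (hd : d ∈ Mn S p) :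
    ∃ N : ℕ, f ^ N * d ∈ Mn Z p := by
  refine Submodule.span_induction ?_ ⟨0, by simp⟩ ?_ ?_ hd
  · rintro d ⟨z, e, hz, rfl⟩
    choose N hN using fun b => h (z b) (hz b)
    refine ⟨(Finset.univ.sup N) * p, ?_⟩
    have hm := minor_mem (S := (Submodule.span R Z : Set (Fin n → R)))
      (fun b => f ^ Finset.univ.sup N • z b) e (fun b => by
        rw [← Nat.sub_add_cancel (Finset.le_sup (f := N) (Finset.mem_univ b)), pow_add, mul_smul]
        exact Submodule.smul_mem _ _ (hN b))
    rw [Mn_span] at hm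
    rw [pow_mul]
    refine Eq.subst (motive := fun d => d ∈ Mn Z p) ?_ hm
    rw [minor, show (Matrix.of fun a b => (f ^ Finset.univ.sup N • z b) (e a)) =
      f ^ Finset.univ.sup N • (Matrix.of fun a b => z b (e a)) from rfl, Matrix.det_smul,
      Fintype.card_fin]
  · rintro a b _ _ ⟨N, hN⟩ ⟨N', hN'⟩
    refine ⟨N + N', ?_⟩
    rw [mul_add]
    refine add_mem ?_ ?_
    · rw [pow_add, mul_right_comm]; exact Ideal.mul_mem_right _ _ hN
    · rw [pow_add, mul_assoc]; exact Ideal.mul_mem_left _ _ hN'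
  · rintro r a _ ⟨N, hN⟩
    exact ⟨N, by rw [smul_eq_mul, mul_left_comm]; exact Ideal.mul_mem_left _ _ hN⟩

variable {M : Type u} [AddCommGroup M] [Module R M]

lemma exists_finite_rel_away (g : R)
    [Module.FinitePresentation (Localization.Away g) (LocalizedModule (Submonoid.powers g) M)]
    {n : ℕ} (x : Fin n → M) (hx : Submodule.span R (Set.range x) = ⊤) :
    ∃ Z : Set (Fin n → R), Z.Finite ∧ Z ⊆ (rel (R := R) x : Set (Fin n → R)) ∧
      ∀ v ∈ rel (R := R) x, ∃ N : ℕ, g ^ N • v ∈ Submodule.span R Z := by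
  let S := Submonoid.powers g
  let π := Fintype.linearCombination R x
  let fF := LocalizedModule.mkLinearMap S (Fin n → R)
  let fM := LocalizedModule.mkLinearMap S M
  have hπ : Function.Surjective π := LinearMap.range_eq_top.mp (by
    rw [Fintype.range_linearCombination]; exact hx)
  have hfg : (Submodule.localized' (Localization S) S fF (rel (R := R) x)).FG := by
    rw [show rel (R := R) x = LinearMap.ker π from rfl,
      LinearMap.localized'_ker_eq_ker_localizedMap (Localization S) S fF fM π]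
    have : Module.Finite (Localization S) (LocalizedModule S (Fin n → R)) :=
      Module.Finite.of_isLocalizedModule S fF
    exact Module.FinitePresentation.fg_ker _ (IsLocalizedModule.map_surjective S fF fM π hπ)
  obtain ⟨W, hW⟩ := hfg
  have hmem : ∀ w : W, ∃ m ∈ rel (R := R) x, ∃ s : S, IsLocalizedModule.mk' fF m s = (w : LocalizedModule S (Fin n → R)) := fun w =>
    (Submodule.mem_localized' _ _ _ _ _).mp (hW.le (Submodule.subset_span w.2))
  choose m hm s hs using hmem
  refine ⟨Set.range m, Set.finite_range m, by rintro _ ⟨w, rfl⟩; exact hm w, fun v hv => ?_⟩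
  have hle : Submodule.span (Localization S) (W : Set (LocalizedModule S (Fin n → R))) ≤
      Submodule.localized' (Localization S) S fF (Submodule.span R (Set.range m)) :=
    Submodule.span_le.mpr fun w hw => (Submodule.mem_localized' _ _ _ _ _).mpr
      ⟨m ⟨w, hw⟩, Submodule.subset_span ⟨⟨w, hw⟩, rfl⟩, s ⟨w, hw⟩, hs ⟨w, hw⟩⟩
  obtain ⟨m', hm', t, ht⟩ := (Submodule.mem_localized' _ _ _ _ _).mp
    (hle (hW.ge ((Submodule.mem_localized' _ _ _ _ _).mpr ⟨v, hv, 1, rfl⟩)))
  obtain ⟨u, hu⟩ := (IsLocalizedModule.mk'_eq_mk'_iff fF m' v t 1).mp ht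
  obtain ⟨_, ⟨N, rfl⟩⟩ := u
  obtain ⟨_, ⟨N', rfl⟩⟩ := t
  have hu' : g ^ N • g ^ N' • v = g ^ N • m' := by
    simpa [Submonoid.smul_def] using hu
  exact ⟨N + N', by rw [pow_add, mul_smul, hu']; exact Submodule.smul_mem _ _ hm'⟩

theorem exists_flattening [Module.Finite R M] (f : R) (r : ℕ)
    (hf : ∀ (p : Ideal R) [p.IsPrime], f ∉ p → ∃ g : R, g ∉ p ∧
      Module.Free (Localization.Away g) (LocalizedModule (Submonoid.powers g) M) ∧
        Module.finrank (Localization.Away g) (LocalizedModule (Submonoid.powers g) M) = r) :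
    ∃ I : Ideal R, I.FG ∧ I.radical = (Ideal.span {f}).radical ∧ ∀ a ∈ I, ∀ (R₁ : Type u) [CommRing R₁]
      [Algebra R R₁] (e : R₁ ≃ₐ[R] ↥(BlowUp.affineAlgebra R I a)),
      ∀ (p' : Ideal R₁) [p'.IsPrime], ∃ g : R₁, g ∉ p' ∧
        Module.Free (Localization.Away g) (LocalizedModule (Submonoid.powers g)
          ((R₁ ⊗[R] M) ⧸ FlatCA.powTorsion R₁ (algebraMap R R₁ a) (R₁ ⊗[R] M))) ∧
        Module.finrank (Localization.Away g) (LocalizedModule (Submonoid.powers g)
          ((R₁ ⊗[R] M) ⧸ FlatCA.powTorsion R₁ (algebraMap R R₁ a) (R₁ ⊗[R] M))) = r := by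
  classical
  obtain ⟨n, x, hx⟩ := Module.Finite.exists_fin (R := R) (M := M)
  let C : Set R := {g | ∃ (p : Ideal R) (_ : p.IsPrime), g ∉ p ∧
      Module.Free (Localization.Away g) (LocalizedModule (Submonoid.powers g) M) ∧
        Module.finrank (Localization.Away g) (LocalizedModule (Submonoid.powers g) M) = r}
  have hnt : ∀ g ∈ C, Nontrivial (Localization.Away g) := by
    rintro g ⟨p, hp, hg, -⟩
    rw [nontrivial_iff]
    refine ⟨1, 0, fun h1 => ?_⟩
    obtain ⟨⟨_, j, rfl⟩, hj⟩ := (IsLocalization.map_eq_zero_iff (Submonoid.powers g)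
      (Localization.Away g) (1 : R)).mp (by rw [map_one, h1])
    rw [mul_one] at hj
    exact hg (hp.mem_of_pow_mem j (by rw [show g ^ j = 0 from hj]; exact zero_mem p))
  have hC : f ∈ (Ideal.span C).radical := by
    rw [Ideal.radical_eq_sInf, Submodule.mem_sInf]
    rintro (p : Ideal R) ⟨hle, hp⟩
    by_contra hfp
    obtain ⟨g, hg, hfree⟩ := hf p hfp
    exact hg (hle (Ideal.subset_span ⟨p, hp, hg, hfree⟩))
  obtain ⟨E, hE⟩ := hC
  obtain ⟨C', hC', hEC⟩ := Submodule.mem_span_finite_of_mem_span hE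
  have hfin : ∀ g : C', ∃ Z : Set (Fin n → R), Z.Finite ∧ Z ⊆ (rel (R := R) x : Set (Fin n → R)) ∧
      ∀ v ∈ rel (R := R) x, ∃ N : ℕ, (g : R) ^ N • v ∈ Submodule.span R Z := by
    rintro ⟨g, hg⟩
    obtain ⟨p, hp, hgp, hfree, hrank⟩ := hC' hg
    have : Module.Finite (Localization.Away g) (LocalizedModule (Submonoid.powers g) M) :=
      Module.Finite.of_isLocalizedModule (Submonoid.powers g)
        (LocalizedModule.mkLinearMap (Submonoid.powers g) M)
    have := Module.finitePresentation_of_projective (Localization.Away g)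
      (LocalizedModule (Submonoid.powers g) M)
    exact exists_finite_rel_away g x hx
  choose Zg hZfin hZsub hZ using hfin
  let Z : Set (Fin n → R) := ⋃ g, Zg g
  have hZs : Z ⊆ (rel (R := R) x : Set (Fin n → R)) := Set.iUnion_subset hZsub
  have hZpow : ∀ v ∈ rel (R := R) x, ∃ N : ℕ, f ^ N • v ∈ Submodule.span R Z := by
    intro v hv
    let Jv : Ideal R := (Submodule.span R Z).comap (LinearMap.toSpanSingleton R _ v)
    have h1 : Ideal.span (C' : Set R) ≤ Jv.radical := Ideal.span_le.mpr fun g hg => by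
      obtain ⟨N, hN⟩ := hZ ⟨g, hg⟩ v hv
      exact ⟨N, (Submodule.span_mono (Set.subset_iUnion Zg ⟨g, hg⟩) hN :
        g ^ N • v ∈ Submodule.span R Z)⟩
    obtain ⟨N, hN⟩ := h1 hEC
    exact ⟨E * N, by rw [pow_mul]; exact hN⟩
  let J : Ideal R := Mn Z (n - r)
  have hJM : J ≤ Fitt.ideal R M r := (Mn_mono hZs _).trans (ideal_eq x hx r).ge
  have hfJ : f ∈ J.radical := by
    rw [Ideal.radical_eq_sInf, Submodule.mem_sInf]
    rintro (p : Ideal R) ⟨hle, hp⟩
    by_contra hfp
    obtain ⟨g, hg, hfree, hrank⟩ := hf p hfp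
    have := hnt g ⟨p, hp, hg, hfree, hrank⟩
    have : Module.Finite (Localization.Away g) (LocalizedModule (Submonoid.powers g) M) :=
      Module.Finite.of_isLocalizedModule (Submonoid.powers g)
        (LocalizedModule.mkLinearMap (Submonoid.powers g) M)
    obtain ⟨_, ⟨i, rfl⟩, hi⟩ := exists_mem_of_map_ideal_eq_top (Submonoid.powers g) _
      ((ideal_localization (M := M) (Submonoid.powers g) r).symm.trans
        (ideal_eq_top _ (Module.finBasis _ _).span_eq hrank.le))
    obtain ⟨N, hN⟩ := exists_pow_mul_mem_Mn f (fun v hv => hZpow v hv) ((ideal_eq x hx r).le hi)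
    exact (hp.mem_or_mem (hle hN)).elim (fun h => hfp (hp.mem_of_pow_mem N h))
      (fun h => hg (hp.mem_of_pow_mem i h))
  refine ⟨Ideal.span {f} * J, (Submodule.fg_span_singleton f).mul
      (Mn_fg (Set.finite_iUnion hZfin) _), le_antisymm ?_ ?_, ?_⟩
  · exact Ideal.radical_mono Ideal.mul_le_left
  · rw [Ideal.radical_le_radical_iff, Ideal.span_singleton_le_iff_mem]
    obtain ⟨N, hN⟩ := hfJ
    exact ⟨N + 1, by rw [pow_succ']; exact Ideal.mul_mem_mul (Ideal.mem_span_singleton_self f) hN⟩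
  intro a ha R₁ _ _ e p' _
  obtain ⟨j, hj, rfl⟩ := Ideal.mem_span_singleton_mul.mp ha
  set b := algebraMap R R₁ (f * j) with hbdef
  have hb := blowUp_nzd e
  have hφ : algebraMap R R₁ f ∈ nonZeroDivisors R₁ ∧ algebraMap R R₁ j ∈ nonZeroDivisors R₁ := by
    rw [← mul_mem_nonZeroDivisors, ← map_mul]; exact hb
  have hJ : J.map (algebraMap R R₁) = Ideal.span {algebraMap R R₁ j} := by
    refine le_antisymm (Ideal.map_le_iff_le_comap.mpr fun y hy => ?_)
      ((Ideal.span_singleton_le_iff_mem _).mpr (Ideal.mem_map_of_mem _ hj))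
    have h1 := blowUp_map_le e (Ideal.mem_map_of_mem (algebraMap R R₁)
      (Ideal.mul_mem_mul (Ideal.mem_span_singleton_self f) hy))
    rw [map_mul, map_mul, Ideal.mem_span_singleton] at h1
    obtain ⟨t, ht⟩ := h1
    rw [Ideal.mem_comap, Ideal.mem_span_singleton]
    exact ⟨t, (mul_cancel_left_mem_nonZeroDivisors hφ.1).mp (by rw [ht, mul_assoc])⟩
  -- the finitely presented cover of `M`
  let xN : Fin n → (Fin n → R) ⧸ Submodule.span R Z := fun i =>
    Submodule.Quotient.mk (Pi.single i 1)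
  have hsum : ∀ v : Fin n → R, ∑ i, v i • xN i = Submodule.Quotient.mk v := by
    intro v
    conv_rhs => rw [pi_eq_sum_univ' v]
    rw [← Submodule.mkQ_apply, map_sum]
    simp [xN]
  have hxN : Submodule.span R (Set.range xN) = ⊤ := by
    rw [eq_top_iff]
    intro y _
    obtain ⟨v, rfl⟩ := (Submodule.span R Z).mkQ_surjective y
    exact (Submodule.mem_span_range_iff_exists_fun R).mpr ⟨v, hsum v⟩
  have hrN : rel (R := R) xN = Submodule.span R Z := by
    ext v
    rw [mem_rel, hsum, Submodule.Quotient.mk_eq_zero]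
  let N₁ := R₁ ⊗[R] ((Fin n → R) ⧸ Submodule.span R Z)
  have hP : Principal N₁ r (algebraMap R R₁ j) := by
    refine ⟨hφ.2, ?_, fun i hi => ?_⟩
    · rw [ideal_baseChange, ideal_eq_of_rel xN hxN Z hrN r]; exact hJ
    · rw [ideal_baseChange, ideal_eq_of_rel xN hxN Z hrN i]
      refine map_eq_bot_of_torsion hb rfl _ fun d hd => ?_
      let A : Ideal R := LinearMap.ker (LinearMap.toSpanSingleton R R d)
      suffices f ∈ A.radical by
        obtain ⟨N, hN⟩ := this
        have hN' : f ^ N * d = 0 := by simpa [A] using hN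
        exact ⟨N, by rw [mul_pow, mul_right_comm, hN', zero_mul]⟩
      rw [Ideal.radical_eq_sInf, Submodule.mem_sInf]
      rintro (p : Ideal R) ⟨hle, hp⟩
      by_contra hfp
      obtain ⟨g, hg, hfree, hrank⟩ := hf p hfp
      have := hnt g ⟨p, hp, hg, hfree, hrank⟩
      obtain ⟨_, ⟨l, rfl⟩, hl⟩ := exists_mul_eq_zero_of_free (M := M) (Submonoid.powers g) (k := i)
        (by rw [hrank]; omega) ((ideal_eq x hx i).ge (Mn_mono hZs _ hd))
      have hl' : g ^ l * d = 0 := hl
      exact hg (hp.mem_of_pow_mem l (hle (show g ^ l ∈ A by simpa [A] using hl')))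
  let β := algebraMap R R₁ j
  let T := FlatCA.powTorsion R₁ b (R₁ ⊗[R] M)
  let π0 : ((Fin n → R) ⧸ Submodule.span R Z) →ₗ[R] M :=
    (Submodule.span R Z).liftQ (Fintype.linearCombination R x) (Submodule.span_le.mpr hZs)
  have hπ0 : Function.Surjective π0 := fun y => by
    obtain ⟨v, hv⟩ := (Submodule.mem_span_range_iff_exists_fun R).mp (hx ▸ Submodule.mem_top : y ∈ _)
    exact ⟨Submodule.Quotient.mk v, hv⟩
  let q : N₁ →ₗ[R₁] R₁ ⊗[R] M := π0.baseChange R₁
  have hq : Function.Surjective q := LinearMap.lTensor_surjective R₁ hπ0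
  have hex := lTensor_exact R₁ (LinearMap.exact_subtype_ker_map π0) hπ0
  -- the kernel of `q` is `b`-torsion
  have hkq : ∀ y, q y = 0 → ∃ N : ℕ, b ^ N • y = 0 := by
    intro y hy
    obtain ⟨s, rfl⟩ := (hex y).mp hy
    clear hy
    induction s using TensorProduct.induction_on with
    | zero => exact ⟨0, by simp⟩
    | add s t hs ht =>
      obtain ⟨N, hN⟩ := hs
      obtain ⟨N', hN'⟩ := ht
      refine ⟨N + N', ?_⟩
      rw [map_add, smul_add, pow_add, mul_smul, mul_smul, hN', smul_zero, add_zero, smul_comm, hN,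
        smul_zero]
    | tmul t v =>
      obtain ⟨w, hw⟩ := (Submodule.span R Z).mkQ_surjective v.1
      have hw0 : w ∈ rel (R := R) x := by
        have := v.2
        rw [← hw] at this
        exact this
      obtain ⟨N, hN⟩ := hZpow w hw0
      refine ⟨N, ?_⟩
      have : f ^ N • (v : (Fin n → R) ⧸ Submodule.span R Z) = 0 := by
        rw [← hw, Submodule.mkQ_apply, ← Submodule.Quotient.mk_smul, Submodule.Quotient.mk_eq_zero]
        exact hN
      rw [LinearMap.lTensor_tmul, Submodule.subtype_apply, hbdef, ← map_pow, algebraMap_smul, mul_pow,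
        mul_comm, mul_smul, ← tmul_smul, this, tmul_zero, smul_zero]
  have : Module.Projective R₁ (N₁ ⧸ LinearMap.ker (β • (LinearMap.id : N₁ →ₗ[R₁] N₁))) :=
    hP.projective_quot
  have hreg : ∀ (y : N₁) (N : ℕ), b ^ N • y = 0 →
      y ∈ LinearMap.ker (β • (LinearMap.id : N₁ →ₗ[R₁] N₁)) := by
    intro y N hy
    rw [← Submodule.Quotient.mk_eq_zero]
    have hr : IsSMulRegular (N₁ ⧸ LinearMap.ker (β • (LinearMap.id : N₁ →ₗ[R₁] N₁))) (b ^ N) :=
      Module.Flat.isSMulRegular_of_nonZeroDivisors (pow_mem hb N)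
    exact hr ((by rw [← Submodule.Quotient.mk_smul, hy, Submodule.Quotient.mk_zero] :
      b ^ N • Submodule.Quotient.mk y = (0 : N₁ ⧸ LinearMap.ker (β • (LinearMap.id : N₁ →ₗ[R₁] N₁)))).trans (smul_zero _).symm)
  have hker : ∀ y : N₁, (T.mkQ ∘ₗ q) y = 0 ↔
      y ∈ LinearMap.ker (β • (LinearMap.id : N₁ →ₗ[R₁] N₁)) := by
    intro y
    rw [LinearMap.comp_apply, Submodule.mkQ_apply, Submodule.Quotient.mk_eq_zero]
    constructor
    · intro hy
      obtain ⟨N, hN⟩ := (Submodule.mem_iSup_of_directed _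
        (Monotone.directed_le fun m m' hmm z hz => by
          rw [Submodule.mem_torsionBy_iff] at hz ⊢
          rw [← Nat.sub_add_cancel hmm, pow_add, mul_smul, hz, smul_zero])).mp hy
      obtain ⟨N', hN'⟩ := hkq (b ^ N • y) (by rw [map_smul]; exact hN)
      exact hreg y (N' + N) (by rw [pow_add, mul_smul, hN'])
    · intro hy
      refine ker_le_powTorsion b ?_
      change b • q y = 0
      rw [← map_smul, hbdef, map_mul, mul_smul, show β • y = 0 from hy, smul_zero, map_zero]
  obtain ⟨c, hc, g, hg1, hg2⟩ := hP.approx p'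
  refine ⟨c, hc, free_away p' c hc ((T.mkQ ∘ₗ q) ∘ g) (fun y => ?_) fun a' ha' => hg2 a' ((hker _).mp ?_)⟩
  · obtain ⟨y, rfl⟩ := T.mkQ_surjective y
    obtain ⟨y, rfl⟩ := hq y
    have h1 := Submodule.mem_map_of_mem (f := T.mkQ ∘ₗ q) (hg1 y)
    rw [Submodule.map_sup, show Submodule.map (T.mkQ ∘ₗ q) (LinearMap.ker (β • (LinearMap.id : N₁ →ₗ[R₁] N₁))) = ⊥ from
      eq_bot_iff.mpr (Submodule.map_le_iff_le_comap.mpr fun z hz => (Submodule.mem_bot R₁).mpr ((hker z).mpr hz)), sup_bot_eq,
      Submodule.map_span, ← Set.range_comp, map_smul] at h1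
    exact h1
  · rw [map_sum]
    simpa using ha'

end Groth.Agent.H25.Fitting
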