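import Groth.Prelude.Def_Brnch
import Mathlib.RingTheory.Localization.FractionRing
import Mathlib.RingTheory.IntegralClosure.IsIntegralClosure.Basic

/-! The normalisation of a reduced ring is that of its reduction. -/

set_option autoImplicit false
set_option linter.style.haveILetI false
universe u

namespace Groth.Agent.H25.NormRed

/-- The normalisation of a reduced ring and of its reduction agree. -/
theorem exists_normRed_equiv (A A₀ : Type u) [CommRing A] [CommRing A₀] [_root_.IsReduced A₀]
    (e : A ≃+* A₀) :
    ∃ ε : integralClosure A (FractionRing A) ≃+* CAlg2.normRed A₀, ∀ a : A,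
      ε (algebraMap A _ a) =
        algebraMap (CAlg2.red A₀) (CAlg2.normRed A₀) (Ideal.Quotient.mk (nilradical A₀) (e a)) := by
  let π : A ≃+* CAlg2.red A₀ := e.trans <| RingEquiv.ofBijective (Ideal.Quotient.mk (nilradical A₀))
    ⟨(RingHom.injective_iff_ker_eq_bot _).2 (by rw [Ideal.mk_ker, nilradical_eq_bot_iff.2 ‹_›]),
      Ideal.Quotient.mk_surjective⟩
  let φ : FractionRing A ≃+* FractionRing (CAlg2.red A₀) := IsFractionRing.ringEquivOfRingEquiv π
  have hφ : (algebraMap (CAlg2.red A₀) _).comp π.toRingHom =
      φ.toRingHom.comp (algebraMap A (FractionRing A)) :=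
    RingHom.ext fun a => (IsFractionRing.ringEquivOfRingEquiv_algebraMap π a).symm
  have hφ' : (algebraMap A _).comp π.symm.toRingHom =
      φ.symm.toRingHom.comp (algebraMap (CAlg2.red A₀) (FractionRing (CAlg2.red A₀))) :=
    RingHom.ext fun b => φ.injective <| by
      show φ (algebraMap A _ (π.symm b)) = φ (φ.symm _)
      rw [RingEquiv.apply_symm_apply, IsFractionRing.ringEquivOfRingEquiv_algebraMap,
        RingEquiv.apply_symm_apply]
  refine ⟨
    { toFun := fun z => ⟨φ z.1, IsIntegral.map_of_comp_eq π.toRingHom φ.toRingHom hφ z.2⟩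
      invFun := fun z => ⟨φ.symm z.1,
        IsIntegral.map_of_comp_eq π.symm.toRingHom φ.symm.toRingHom hφ' z.2⟩
      left_inv := fun z => Subtype.ext (φ.symm_apply_apply _)
      right_inv := fun z => Subtype.ext (φ.apply_symm_apply _)
      map_mul' := fun a b => Subtype.ext (map_mul φ a.1 b.1)
      map_add' := fun a b => Subtype.ext (map_add φ a.1 b.1) }, fun a => Subtype.ext ?_⟩
  exact (DFunLike.congr_fun hφ a).symm

end Groth.Agent.H25.NormRed
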