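import Mathlib.RingTheory.Filtration
import Mathlib.LinearAlgebra.Isomorphisms
import Mathlib.Algebra.Exact.Basic
import Mathlib.Tactic.Abel

/-!
# Artin-Rees bounds and congruent complexes
-/

universe u v

namespace Groth.Agent.H25.CongAR

variable {A : Type u} [CommRing A] {I : Ideal A} {L M N : Type*} [AddCommGroup L] [Module A L]
  [AddCommGroup M] [Module A M] [AddCommGroup N] [Module A N]

theorem sub_mem {f f' : L →ₗ[A] M} {c : ℕ} (h : ∀ x, f x - f' x ∈ I ^ (c + 1) • (⊤ : Submodule A M))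
    {j : ℕ} {x : L} (hx : x ∈ I ^ j • (⊤ : Submodule A L)) :
    f x - f' x ∈ I ^ (j + (c + 1)) • (⊤ : Submodule A M) := by
  refine Submodule.smul_induction_on hx (fun a ha y _ => ?_) fun a b ha hb => ?_
  · rw [map_smul, map_smul, ← smul_sub, pow_add, Submodule.mul_smul]
    exact Submodule.smul_mem_smul ha (h y)
  · rw [map_add, map_add, add_sub_add_comm]; exact add_mem ha hb

theorem mem_top (x : L) : x ∈ I ^ 0 • (⊤ : Submodule A L) := by
  rw [pow_zero, Submodule.one_smul]; trivial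

theorem pow_mono {m n : ℕ} (h : m ≤ n) :
    I ^ n • (⊤ : Submodule A L) ≤ I ^ m • (⊤ : Submodule A L) :=
  Submodule.smul_mono_left (Ideal.pow_le_pow_right h)

variable {f f' : L →ₗ[A] M} {g g' : M →ₗ[A] N} {c : ℕ}
  (hgf' : g'.comp f' = 0)
  (hf : ∀ n : ℕ, c ≤ n → LinearMap.range f ⊓ (I ^ n • (⊤ : Submodule A M)) ≤
    Submodule.map f (I ^ (n - c) • (⊤ : Submodule A L)))
  (hg : ∀ n : ℕ, c ≤ n → LinearMap.range g ⊓ (I ^ n • (⊤ : Submodule A N)) ≤
    Submodule.map g (I ^ (n - c) • (⊤ : Submodule A M)))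
  (hex : Function.Exact f g)
  (hff' : ∀ x : L, f x - f' x ∈ I ^ (c + 1) • (⊤ : Submodule A M))
  (hgg' : ∀ y : M, g y - g' y ∈ I ^ (c + 1) • (⊤ : Submodule A N))

include hgf' hf hg hex hff' hgg' in
/-- The improvement step. -/
theorem step {k : ℕ} {x : M} (hx : x ∈ I ^ k • (⊤ : Submodule A M))
    (h : g' x ∈ I ^ (k + c + 1) • (⊤ : Submodule A N)) :
    ∃ z : L, x - f' z ∈ I ^ (k + 1) • (⊤ : Submodule A M) ∧ g' (x - f' z) = g' x := by
  have hgx : g x ∈ I ^ (k + c + 1) • (⊤ : Submodule A N) := by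
    have : g x = g' x + (g x - g' x) := (add_sub_cancel _ _).symm
    rw [this]
    exact add_mem h (sub_mem hgg' hx)
  obtain ⟨x', hx', hxx'⟩ := hg (k + c + 1) (by omega) ⟨⟨x, rfl⟩, hgx⟩
  rw [show k + c + 1 - c = k + 1 by omega] at hx'
  obtain ⟨z₀, hz₀⟩ := (hex (x - x')).mp (by rw [map_sub, hxx', sub_self])
  obtain ⟨z, hz, j, hzj, hj⟩ : ∃ z, f z = x - x' ∧ ∃ j, z ∈ I ^ j • (⊤ : Submodule A L) ∧ k ≤ j + c := by
    rcases le_or_gt c k with hck | hck
    · obtain ⟨z, hz, hze⟩ := hf k hck ⟨⟨z₀, hz₀⟩, Submodule.sub_mem _ hx (pow_mono (Nat.le_succ k) hx')⟩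
      exact ⟨z, hze, k - c, hz, by omega⟩
    · exact ⟨z₀, hz₀, 0, mem_top z₀, by omega⟩
  refine ⟨z, ?_, ?_⟩
  · have : x - f' z = x' + (f z - f' z) := by rw [hz]; abel
    rw [this]
    exact add_mem hx' (pow_mono (by omega) (sub_mem hff' hzj))
  · rw [map_sub, ← LinearMap.comp_apply g' f', hgf', LinearMap.zero_apply, sub_zero]

include hgf' hf hg hex hff' hgg' in
theorem bound (n : ℕ) (hn : c ≤ n) :
    LinearMap.range g' ⊓ (I ^ n • (⊤ : Submodule A N)) ≤
      Submodule.map g' (I ^ (n - c) • (⊤ : Submodule A M)) := by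
  rintro y ⟨⟨x, rfl⟩, hy⟩
  suffices ∀ k ≤ n - c, ∃ x' ∈ I ^ k • (⊤ : Submodule A M), g' x' = g' x by
    obtain ⟨x', hx', he⟩ := this _ le_rfl
    exact ⟨x', hx', he⟩
  intro k
  induction k with
  | zero => exact fun _ => ⟨x, mem_top x, rfl⟩
  | succ k ih =>
    intro hk
    obtain ⟨x', hx', he⟩ := ih (by omega)
    obtain ⟨z, hz, hze⟩ := step hgf' hf hg hex hff' hgg' hx'
      (by rw [he]; exact pow_mono (by omega) hy)
    exact ⟨_, hz, hze.trans he⟩

include hgf' hf hg hex hff' hgg' in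
theorem exact' [IsNoetherianRing A] [Module.Finite A M] (hI : I ≤ Ideal.jacobson (⊥ : Ideal A)) :
    Function.Exact f' g' := by
  intro x
  refine ⟨fun hx => ?_, fun ⟨z, hz⟩ => by rw [← hz, ← LinearMap.comp_apply, hgf', LinearMap.zero_apply]⟩
  suffices ∀ k, ∃ z : L, x - f' z ∈ I ^ k • (⊤ : Submodule A M) by
    have h0 : (LinearMap.range f').mkQ x = 0 := by
      rw [← Submodule.mem_bot A, ← Ideal.iInf_pow_smul_eq_bot_of_le_jacobson (M := M ⧸ LinearMap.range f') I hI,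
        Submodule.mem_iInf]
      intro k
      obtain ⟨z, hz⟩ := this k
      have h1 := Submodule.mem_map_of_mem (f := (LinearMap.range f').mkQ) hz
      rw [Submodule.map_smul''] at h1
      have h2 : (LinearMap.range f').mkQ (x - f' z) = (LinearMap.range f').mkQ x := by
        rw [map_sub, sub_eq_self, Submodule.mkQ_apply, Submodule.Quotient.mk_eq_zero]
        exact ⟨z, rfl⟩
      exact Submodule.smul_mono le_rfl le_top (h2 ▸ h1)
    exact (Submodule.Quotient.mk_eq_zero _).mp h0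
  intro k
  induction k with
  | zero => exact ⟨0, mem_top _⟩
  | succ k ih =>
    obtain ⟨z, hz⟩ := ih
    obtain ⟨w, hw, -⟩ := step hgf' hf hg hex hff' hgg' hz (by
      rw [map_sub, hx, ← LinearMap.comp_apply, hgf', LinearMap.zero_apply, sub_zero]
      exact zero_mem _)
    exact ⟨z + w, by rwa [map_add, ← sub_sub]⟩

end Groth.Agent.H25.CongAR
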