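import Groth.Agent.H97.TotalNorm
import Groth.Agent.Lib.Regular.Descent
import Groth.Agent.Lib.Regular.UFD
import Groth.Agent.Lib.Cohen.SeparableTensor
import Groth.Agent.Lib.Dim.Integral
import Groth.Prelude.Def_Curv2
import Mathlib.RingTheory.LocalRing.Length
import Mathlib.RingTheory.RingHom.Flat

/-!
The δ-invariant is insensitive to flat local extensions which are unramified at the closed point.
-/

set_option autoImplicit false
set_option linter.style.haveILetI false
universe u

namespace Groth.Agent.H25.DeltaFlat

open scoped TensorProduct nonZeroDivisors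
open IsLocalRing

theorem isReduced_tensor_of_surjective (A k E L : Type u) [CommRing A] [Field k] [Field E] [Field L]
    [Algebra A k] [Algebra A E] [Algebra A L] [Algebra k E] [Algebra k L]
    [IsScalarTower A k E] [IsScalarTower A k L] (hk : Function.Surjective (algebraMap A k))
    [Algebra.IsSeparable k E] : IsReduced (E ⊗[A] L) := by
  haveI : TensorProduct.CompatibleSMul A k E L := ⟨fun c m n => by
    obtain ⟨a, rfl⟩ := hk c
    rw [algebraMap_smul, algebraMap_smul, TensorProduct.smul_tmul]⟩
  haveI : IsReduced (L ⊗[k] E) := Lib.Cohen.SeparableTensor.isReduced_tensor k L E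
  haveI : IsReduced (E ⊗[k] L) :=
    isReduced_of_injective (Algebra.TensorProduct.comm k E L) (AlgEquiv.injective _)
  let e : E ⊗[k] L ≃ₐ[A] E ⊗[A] L := Algebra.TensorProduct.equivOfCompatibleSMul A k A E L
  exact isReduced_of_injective e.symm e.symm.injective

theorem regular_of_intClosed_dimLEOne (R : Type u) [CommRing R] [IsLocalRing R] [IsDomain R]
    [IsNoetherianRing R] [IsIntegrallyClosed R] [Ring.DimensionLEOne R] : IsRegularLocalRing R := by
  by_cases hf : IsField R
  · letI := hf.toField
    exact inferInstance
  · haveI : IsDedekindDomain R := (isDedekindDomain_iff R (FractionRing R)).2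
      ⟨inferInstance, inferInstance, inferInstance,
        fun {x} hx => IsIntegrallyClosed.isIntegral_iff.1 hx⟩
    haveI : IsPrincipalIdealRing R :=
      ((IsDiscreteValuationRing.TFAE R hf).out 0 2 rfl rfl).2 inferInstance |>.1
    exact inferInstance

section Fibre

variable (A B A' : Type u) [CommRing A] [CommRing B] [CommRing A'] [IsLocalRing A] [IsLocalRing B]
  [Algebra A B] [IsLocalHom (algebraMap A B)] [Algebra A A'] [Module.Finite A A']

omit [IsLocalHom (algebraMap A B)] in
/-- `x ∈ n` lies in `P C_n` where `P = n ∩ A'`. -/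
theorem exists_notMem_mul_mem
    (hred : ∀ P : Ideal A', P.IsMaximal → IsReduced (ResidueField B ⊗[A] (A' ⧸ P)))
    (hm : (maximalIdeal A).map (algebraMap A B) = maximalIdeal B)
    (n : Ideal (B ⊗[A] A')) [n.IsMaximal]
    (hP : (n.comap (Algebra.TensorProduct.includeRight (R := A) (A := B))).comap (algebraMap A A')
      = maximalIdeal A)
    {x : B ⊗[A] A'} (hx : x ∈ n) :
    ∃ u : B ⊗[A] A', u ∉ n ∧ u * x ∈
      (n.comap (Algebra.TensorProduct.includeRight (R := A) (A := B))).map
        (Algebra.TensorProduct.includeRight (R := A) (A := B)) := by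
  set P : Ideal A' := n.comap (Algebra.TensorProduct.includeRight (R := A) (A := B)) with hPdef
  haveI : P.IsPrime := Ideal.IsPrime.comap _
  haveI : P.IsMaximal := Ideal.isMaximal_of_isIntegral_of_isMaximal_comap P
    (by rw [hP]; exact maximalIdeal.isMaximal A)
  haveI : Module.Finite A (A' ⧸ P) :=
    Module.Finite.of_surjective (Ideal.Quotient.mkₐ A P).toLinearMap Ideal.Quotient.mk_surjective
  haveI : IsReduced (ResidueField B ⊗[A] (A' ⧸ P)) := hred P inferInstance
  haveI : IsArtinianRing (ResidueField B ⊗[A] (A' ⧸ P)) :=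
    IsArtinianRing.of_finite (ResidueField B) _
  let fB : B →ₐ[A] ResidueField B := IsScalarTower.toAlgHom A B (ResidueField B)
  have hfB : Function.Surjective fB := IsLocalRing.residue_surjective
  let φ := Algebra.TensorProduct.map fB (Ideal.Quotient.mkₐ A P)
  have hφ : Function.Surjective φ :=
    TensorProduct.map_surjective hfB Ideal.Quotient.mk_surjective
  have hker : RingHom.ker φ ≤
      P.map (Algebra.TensorProduct.includeRight (R := A) (A := B)) := by
    rw [Algebra.TensorProduct.map_ker _ _ hfB Ideal.Quotient.mk_surjective]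
    refine sup_le ?_ (Ideal.map_mono (fun z hz => Ideal.Quotient.eq_zero_iff_mem.1 hz))
    have h1 : RingHom.ker fB = (maximalIdeal A).map (algebraMap A B) := by
      rw [hm]; exact IsLocalRing.ker_residue
    rw [h1]
    refine Ideal.map_le_iff_le_comap.2 (Ideal.map_le_iff_le_comap.2 fun a ha => ?_)
    rw [Ideal.mem_comap, Ideal.mem_comap, AlgHom.commutes,
      ← AlgHom.commutes (Algebra.TensorProduct.includeRight (R := A) (A := B) (B := A'))]
    exact Ideal.mem_map_of_mem _ (hP.symm ▸ ha : a ∈ P.comap (algebraMap A A'))
  obtain ⟨k, y, hy⟩ := IsArtinian.exists_pow_succ_smul_dvd (φ x)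
    (1 : ResidueField B ⊗[A] (A' ⧸ P))
  obtain ⟨r, rfl⟩ := hφ y
  simp only [Nat.succ_eq_add_one, smul_eq_mul, mul_one] at hy
  refine ⟨1 - r * x, fun h => n.one_notMem (by simpa using n.add_mem h (n.mul_mem_left r hx)),
    hker ?_⟩
  refine RingHom.mem_ker.2 (IsReduced.eq_zero _ ⟨k + 1, ?_⟩)
  have h2 : φ x ^ k * φ (1 - r * x) = 0 := by
    rw [map_sub, map_one, map_mul]
    linear_combination -hy
  rw [map_mul, mul_pow, pow_succ, pow_succ]
  linear_combination (φ (1 - r * x) ^ k * φ x) * h2

/-- The localisations of `B ⊗ A'` at its closed points are regular if those of `A'` are. -/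
theorem isRegularLocalRing_atMaximal [IsNoetherianRing A'] [IsNoetherianRing B] [Module.Flat A B]
    (hred : ∀ P : Ideal A', P.IsMaximal → IsReduced (ResidueField B ⊗[A] (A' ⧸ P)))
    (hm : (maximalIdeal A).map (algebraMap A B) = maximalIdeal B)
    (hreg : ∀ (P : Ideal A') [P.IsPrime], IsRegularLocalRing (Localization.AtPrime P))
    (n : Ideal (B ⊗[A] A')) [n.IsMaximal] : IsRegularLocalRing (Localization.AtPrime n) := by
  haveI : IsNoetherianRing (B ⊗[A] A') := IsNoetherianRing.of_finite B _
  have hnB : n.comap (algebraMap B (B ⊗[A] A')) = maximalIdeal B :=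
    IsLocalRing.eq_maximalIdeal (Ideal.isMaximal_comap_of_isIntegral_of_isMaximal n)
  let i : A' →+* B ⊗[A] A' :=
    (Algebra.TensorProduct.includeRight : A' →ₐ[A] B ⊗[A] A').toRingHom
  have hic : ∀ a : A, i (algebraMap A A' a) = algebraMap A (B ⊗[A] A') a := fun a =>
    (Algebra.TensorProduct.includeRight : A' →ₐ[A] B ⊗[A] A').commutes a
  have hP : (n.comap i).comap (algebraMap A A') = maximalIdeal A := by
    rw [← ((IsLocalRing.local_hom_TFAE (algebraMap A B)).out 0 4 rfl rfl).mp ‹_›, ← hnB]
    ext a
    simp only [Ideal.mem_comap, hic, ← IsScalarTower.algebraMap_apply]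
  have hkey := fun {x : B ⊗[A] A'} => exists_notMem_mul_mem A B A' hred hm n hP (x := x)
  haveI : (n.comap i).IsPrime := Ideal.IsPrime.comap _
  have hflat : i.Flat := by
    letI := i.toAlgebra
    haveI : IsScalarTower A A' (B ⊗[A] A') :=
      IsScalarTower.of_algebraMap_eq fun a => (hic a).symm
    show Module.Flat A' (B ⊗[A] A')
    let e : A' ⊗[A] B ≃ₐ[A'] B ⊗[A] A' :=
      AlgEquiv.ofRingEquiv (f := (Algebra.TensorProduct.comm A A' B).toRingEquiv) fun a => rfl
    exact Module.Flat.of_linearEquiv e.symm.toLinearEquiv
  have hl := RingHom.Flat.localRingHom hflat n (n.comap i) rfl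
  letI := (Localization.localRingHom (n.comap i) n i rfl).toAlgebra
  haveI : Module.Flat (Localization.AtPrime (n.comap i)) (Localization.AtPrime n) := hl
  haveI : IsLocalHom (algebraMap (Localization.AtPrime (n.comap i)) (Localization.AtPrime n)) :=
    Localization.isLocalHom_localRingHom _ n _ rfl
  haveI : IsNoetherianRing (Localization.AtPrime n) :=
    IsLocalization.isNoetherianRing n.primeCompl _ inferInstance
  refine (Lib.Regular.Descent.isRegularLocalRing_iff (Localization.AtPrime n) ?_).1
    (hreg (n.comap i))
  have hcomp : ∀ z : A', algebraMap (Localization.AtPrime (n.comap i)) (Localization.AtPrime n)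
      (algebraMap A' _ z) = algebraMap (B ⊗[A] A') (Localization.AtPrime n) (i z) := fun z =>
    Localization.localRingHom_to_map _ n i rfl z
  rw [← Localization.AtPrime.map_eq_maximalIdeal (I := n.comap i),
    ← Localization.AtPrime.map_eq_maximalIdeal (I := n), Ideal.map_map]
  refine le_antisymm (Ideal.map_le_iff_le_comap.2 fun z hz => ?_)
    (Ideal.map_le_iff_le_comap.2 fun x hx => ?_)
  · rw [Ideal.mem_comap, RingHom.comp_apply, hcomp]
    exact Ideal.mem_map_of_mem _ hz
  · obtain ⟨u, hu, hux⟩ := hkey hx
    have hu' : IsUnit (algebraMap (B ⊗[A] A') (Localization.AtPrime n) u) :=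
      IsLocalization.map_units _ (⟨u, hu⟩ : n.primeCompl)
    rw [Ideal.mem_comap, ← Ideal.unit_mul_mem_iff_mem _ hu', ← map_mul]
    have hle : (n.comap i).map i ≤ Ideal.comap (algebraMap (B ⊗[A] A') (Localization.AtPrime n))
        ((n.comap i).map ((algebraMap (Localization.AtPrime (n.comap i))
          (Localization.AtPrime n)).comp (algebraMap A' _))) :=
      Ideal.map_le_iff_le_comap.2 fun z hz => by
        rw [Ideal.mem_comap, Ideal.mem_comap, ← hcomp]
        exact Ideal.mem_map_of_mem ((algebraMap (Localization.AtPrime (n.comap i))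
          (Localization.AtPrime n)).comp (algebraMap A' _)) hz
    exact hle hux

omit [Module.Finite A A'] in
/-- Separable residue field extensions give reduced fibres. -/
theorem isReduced_of_isSeparable [Algebra.IsSeparable (ResidueField A) (ResidueField B)]
    (P : Ideal A') [P.IsMaximal] (hP : P.comap (algebraMap A A') = maximalIdeal A) :
    IsReduced (ResidueField B ⊗[A] (A' ⧸ P)) := by
  letI := Ideal.Quotient.field P
  letI : Algebra (ResidueField A) (A' ⧸ P) :=
    (Ideal.Quotient.lift (maximalIdeal A) (algebraMap A (A' ⧸ P)) (fun a ha => by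
      rw [IsScalarTower.algebraMap_apply A A' (A' ⧸ P), Ideal.Quotient.algebraMap_eq,
        Ideal.Quotient.eq_zero_iff_mem]
      exact (hP.symm ▸ ha : a ∈ P.comap (algebraMap A A')))).toAlgebra
  haveI : IsScalarTower A (ResidueField A) (A' ⧸ P) := IsScalarTower.of_algebraMap_eq' rfl
  exact isReduced_tensor_of_surjective A (ResidueField A) (ResidueField B) (A' ⧸ P)
    IsLocalRing.residue_surjective

end Fibre

section Main

/-- If the sub-`B`-algebra `range j` of the total ring of fractions of `B` has integrally closed
domains as local rings at its maximal ideals, it contains every element integral over `B`. -/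
theorem mem_range_of_isIntegral (B C : Type u) [CommRing B] [CommRing C] [Algebra B C]
    (j : C →ₐ[B] FractionRing B) (hj : Function.Injective j)
    (hloc : ∀ n : Ideal C, (_ : n.IsMaximal) →
      IsDomain (Localization.AtPrime n) ∧ IsIntegrallyClosed (Localization.AtPrime n))
    {x : FractionRing B} (hx : IsIntegral B x) : x ∈ j.range := by
  let D : Ideal C :=
    { carrier := {c | j c * x ∈ j.range}
      add_mem' := fun {a b} ha hb => by
        show j (a + b) * x ∈ j.range
        rw [map_add, add_mul]
        exact add_mem ha hb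
      zero_mem' := by
        show j 0 * x ∈ j.range
        rw [map_zero, zero_mul]
        exact zero_mem _
      smul_mem' := fun r c hc => by
        show j (r * c) * x ∈ j.range
        rw [map_mul, mul_assoc]
        exact mul_mem ⟨r, rfl⟩ hc }
  suffices hD : D = ⊤ by
    have h1 : j 1 * x ∈ j.range := (Ideal.eq_top_iff_one D).1 hD
    rwa [map_one, one_mul] at h1
  by_contra hD
  obtain ⟨n, hn, hDn⟩ := Ideal.exists_le_maximal D hD
  obtain ⟨hdom, hic⟩ := hloc n hn
  obtain ⟨⟨b, t⟩, hbt⟩ := IsLocalization.surj B⁰ x
  simp only at hbt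
  have htu : IsUnit (j (algebraMap B C t)) := by
    rw [j.commutes]
    exact IsLocalization.map_units _ t
  have htC : algebraMap B C (t : B) ∈ C⁰ := mem_nonZeroDivisors_iff_right.2 fun c hc => hj (by
    rw [map_zero]
    refine htu.mul_left_eq_zero.1 ?_
    rw [← map_mul, hc, map_zero])
  let T' := Localization.Away (t : B)
  let F := FractionRing (Localization.AtPrime n)
  let ι : T' →+* FractionRing B :=
    IsLocalization.Away.lift (t : B) (g := algebraMap B (FractionRing B)) (IsLocalization.map_units _ t)
  have hι : Function.Injective ι := by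
    refine (IsLocalization.lift_injective_iff _).2 fun y z => ⟨fun h => ?_, fun h => ?_⟩
    · exact congrArg _ ((IsLocalization.injective T' (Submonoid.powers_le.2 t.2)) h)
    · exact congrArg _ (IsFractionRing.injective B (FractionRing B) h)
  let g : B →+* F := (algebraMap C F).comp (algebraMap B C)
  have hgt : IsUnit (g t) := by
    refine isUnit_iff_ne_zero.2 fun h => ?_
    rw [RingHom.comp_apply, IsScalarTower.algebraMap_apply C (Localization.AtPrime n) F,
      map_eq_zero_iff _ (IsFractionRing.injective (Localization.AtPrime n) F),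
      IsLocalization.map_eq_zero_iff n.primeCompl] at h
    obtain ⟨v, hv⟩ := h
    exact v.2 ((mem_nonZeroDivisors_iff_right.1 htC _ hv).symm ▸ n.zero_mem)
  let ψ : T' →+* F := IsLocalization.Away.lift (t : B) hgt
  let y : T' := IsLocalization.mk' T' b ⟨(t : B), Submonoid.mem_powers _⟩
  have hy : y * algebraMap B T' t = algebraMap B T' b :=
    IsLocalization.mk'_spec T' b ⟨(t : B), Submonoid.mem_powers _⟩
  have hιy : ι y = x := by
    refine (IsLocalization.map_units (FractionRing B) t).mul_right_cancel ?_
    rw [hbt, ← IsLocalization.Away.lift_eq (t : B) (S := T') (g := algebraMap B (FractionRing B))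
      (IsLocalization.map_units _ t) (t : B), ← map_mul, hy, IsLocalization.Away.lift_eq]
  have hyint : IsIntegral B y := by
    let ιa : T' →ₐ[B] FractionRing B :=
      { ι with commutes' := fun r => IsLocalization.Away.lift_eq _ _ r }
    exact (isIntegral_algHom_iff ιa hι).1 (by show IsIntegral B (ι y); rw [hιy]; exact hx)
  have hψy : IsIntegral (Localization.AtPrime n) (ψ y) := by
    let φ : B →+* Localization.AtPrime n := (algebraMap C _).comp (algebraMap B C)
    obtain ⟨p, hp, hpy⟩ := hyint
    refine ⟨p.map φ, hp.map φ, ?_⟩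
    have hcomp : (algebraMap (Localization.AtPrime n) F).comp φ = ψ.comp (algebraMap B T') :=
      RingHom.ext fun r => ((IsLocalization.Away.lift_eq (S := T') (t : B) hgt r).trans
        (IsScalarTower.algebraMap_apply C (Localization.AtPrime n) F _)).symm
    rw [Polynomial.eval₂_map, hcomp, ← Polynomial.hom_eval₂, hpy, map_zero]
  obtain ⟨z, hz⟩ := IsIntegrallyClosed.isIntegral_iff.1 hψy
  obtain ⟨⟨c, u⟩, hcu⟩ := IsLocalization.surj n.primeCompl z
  simp only at hcu
  have heq : algebraMap C (Localization.AtPrime n) (algebraMap B C t * c) =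
      algebraMap C (Localization.AtPrime n) (algebraMap B C b * u) := by
    refine IsFractionRing.injective (Localization.AtPrime n) F ?_
    have h1 : ψ y * g t = g b := by
      rw [← IsLocalization.Away.lift_eq (S := T') (t : B) hgt (t : B), ← map_mul, hy,
        IsLocalization.Away.lift_eq]
    simp only [map_mul, g, RingHom.comp_apply,
      IsScalarTower.algebraMap_apply C (Localization.AtPrime n) F] at h1 ⊢
    rw [← hcu, map_mul, hz, ← h1]
    ring
  obtain ⟨v, hv⟩ := (IsLocalization.eq_iff_exists n.primeCompl _).1 heq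
  refine (Ideal.IsPrime.mul_notMem hn.isPrime v.2 u.2) (hDn ⟨(v : C) * c, ?_⟩)
  show j (v * c) = j (v * u) * x
  refine htu.mul_right_cancel ?_
  rw [mul_assoc, j.commutes (t : B), hbt, ← j.commutes (t : B), ← j.commutes b, ← map_mul,
    ← map_mul]
  exact congrArg j (by linear_combination hv)

variable (A B : Type u) [CommRing A] [IsLocalRing A] [IsNoetherianRing A] [IsReduced A]
  [Ring.KrullDimLE 1 A] [CommRing B] [IsLocalRing B] [IsNoetherianRing B] [Algebra A B]
  [IsLocalHom (algebraMap A B)]

local notation "A'" => integralClosure A (FractionRing A)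

omit [IsLocalRing A] in
theorem regular_atPrime_normalisation [Module.Finite A A'] (P : Ideal A') [P.IsPrime] :
    IsRegularLocalRing (Localization.AtPrime P) := by
  haveI : IsNoetherianRing A' := IsNoetherianRing.of_finite A _
  obtain ⟨hd, hc⟩ := H97.TotalNorm.isDomain_intClosed_atPrime P
  haveI : IsNoetherianRing (Localization.AtPrime P) :=
    IsLocalization.isNoetherianRing P.primeCompl _ inferInstance
  haveI : Ring.KrullDimLE 1 A' := (Ring.krullDimLE_iff).2
    ((Lib.Dim.Integral.ringKrullDim_le_of_isIntegral (R := A)).trans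
      ((Ring.krullDimLE_iff).1 inferInstance))
  haveI : Ring.KrullDimLE 1 (Localization.AtPrime P) := (Ring.krullDimLE_iff).2
    ((IsLocalization.AtPrime.ringKrullDim_eq_height P (Localization.AtPrime P)).trans_le
      (Ideal.height_le_ringKrullDim_of_isPrime.trans ((Ring.krullDimLE_iff).1 inferInstance)))
  haveI : Ring.DimensionLEOne (Localization.AtPrime P) :=
    ⟨fun h0 hp => Ideal.IsPrime.isMaximal_of_ne_bot hp h0⟩
  exact regular_of_intClosed_dimLEOne _

omit [IsLocalRing A] [IsReduced A] [Ring.KrullDimLE 1 A] [IsLocalRing B] [IsNoetherianRing B]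
  [IsLocalHom (algebraMap A B)] [IsNoetherianRing A] in
/-- `B ⊗ A'` embeds in the total ring of fractions of `B`, integrally over `B`. -/
theorem exists_embedding [Module.Finite A A'] [Module.Flat A B] :
    ∃ j : B ⊗[A] A' →ₐ[B] FractionRing B, Function.Injective j ∧
      j.range ≤ integralClosure B (FractionRing B) := by
  -- regular elements
  have hregB : ∀ s : A⁰, algebraMap A B s ∈ B⁰ := fun s => by
    refine mem_nonZeroDivisors_iff_right.2 fun b hb => ?_
    have h0 : IsSMulRegular A (s : A) := isSMulRegular_iff_right_eq_zero_of_smul.2 fun a ha =>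
      mem_nonZeroDivisors_iff_left.1 s.2 a ha
    refine (TensorProduct.rid A B).symm.injective (h0.lTensor B ?_)
    show (s : A) • _ = (s : A) • _
    rw [← map_smul, ← map_smul, smul_zero, Algebra.smul_def, mul_comm, hb]
  let q : FractionRing A →ₐ[A] FractionRing B :=
    IsLocalization.liftAlgHom (M := A⁰) (f := Algebra.ofId A (FractionRing B)) fun s => by
      show IsUnit (algebraMap A (FractionRing B) s)
      rw [IsScalarTower.algebraMap_apply A B (FractionRing B)]
      exact IsLocalization.map_units _ ⟨_, hregB s⟩
  let j : B ⊗[A] A' →ₐ[B] FractionRing B :=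
    Algebra.TensorProduct.lift (Algebra.ofId B (FractionRing B)) (q.comp (integralClosure A _).val)
      fun _ _ => Commute.all _ _
  have hBinj : Function.Injective (algebraMap B (B ⊗[A] A')) := by
    refine Algebra.TensorProduct.includeLeft_injective (S := B) fun a b h => ?_
    exact IsFractionRing.injective A (FractionRing A) (congrArg Subtype.val h)
  -- a common denominator
  obtain ⟨G, hG⟩ := (‹Module.Finite A A'›).1
  classical
  obtain ⟨s, hs⟩ := IsLocalization.exist_integer_multiples_of_finset A⁰
    (G.image fun g : A' => (g : FractionRing A))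
  have hsA : ∀ a : A', (s : A) • a ∈ LinearMap.range (Algebra.linearMap A A') := by
    intro a
    have hle : ⊤ ≤ (LinearMap.range (Algebra.linearMap A A')).comap
        (LinearMap.lsmul A _ (s : A)) := by
      rw [← hG, Submodule.span_le]
      intro g hg
      obtain ⟨a, ha⟩ := hs g (Finset.mem_image_of_mem _ hg)
      exact ⟨a, Subtype.ext (by simpa using ha)⟩
    exact hle Submodule.mem_top
  have hsC : ∀ c : B ⊗[A] A', ∃ b : B, (s : A) • c = algebraMap B _ b := by
    intro c
    induction c using TensorProduct.induction_on with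
    | zero => exact ⟨0, by simp⟩
    | tmul b a =>
      obtain ⟨r, hr⟩ := hsA a
      refine ⟨r • b, ?_⟩
      rw [← TensorProduct.tmul_smul, ← hr, Algebra.linearMap_apply, Algebra.algebraMap_eq_smul_one,
        TensorProduct.tmul_smul, TensorProduct.smul_tmul']
      rfl
    | add x y hx hy =>
      obtain ⟨a, ha⟩ := hx
      obtain ⟨b, hb⟩ := hy
      exact ⟨a + b, by rw [smul_add, ha, hb, map_add]⟩
  have hsreg : IsSMulRegular (B ⊗[A] A') (s : A) := by
    have h : IsSMulRegular A' (s : A) := fun x y h => by
      have h' := congrArg Subtype.val h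
      simp only [Algebra.smul_def] at h'
      exact Subtype.ext ((IsLocalization.map_units (FractionRing A) s).mul_left_cancel h')
    exact h.lTensor B
  have hj : Function.Injective j := by
    rw [injective_iff_map_eq_zero]
    intro c hc
    obtain ⟨b, hb⟩ := hsC c
    have h0 : algebraMap B (FractionRing B) b = 0 := by
      rw [← j.commutes b, ← hb, AlgHom.map_smul_of_tower, hc, smul_zero]
    have hb0 : b = 0 := IsFractionRing.injective B (FractionRing B) (h0.trans (map_zero _).symm)
    rw [hb0, map_zero] at hb
    exact hsreg (hb.trans (smul_zero _).symm)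
  refine ⟨j, hj, ?_⟩
  rintro _ ⟨c, rfl⟩
  exact (Algebra.IsIntegral.isIntegral c).map j

omit [IsLocalRing A] [IsReduced A] [Ring.KrullDimLE 1 A] [IsLocalRing B] [IsNoetherianRing B]
  [IsLocalHom (algebraMap A B)] [IsNoetherianRing A] in
/-- The cokernel of `B → B ⊗ A'` is the base change of that of `A → A'`. -/
theorem exists_cokerEquiv :
    Nonempty (((B ⊗[A] A') ⧸ LinearMap.range (Algebra.linearMap B (B ⊗[A] A'))) ≃ₗ[B]
      B ⊗[A] (A' ⧸ LinearMap.range (Algebra.linearMap A A'))) := by
  let N : Submodule B (B ⊗[A] A') := LinearMap.range (Algebra.linearMap B (B ⊗[A] A'))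
  let g := (LinearMap.range (Algebra.linearMap A A')).mkQ.baseChange B
  have hg : Function.Surjective g :=
    LinearMap.lTensor_surjective B (Submodule.mkQ_surjective _)
  have hex : Function.Exact ((Algebra.linearMap A A').baseChange B) g :=
    lTensor_exact B (LinearMap.exact_map_mkQ_range _) (Submodule.mkQ_surjective _)
  have hN : LinearMap.range ((Algebra.linearMap A A').baseChange B) = N := by
    apply le_antisymm
    · rintro _ ⟨w, rfl⟩
      induction w using TensorProduct.induction_on with
      | zero => simp
      | tmul b a =>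
        refine ⟨a • b, ?_⟩
        simp only [Algebra.linearMap_apply, LinearMap.baseChange_tmul,
          Algebra.TensorProduct.algebraMap_apply, Algebra.algebraMap_self, RingHom.id_apply,
          Algebra.algebraMap_eq_smul_one (A := A'), TensorProduct.tmul_smul,
          TensorProduct.smul_tmul']
      | add x y hx hy => rw [map_add]; exact add_mem hx hy
    · rintro _ ⟨b, rfl⟩
      exact ⟨b ⊗ₜ 1, by simp⟩
  exact ⟨(Submodule.quotEquivOfEq _ _ hN.symm).trans (hex.linearEquivOfSurjective hg)⟩

/-- **Invariance of the δ-invariant**, with reduced fibres over the normalisation. -/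
theorem deltaInv_eq_of_isReduced [Module.Finite A A'] [Module.Flat A B]
    (hred : ∀ P : Ideal A', P.IsMaximal → IsReduced (ResidueField B ⊗[A] (A' ⧸ P)))
    (hm : (maximalIdeal A).map (algebraMap A B) = maximalIdeal B) :
    Curv2.deltaInv B = Curv2.deltaInv A := by
  haveI : IsNoetherianRing A' := IsNoetherianRing.of_finite A _
  have hreg := regular_atPrime_normalisation A
  have hlocC : ∀ n : Ideal (B ⊗[A] A'), (_ : n.IsMaximal) →
      IsDomain (Localization.AtPrime n) ∧ IsIntegrallyClosed (Localization.AtPrime n) := fun n _ => by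
    haveI := isRegularLocalRing_atMaximal A B A' hred hm (fun P _ => hreg P) n
    exact ⟨Lib.Regular.Quotient.isDomain (Localization.AtPrime n),
      Lib.Regular.UFD.isIntegrallyClosed (Localization.AtPrime n)⟩
  obtain ⟨j, hj, hjle⟩ := exists_embedding A B
  have hrange : j.range = integralClosure B (FractionRing B) :=
    le_antisymm hjle fun x hx => mem_range_of_isIntegral B _ j hj hlocC hx
  let e : B ⊗[A] A' ≃ₐ[B] integralClosure B (FractionRing B) :=
    (AlgEquiv.ofInjective j hj).trans (Subalgebra.equivOfEq _ _ hrange)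
  -- the cokernel
  obtain ⟨eq⟩ := exists_cokerEquiv A B
  let N : Submodule B (B ⊗[A] A') := LinearMap.range (Algebra.linearMap B (B ⊗[A] A'))
  have e1 : (↥(integralClosure B (FractionRing B)) ⧸
      LinearMap.range (Algebra.linearMap B ↥(integralClosure B (FractionRing B)))) ≃ₗ[B]
      B ⊗[A] (A' ⧸ LinearMap.range (Algebra.linearMap A A')) :=
    (Submodule.Quotient.equiv _ N e.symm.toLinearEquiv (by
      apply le_antisymm
      · rintro _ ⟨_, ⟨b, rfl⟩, rfl⟩
        exact ⟨b, (e.symm.commutes b).symm⟩
      · rintro _ ⟨b, rfl⟩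
        exact ⟨_, ⟨b, rfl⟩, e.symm.commutes b⟩)).trans
      eq
  rw [Curv2.deltaInv, e1.length_eq, IsLocalRing.length_baseChange, hm]
  haveI : IsSimpleModule B (B ⧸ maximalIdeal B) :=
    isSimpleModule_iff_isCoatom.2 (maximalIdeal.isMaximal B).1
  rw [Module.length_eq_one B (B ⧸ maximalIdeal B), mul_one]
  rfl

/-- **Invariance of the δ-invariant**, with separable residue field extension. -/
theorem deltaInv_eq [Module.Finite A A'] [Module.Flat A B]
    [Algebra.IsSeparable (ResidueField A) (ResidueField B)]
    (hm : (maximalIdeal A).map (algebraMap A B) = maximalIdeal B) :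
    Curv2.deltaInv B = Curv2.deltaInv A :=
  deltaInv_eq_of_isReduced A B (fun P _ => isReduced_of_isSeparable A B A' P
    (IsLocalRing.eq_maximalIdeal (Ideal.isMaximal_comap_of_isIntegral_of_isMaximal P))) hm

omit [IsNoetherianRing A] [IsReduced A] [Ring.KrullDimLE 1 A] [IsNoetherianRing B] in
/-- The δ-invariant does not decrease along flat local homomorphisms. -/
theorem le_deltaInv [Module.Finite A A'] [Module.Flat A B] :
    Curv2.deltaInv A ≤ Curv2.deltaInv B := by
  obtain ⟨j, hj, hjle⟩ := exists_embedding A B
  obtain ⟨eq⟩ := exists_cokerEquiv A B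
  let i : B ⊗[A] A' →ₗ[B] integralClosure B (FractionRing B) :=
    (j.codRestrict _ fun c => hjle ⟨c, rfl⟩).toLinearMap
  have hi : Function.Injective i := fun a b h => hj (congrArg Subtype.val h)
  let Φ := Submodule.mapQ (LinearMap.range (Algebra.linearMap B (B ⊗[A] A')))
    (LinearMap.range (Algebra.linearMap B ↥(integralClosure B (FractionRing B)))) i (by
      rintro _ ⟨b, rfl⟩
      exact ⟨b, Subtype.ext (j.commutes b).symm⟩)
  have hΦ : Function.Injective Φ := by
    rw [injective_iff_map_eq_zero]
    intro x hx
    obtain ⟨c, rfl⟩ := Submodule.Quotient.mk_surjective _ x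
    rw [Submodule.mapQ_apply, Submodule.Quotient.mk_eq_zero] at hx
    obtain ⟨b, hb⟩ := hx
    rw [Submodule.Quotient.mk_eq_zero]
    exact ⟨b, hi (Subtype.ext ((j.commutes b).trans (congrArg Subtype.val hb)))⟩
  have hle := Module.length_le_of_injective Φ hΦ
  rw [eq.length_eq, IsLocalRing.length_baseChange] at hle
  refine le_trans ?_ hle
  refine le_mul_of_one_le_right zero_le ?_
  exact Order.one_le_iff_pos.2 (Module.length_pos_iff.2 (Submodule.Quotient.nontrivial_iff.2
    (IsLocalRing.map_maximalIdeal_lt_top (algebraMap A B)).ne))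

end Main

end Groth.Agent.H25.DeltaFlat
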