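import Mathlib.Algebra.Category.ModuleCat.Ext.HasExt
import Mathlib.Algebra.Homology.DerivedCategory.Ext.ExactSequences
import Mathlib.Algebra.Homology.DerivedCategory.Ext.EnoughProjectives
import Mathlib.Algebra.Category.ModuleCat.Projective
import Mathlib.Algebra.Category.ModuleCat.Biproducts
import Mathlib.RingTheory.Filtration

/-!
Artin–Rees for `Ext`: restrictions to `I ^ n • M` factor through `I ^ (n - c) • N`.
-/

set_option autoImplicit false

universe u

open CategoryTheory Abelian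

namespace Groth.Agent.H25.ExtAR

theorem main (A : Type u) [CommRing A] [IsNoetherianRing A] (I : Ideal A) : ∀ (p : ℕ)
    (M N : Type u) [AddCommGroup M] [Module A M] [Module.Finite A M] [AddCommGroup N] [Module A N],
    ∃ c : ℕ, ∀ n : ℕ, c ≤ n → ∀ e : Ext.{u} (ModuleCat.of A M) (ModuleCat.of A N) p,
      ∃ e' : Ext.{u} (ModuleCat.of A ↥(I ^ n • ⊤ : Submodule A M))
          (ModuleCat.of A ↥(I ^ (n - c) • ⊤ : Submodule A N)) p,
        e'.comp (Ext.mk₀ (ModuleCat.ofHom (I ^ (n - c) • ⊤ : Submodule A N).subtype)) (add_zero p) =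
          (Ext.mk₀ (ModuleCat.ofHom (I ^ n • ⊤ : Submodule A M).subtype)).comp e (zero_add p) := by
  intro p
  induction p with
  | zero =>
    intro M N _ _ _ _ _
    refine ⟨0, fun n _ e => ?_⟩
    obtain ⟨g, rfl⟩ := (Ext.mk₀_bijective _ _).surjective e
    have hg : ∀ x : (I ^ n • ⊤ : Submodule A M), g.hom (x : M) ∈ (I ^ (n - 0) • ⊤ : Submodule A N) := by
      intro x
      have := Submodule.mem_map_of_mem (f := g.hom) x.2
      rw [Submodule.map_smul''] at this
      exact Submodule.smul_mono le_rfl le_top this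
    refine ⟨Ext.mk₀ (ModuleCat.ofHom ((g.hom ∘ₗ (I ^ n • ⊤ : Submodule A M).subtype).codRestrict _ hg)), ?_⟩
    rw [Ext.mk₀_comp_mk₀, Ext.mk₀_comp_mk₀]
    rfl
  | succ p ih =>
    intro M N _ _ _ _ _
    obtain ⟨r, π, hπ⟩ := Module.Finite.exists_fin' A M
    let M₁ : Submodule A (Fin r → A) := LinearMap.ker π
    let S : ShortComplex (ModuleCat.{u} A) :=
      ShortComplex.mk (X₁ := ModuleCat.of A M₁) (X₂ := ModuleCat.of A (Fin r → A)) (X₃ := ModuleCat.of A M)
        (ModuleCat.ofHom M₁.subtype) (ModuleCat.ofHom π) (ModuleCat.hom_ext (LinearMap.ext fun x => x.2))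
    have hS : S.ShortExact :=
      { exact := (S.moduleCat_exact_iff_ker_sub_range).2 fun x hx => ⟨⟨x, hx⟩, rfl⟩
        mono_f := (ModuleCat.mono_iff_injective _).2 M₁.subtype_injective
        epi_g := (ModuleCat.epi_iff_surjective _).2 hπ }
    obtain ⟨c₁, hc₁⟩ := Ideal.exists_pow_inf_eq_pow_smul I M₁
    have : Module.Finite A M₁ := Module.IsNoetherian.finite A M₁
    obtain ⟨c', hc'⟩ := ih M₁ N
    refine ⟨c₁ + c', fun n hn e => ?_⟩
    have hP : Projective (ModuleCat.of A (Fin r → A)) :=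
      ModuleCat.projective_of_categoryTheory_projective _
    obtain ⟨e₁, rfl⟩ := Ext.contravariant_sequence_exact₃ hS (ModuleCat.of A N) e
      (Ext.eq_zero_of_projective (P := ModuleCat.of A (Fin r → A)) _) (n₀ := p) (by omega)
    let Kn : Submodule A (Fin r → A) := I ^ n • ⊤ ⊓ M₁
    have hπn : (I ^ n • ⊤ : Submodule A (Fin r → A)).map π = (I ^ n • ⊤ : Submodule A M) := by
      rw [Submodule.map_smul'', Submodule.map_top, LinearMap.range_eq_top.2 hπ]
    let πn : (I ^ n • ⊤ : Submodule A (Fin r → A)) →ₗ[A] (I ^ n • ⊤ : Submodule A M) :=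
      (π ∘ₗ Submodule.subtype _).codRestrict _ fun x => hπn ▸ Submodule.mem_map_of_mem x.2
    let T : ShortComplex (ModuleCat.{u} A) :=
      ShortComplex.mk (X₁ := ModuleCat.of A Kn) (X₂ := ModuleCat.of A (I ^ n • ⊤ : Submodule A (Fin r → A)))
        (X₃ := ModuleCat.of A (I ^ n • ⊤ : Submodule A M))
        (ModuleCat.ofHom (Submodule.inclusion inf_le_left)) (ModuleCat.ofHom πn)
        (ModuleCat.hom_ext (LinearMap.ext fun x => Subtype.ext x.2.2))
    have hT : T.ShortExact :=
      { exact := (T.moduleCat_exact_iff_ker_sub_range).2 fun x hx =>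
          ⟨⟨(x : Fin r → A), x.2, congrArg Subtype.val (show πn x = 0 from hx)⟩, rfl⟩
        mono_f := (ModuleCat.mono_iff_injective _).2 (Submodule.inclusion_injective (show Kn ≤ I ^ n • ⊤ from inf_le_left))
        epi_g := (ModuleCat.epi_iff_surjective _).2 fun y => by
          obtain ⟨x, hx, hxy⟩ := (hπn.symm ▸ y.2 :
            (y : M) ∈ (I ^ n • ⊤ : Submodule A (Fin r → A)).map π)
          exact ⟨⟨x, hx⟩, Subtype.ext hxy⟩ }
    let φ : T ⟶ S :=
      { τ₁ := ModuleCat.ofHom (Submodule.inclusion inf_le_right)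
        τ₂ := ModuleCat.ofHom (Submodule.subtype _)
        τ₃ := ModuleCat.ofHom (Submodule.subtype _)
        comm₁₂ := rfl
        comm₂₃ := rfl }
    have hKn : ∀ x : Kn, Submodule.inclusion (inf_le_right : Kn ≤ M₁) x ∈
        (I ^ (n - c₁) • ⊤ : Submodule A M₁) := by
      intro x
      have h1 : (x : Fin r → A) ∈ (I ^ (n - c₁) • ⊤ : Submodule A M₁).map M₁.subtype := by
        rw [Submodule.map_smul'', Submodule.map_subtype_top]
        refine Submodule.smul_mono le_rfl (show I ^ c₁ • ⊤ ⊓ M₁ ≤ M₁ from inf_le_right) ?_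
        rw [← hc₁ n (by omega)]
        exact x.2
      obtain ⟨y, hy, hyx⟩ := h1
      rwa [← show y = Submodule.inclusion (inf_le_right : Kn ≤ M₁) x from Subtype.ext hyx]
    let a : ModuleCat.of A Kn ⟶ ModuleCat.of A (I ^ (n - c₁) • ⊤ : Submodule A M₁) :=
      ModuleCat.ofHom ((Submodule.inclusion (inf_le_right : Kn ≤ M₁)).codRestrict _ hKn)
    obtain ⟨e₁', he₁'⟩ := hc' (n - c₁) (by omega) e₁
    have heq : n - c₁ - c' = n - (c₁ + c') := by omega
    rw [← heq]
    refine ⟨hT.extClass.comp ((Ext.mk₀ a).comp e₁' (zero_add p)) (by omega), ?_⟩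
    rw [Ext.comp_assoc_of_third_deg_zero, Ext.comp_assoc_of_third_deg_zero, he₁',
      Ext.mk₀_comp_mk₀_assoc, ← Ext.comp_assoc_of_second_deg_zero,
      show a ≫ ModuleCat.ofHom (I ^ (n - c₁) • ⊤ : Submodule A M₁).subtype = φ.τ₁ from rfl,
      ShortComplex.ShortExact.extClass_naturality hT hS φ,
      ← Ext.comp_assoc (Ext.mk₀ φ.τ₃) hS.extClass e₁ (zero_add 1) (by omega) (by omega)]

end Groth.Agent.H25.ExtAR
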