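import Mathlib.Algebra.Homology.DerivedCategory.Linear
import Mathlib.Algebra.Homology.DerivedCategory.HomologySequence
import Mathlib.Algebra.Homology.ShortComplex.Linear

/-!
The homology functors of a derived category are linear.
-/

set_option autoImplicit false

universe t w v u

open CategoryTheory Category Limits

namespace Groth.Agent.H25.HomLinear

variable (R : Type t) [Ring R] {C : Type u} [Category.{v} C] [Abelian C] [Linear R C]
  [HasDerivedCategory.{w} C]

instance complexHomology_linear (n : ℤ) :
    (HomologicalComplex.homologyFunctor C (ComplexShape.up ℤ) n).Linear R where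
  map_smul := by
    intro K L φ r
    exact ShortComplex.homologyMap_smul ((HomologicalComplex.shortComplexFunctor C (ComplexShape.up ℤ) n).map φ) r

theorem map_smul_id (n : ℤ) (r : R) (X : DerivedCategory C) :
    (DerivedCategory.homologyFunctor C n).map (r • 𝟙 X) =
      r • 𝟙 ((DerivedCategory.homologyFunctor C n).obj X) := by
  let K := DerivedCategory.Q.objPreimage X
  let e : DerivedCategory.Q.obj K ≅ X := DerivedCategory.Q.objObjPreimageIso X
  have hK : r • 𝟙 X = e.inv ≫ DerivedCategory.Q.map (r • 𝟙 K) ≫ e.hom := by
    rw [Functor.map_smul, CategoryTheory.Functor.map_id, Linear.smul_comp, id_comp,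
      Linear.comp_smul, e.inv_hom_id]
  have h := (DerivedCategory.homologyFunctorFactors C n).hom.naturality (r • 𝟙 K)
  rw [Functor.comp_map, Functor.map_smul (HomologicalComplex.homologyFunctor C (ComplexShape.up ℤ) n),
    CategoryTheory.Functor.map_id, Linear.comp_smul, comp_id] at h
  have h' : (DerivedCategory.homologyFunctor C n).map (DerivedCategory.Q.map (r • 𝟙 K)) = r • 𝟙 _ :=
    (cancel_mono ((DerivedCategory.homologyFunctorFactors C n).hom.app K)).1 (h.trans (by
      rw [Linear.smul_comp]; erw [id_comp]))
  rw [hK, Functor.map_comp, Functor.map_comp, h', Linear.smul_comp, id_comp, Linear.comp_smul,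
    ← Functor.map_comp, e.inv_hom_id, CategoryTheory.Functor.map_id]

instance linear (n : ℤ) : (DerivedCategory.homologyFunctor C n).Linear R := by
  rw [Functor.linear_iff]
  exact fun X r => map_smul_id R n r X

end Groth.Agent.H25.HomLinear
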