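import Groth.Agent.Lib.DR.Representative
import Groth.Agent.H25.HomLinear
import Mathlib.RingTheory.Filtration
import Mathlib.LinearAlgebra.FreeModule.Finite.Basic

/-!
`Ext` out of a K-projective complex through cocycles, and the Artin–Rees bound for it.
-/

set_option autoImplicit false

universe u

open CategoryTheory CategoryTheory.Limits CategoryTheory.Pretriangulated
open Groth.Agent.Lib.DR.Basic Groth.Agent.Lib.DR.PseudoCoherent

attribute [local instance] HasDerivedCategory.standard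

namespace Groth.Agent.H25.ExtCocycle

variable {A : Type u} [CommRing A] (E : DRing.Cx A)

/-- Cocycles of degree `-q`. -/
def Z (q : ℤ) (N : Type u) [AddCommGroup N] [Module A N] : Submodule A (E.X q →ₗ[A] N) :=
  LinearMap.ker (LinearMap.lcomp A N (E.d (q - 1) q).hom)

variable {E}

theorem mem_Z {q : ℤ} {N : Type u} [AddCommGroup N] [Module A N] {φ : E.X q →ₗ[A] N} :
    φ ∈ Z E q N ↔ φ ∘ₗ (E.d (q - 1) q).hom = 0 := Iff.rfl

variable (E)

/-- The chain map attached to a cocycle. -/
noncomputable def chainMap (q : ℤ) (N : Type u) [AddCommGroup N] [Module A N] (φ : Z E q N) :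
    E ⟶ (HomologicalComplex.single (ModuleCat.{u} A) (ComplexShape.up ℤ) q).obj (ModuleCat.of A N) :=
  HomologicalComplex.mkHomToSingle (ModuleCat.ofHom φ.1) fun i hi => by
    obtain rfl : i = q - 1 := by have : i + 1 = q := hi; omega
    exact ModuleCat.hom_ext φ.2

theorem chainMap_f (q : ℤ) (N : Type u) [AddCommGroup N] [Module A N] (φ : Z E q N) :
    (chainMap E q N φ).f q = ModuleCat.ofHom φ.1 ≫
      (HomologicalComplex.singleObjXSelf (ComplexShape.up ℤ) q (ModuleCat.of A N)).inv :=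
  HomologicalComplex.mkHomToSingle_f _ _

variable {p q : ℤ} (h : p + q = 0) (N : Type u) [AddCommGroup N] [Module A N]

/-- The comparison isomorphism. -/
noncomputable def cmp :
    DerivedCategory.Q.obj ((HomologicalComplex.single (ModuleCat.{u} A) (ComplexShape.up ℤ) q).obj
        (ModuleCat.of A N)) ≅ (Dual.inD A N)⟦p⟧ :=
  ((DerivedCategory.singleFunctorIsoCompQ (ModuleCat.{u} A) q).app (ModuleCat.of A N)).symm ≪≫
    (singleShift (ModuleCat.of A N) p q 0 h).symm

/-- Classes of cocycles. -/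
noncomputable def Φ : Z E q N →ₗ[A] (DerivedCategory.Q.obj E ⟶ (Dual.inD A N)⟦p⟧) where
  toFun φ := DerivedCategory.Q.map (chainMap E q N φ) ≫ (cmp h N).hom
  map_add' φ ψ := by
    rw [← Preadditive.add_comp, ← Functor.map_add]
    congr 2
    refine HomologicalComplex.to_single_hom_ext ?_
    rw [HomologicalComplex.add_f_apply, chainMap_f, chainMap_f, chainMap_f, ← Preadditive.add_comp]
    rfl
  map_smul' r φ := by
    rw [RingHom.id_apply, ← Linear.smul_comp, ← Functor.map_smul]
    congr 2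
    refine HomologicalComplex.to_single_hom_ext ?_
    rw [HomologicalComplex.smul_f_apply, chainMap_f, chainMap_f, ← Linear.smul_comp]
    rfl

theorem Φ_natural {N' : Type u} [AddCommGroup N'] [Module A N'] (u : N →ₗ[A] N') (φ : Z E q N)
    (ψ : Z E q N') (hψ : ψ.1 = u ∘ₗ φ.1) :
    Φ E h N φ ≫ ((DerivedCategory.singleFunctor (ModuleCat.{u} A) 0).map (ModuleCat.ofHom u))⟦p⟧' =
      Φ E h N' ψ := by
  have h1 : chainMap E q N φ ≫
      (HomologicalComplex.single (ModuleCat.{u} A) (ComplexShape.up ℤ) q).map (ModuleCat.ofHom u) =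
      chainMap E q N' ψ := by
    refine HomologicalComplex.to_single_hom_ext ?_
    rw [HomologicalComplex.comp_f, chainMap_f, chainMap_f, HomologicalComplex.single_map_f_self,
      Category.assoc, Iso.inv_hom_id_assoc, ← Category.assoc]
    congr 1
    refine ModuleCat.hom_ext ?_
    rw [ModuleCat.hom_comp]
    exact hψ.symm
  show (DerivedCategory.Q.map (chainMap E q N φ) ≫ (cmp h N).hom) ≫ _ =
    DerivedCategory.Q.map (chainMap E q N' ψ) ≫ (cmp h N').hom
  rw [← h1, Functor.map_comp, Category.assoc, Category.assoc]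
  congr 1
  simp only [cmp, Iso.trans_hom, Iso.symm_hom, singleShift, Iso.app_inv, Category.assoc]
  erw [← (((DerivedCategory.singleFunctors (ModuleCat.{u} A)).shiftIso p q 0 h)).inv.naturality
    (ModuleCat.ofHom u)]
  simp only [DerivedCategory.singleFunctorIsoCompQ, Iso.refl_inv, NatTrans.id_app]
  erw [Category.id_comp, Category.id_comp]
  rfl

theorem Φ_surjective [E.IsKProjective] : Function.Surjective (Φ E h N) := by
  intro e
  obtain ⟨f, hf⟩ := exists_Q_map_eq (e ≫ (cmp h N).inv)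
  let φ : E.X q →ₗ[A] N :=
    (f.f q ≫ (HomologicalComplex.singleObjXSelf (ComplexShape.up ℤ) q (ModuleCat.of A N)).hom).hom
  have hφ : φ ∈ Z E q N := by
    rw [mem_Z]
    have hc := f.comm (q - 1) q
    have hz : E.d (q - 1) q ≫ f.f q = 0 := by rw [← hc]; simp
    have := congrArg ModuleCat.Hom.hom (congrArg
      (· ≫ (HomologicalComplex.singleObjXSelf (ComplexShape.up ℤ) q (ModuleCat.of A N)).hom) hz)
    simpa [φ] using this
  refine ⟨⟨φ, hφ⟩, ?_⟩
  have : chainMap E q N ⟨φ, hφ⟩ = f := by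
    refine HomologicalComplex.to_single_hom_ext ?_
    rw [chainMap_f]
    show (f.f q ≫ _) ≫ _ = _
    rw [Category.assoc, Iso.hom_inv_id, Category.comp_id]
  show DerivedCategory.Q.map (chainMap E q N ⟨φ, hφ⟩) ≫ _ = e
  rw [this, hf, Category.assoc, Iso.inv_hom_id, Category.comp_id]

theorem exists_of_Φ_eq_zero [E.IsKProjective] (φ : Z E q N) (hφ : Φ E h N φ = 0) :
    ∃ ψ : E.X (q + 1) →ₗ[A] N, φ.1 = ψ ∘ₗ (E.d q (q + 1)).hom := by
  have h0 : DerivedCategory.Q.map (chainMap E q N φ) = 0 := by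
    rw [← cancel_mono (cmp h N).hom, zero_comp]; exact hφ
  have h1 : (HomotopyCategory.quotient (ModuleCat.{u} A) (.up ℤ)).map (chainMap E q N φ) =
      (HomotopyCategory.quotient (ModuleCat.{u} A) (.up ℤ)).map 0 := by
    apply (CochainComplex.IsKProjective.Qh_map_bijective E _).injective
    rw [← cancel_epi ((DerivedCategory.quotientCompQhIso (ModuleCat.{u} A)).inv.app E)]
    have n1 := (DerivedCategory.quotientCompQhIso (ModuleCat.{u} A)).inv.naturality (chainMap E q N φ)
    have n2 := (DerivedCategory.quotientCompQhIso (ModuleCat.{u} A)).inv.naturality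
      (0 : E ⟶ (HomologicalComplex.single (ModuleCat.{u} A) (ComplexShape.up ℤ) q).obj (ModuleCat.of A N))
    simp only [Functor.comp_map] at n1 n2
    erw [← n1, ← n2]
    rw [h0, Functor.map_zero]
  have ho := HomotopyCategory.homotopyOfEq _ _ h1
  have hc := ho.comm q
  rw [dNext_eq ho.hom (show (ComplexShape.up ℤ).Rel q (q + 1) from rfl),
    prevD_eq ho.hom (show (ComplexShape.up ℤ).Rel (q - 1) q from by show q - 1 + 1 = q; omega),
    chainMap_f] at hc
  simp only [HomologicalComplex.single_obj_d, comp_zero, HomologicalComplex.zero_f, add_zero] at hc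
  refine ⟨(ho.hom (q + 1) q ≫
    (HomologicalComplex.singleObjXSelf (ComplexShape.up ℤ) q (ModuleCat.of A N)).hom).hom, ?_⟩
  have := congrArg (fun t => ModuleCat.Hom.hom
    (t ≫ (HomologicalComplex.singleObjXSelf (ComplexShape.up ℤ) q (ModuleCat.of A N)).hom)) hc
  simpa using this

variable {N}

include h

/-- Classes of `I ^ n • N`-valued cocycles are divisible. -/
theorem exists_bound [IsNoetherianRing A] [E.IsKProjective] [Module.Finite A (E.X q)]
    [Module.Free A (E.X q)] [Module.Finite A N] (I : Ideal A) :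
    ∃ c : ℕ, ∀ n : ℕ, c ≤ n →
      ∀ e : DerivedCategory.Q.obj E ⟶ (Dual.inD A ↥(I ^ n • ⊤ : Submodule A N))⟦p⟧,
        e ≫ ((DerivedCategory.singleFunctor (ModuleCat.{u} A) 0).map
              (ModuleCat.ofHom (I ^ n • ⊤ : Submodule A N).subtype))⟦p⟧' ∈
          (I ^ (n - c) • ⊤ : Submodule A (DerivedCategory.Q.obj E ⟶ (Dual.inD A N)⟦p⟧)) := by
  classical
  obtain ⟨c, hc⟩ := Ideal.exists_pow_inf_eq_pow_smul I (Z E q N)
  refine ⟨c, fun n hn e => ?_⟩
  obtain ⟨φ, rfl⟩ := Φ_surjective E h _ e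
  let ψ : E.X q →ₗ[A] N := (I ^ n • ⊤ : Submodule A N).subtype ∘ₗ φ.1
  have hψZ : ψ ∈ Z E q N := by
    rw [mem_Z, LinearMap.comp_assoc, mem_Z.1 φ.2, LinearMap.comp_zero]
  rw [Φ_natural E h _ _ φ ⟨ψ, hψZ⟩ rfl]
  have hψI : ψ ∈ (I ^ n • ⊤ : Submodule A (E.X q →ₗ[A] N)) := by
    let b := Module.Free.chooseBasis A (E.X q)
    have hsum : ψ = ∑ i, LinearMap.smulRightₗ (b.coord i) (ψ (b i)) := by
      refine b.ext fun j => ?_
      simp [Finsupp.single_apply]
    rw [hsum]
    refine Submodule.sum_mem _ fun i _ => ?_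
    have hm : LinearMap.smulRightₗ (b.coord i) (ψ (b i)) ∈
        (I ^ n • ⊤ : Submodule A N).map (LinearMap.smulRightₗ (b.coord i)) :=
      Submodule.mem_map_of_mem (φ.1 (b i)).2
    rw [Submodule.map_smul''] at hm
    exact Submodule.smul_mono le_rfl le_top hm
  have hmem : ψ ∈ I ^ (n - c) • (I ^ c • ⊤ ⊓ Z E q N) := hc n hn ▸ Submodule.mem_inf.2 ⟨hψI, hψZ⟩
  have hmem' : (⟨ψ, hψZ⟩ : Z E q N) ∈ (I ^ (n - c) • ⊤ : Submodule A (Z E q N)) := by
    have : ψ ∈ (I ^ (n - c) • ⊤ : Submodule A (Z E q N)).map (Z E q N).subtype := by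
      rw [Submodule.map_smul'', Submodule.map_subtype_top]
      exact Submodule.smul_mono le_rfl inf_le_right hmem
    obtain ⟨y, hy, hyψ⟩ := this
    rwa [← show y = ⟨ψ, hψZ⟩ from Subtype.ext hyψ]
  have := Submodule.mem_map_of_mem (f := Φ E h N) hmem'
  rw [Submodule.map_smul''] at this
  exact Submodule.smul_mono le_rfl le_top this

/-- `Ext` of finite modules is finite. -/
theorem ext_finite [IsNoetherianRing A] [E.IsKProjective] [Module.Finite A (E.X q)]
    [Module.Finite A N] :
    Module.Finite A (DerivedCategory.Q.obj E ⟶ (Dual.inD A N)⟦p⟧) :=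
  Module.Finite.of_surjective (Φ E h N) (Φ_surjective E h N)

end Groth.Agent.H25.ExtCocycle

namespace Groth.Agent.H25.ExtCocycle

variable {A : Type u} [CommRing A] {E : DRing.Cx A}

theorem mem_Z_iff {q a : ℤ} (ha : a + 1 = q) {N : Type u} [AddCommGroup N] [Module A N]
    {φ : E.X q →ₗ[A] N} : φ ∈ Z E q N ↔ φ ∘ₗ (E.d a q).hom = 0 := by
  obtain rfl : a = q - 1 := by omega
  exact Iff.rfl

/-- A complex of finite free modules bounded above representing a pseudo-coherent object. -/
theorem exists_model {K : Dual.D A} (hK : DRing.IsPseudoCoherent' A K) :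
    ∃ E : DRing.Cx A, E.IsKProjective ∧ (∀ i, Module.Finite A (E.X i) ∧ Module.Free A (E.X i)) ∧
      Nonempty (DerivedCategory.Q.obj E ≅ K) := by
  obtain ⟨b, E, hE, hp, e⟩ := (Groth.Agent.Lib.DR.Representative.isPseudoCoherent'_iff K).1 hK
  exact ⟨E, Groth.Agent.Lib.DR.FiniteComplex.isKProjective_of_bounds projective_of_ff hE hp, hp, e⟩

variable [IsNoetherianRing A]

/-- The Artin–Rees bound for a pseudo-coherent source. -/
theorem exists_bound' {K : Dual.D A} (hK : DRing.IsPseudoCoherent' A K) (p : ℤ) (I : Ideal A)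
    (N : Type u) [AddCommGroup N] [Module A N] [Module.Finite A N] :
    ∃ c : ℕ, ∀ n : ℕ, c ≤ n →
      ∀ e : K ⟶ (Dual.inD A ↥(I ^ n • ⊤ : Submodule A N))⟦p⟧,
        e ≫ ((DerivedCategory.singleFunctor (ModuleCat.{u} A) 0).map
              (ModuleCat.ofHom (I ^ n • ⊤ : Submodule A N).subtype))⟦p⟧' ∈
          (I ^ (n - c) • ⊤ : Submodule A (K ⟶ (Dual.inD A N)⟦p⟧)) := by
  obtain ⟨E, hE, hff, ⟨e₀⟩⟩ := exists_model hK
  obtain ⟨_, _⟩ := hff (-p)
  obtain ⟨c, hc⟩ := exists_bound (N := N) E (show p + (-p) = 0 by omega) I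
  refine ⟨c, fun n hn e => ?_⟩
  have h1 := Submodule.mem_map_of_mem
    (f := Linear.leftComp A ((Dual.inD A N)⟦p⟧) e₀.inv) (hc n hn (e₀.hom ≫ e))
  rw [Submodule.map_smul'', Linear.leftComp_apply, Category.assoc, Iso.inv_hom_id_assoc] at h1
  exact Submodule.smul_mono le_rfl le_top h1

theorem ext_finite' {K : Dual.D A} (hK : DRing.IsPseudoCoherent' A K) (p : ℤ)
    (N : Type u) [AddCommGroup N] [Module A N] [Module.Finite A N] :
    Module.Finite A (K ⟶ (Dual.inD A N)⟦p⟧) := by
  obtain ⟨E, hE, hff, ⟨e₀⟩⟩ := exists_model hK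
  obtain ⟨_, _⟩ := hff (-p)
  have := ext_finite (N := N) E (show p + (-p) = 0 by omega)
  exact Module.Finite.of_surjective (Linear.leftComp A ((Dual.inD A N)⟦p⟧) e₀.inv)
    fun e => ⟨e₀.hom ≫ e, e₀.inv_hom_id_assoc e⟩

/-- A finite power-torsion module is killed by a power. -/
theorem exists_pow_kills {I : Ideal A} {X : Type*} [AddCommGroup X] [Module A X] [Module.Finite A X]
    (h : ∀ e : X, ∃ n : ℕ, ∀ x ∈ I ^ n, x • e = 0) :
    ∃ n : ℕ, ∀ e : X, e ∈ (I ^ n • ⊤ : Submodule A X) → e = 0 := by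
  classical
  obtain ⟨S, hS⟩ := Module.Finite.fg_top (R := A) (M := X)
  choose f hf using h
  refine ⟨S.sup f, fun e he => ?_⟩
  refine Submodule.smul_induction_on he (fun x hx y hyt => ?_) (fun a b ha hb => by rw [ha, hb, add_zero])
  clear hyt
  have hy : y ∈ Submodule.span A (S : Set X) := by rw [hS]; trivial
  induction hy using Submodule.span_induction with
  | mem z hz => exact hf z x (Ideal.pow_le_pow_right (Finset.le_sup hz) hx)
  | zero => exact smul_zero x
  | add a b _ _ ha hb => rw [smul_add, ha, hb, add_zero]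
  | smul r a _ ha => rw [smul_comm, ha, smul_zero]

end Groth.Agent.H25.ExtCocycle
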