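import Mathlib.Algebra.Category.ModuleCat.Limits
import Mathlib.Algebra.Category.ModuleCat.FilteredColimits
import Mathlib.Algebra.Colimit.Finiteness
import Mathlib.CategoryTheory.Limits.Preserves.Filtered
import Mathlib.Algebra.Category.ModuleCat.EpiMono

/-!
# Functors commuting with filtered colimits and finitely generated submodules
-/

universe u

namespace Groth.Agent.H25.FGColim

open CategoryTheory CategoryTheory.Limits

variable {A : Type u} [CommRing A] (X : Type u) [AddCommGroup X] [Module A X]

/-- The finitely generated submodules of `X`. -/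
abbrev Idx : Type u := {N : Submodule A X // N.FG}

/-- The diagram of finitely generated submodules. -/
noncomputable def diag : Idx (A := A) X ⥤ ModuleCat.{u} A where
  obj N := ModuleCat.of A N.1
  map h := ModuleCat.ofHom (Submodule.inclusion h.le)

/-- `X` as a cocone on its finitely generated submodules. -/
noncomputable def cocone : Cocone (diag (A := A) X) where
  pt := ModuleCat.of A X
  ι := { app := fun N => ModuleCat.ofHom N.1.subtype }

instance : IsFiltered (Idx (A := A) X) :=
  have : Nonempty (Idx (A := A) X) := ⟨⟨⊥, Submodule.fg_bot⟩⟩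
  inferInstance

/-- `X` is the colimit of its finitely generated submodules. -/
noncomputable def isColimit : IsColimit (cocone (A := A) X) :=
  have : ReflectsColimit (diag (A := A) X) (forget (ModuleCat.{u} A)) :=
    reflectsColimit_of_reflectsIsomorphisms _ _
  isColimitOfReflects (forget (ModuleCat.{u} A)) (Types.FilteredColimit.isColimitOf _ _
    (fun (x : X) => ⟨⟨Submodule.span A {x}, Submodule.fg_span_singleton x⟩, ⟨x, Submodule.mem_span_singleton_self x⟩, rfl⟩)
    (fun i j xi xj h => by
      obtain ⟨k, hik, hjk⟩ := exists_ge_ge i j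
      exact ⟨k, homOfLE hik, homOfLE hjk, Subtype.ext h⟩))

variable {X} (F : ModuleCat.{u} A ⥤ ModuleCat.{u} A) [PreservesFilteredColimits F]

/-- An element killed in `F X` is killed in some finitely generated submodule. -/
theorem exists_map_eq_zero (N : Idx (A := A) X) (x : F.obj (ModuleCat.of A N.1))
    (hx : (F.map (ModuleCat.ofHom N.1.subtype)).hom x = 0) :
    ∃ (N' : Idx (A := A) X) (h : N.1 ≤ N'.1), (F.map (ModuleCat.ofHom (Submodule.inclusion h))).hom x = 0 := by
  have hc := isColimitOfPreserves F (isColimit (A := A) X)
  obtain ⟨k, f, g, hk⟩ := Concrete.isColimit_exists_of_rep_eq.{u} _ hc (i := N) (j := N) x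
    (0 : F.obj (ModuleCat.of A N.1)) (hx.trans (map_zero _).symm)
  exact ⟨k, f.le, hk.trans (map_zero _)⟩

omit [AddCommGroup X] [Module A X] in
/-- Vanishing on finite modules implies vanishing. -/
theorem isZero_of_forall_finite
    (h : ∀ (N : Type u) [AddCommGroup N] [Module A N] [Module.Finite A N], IsZero (F.obj (ModuleCat.of A N)))
    (Y : ModuleCat.{u} A) : IsZero (F.obj Y) := by
  refine @ModuleCat.isZero_of_subsingleton _ _ _ ⟨fun a b => ?_⟩
  have hc := isColimitOfPreserves F (isColimit (A := A) Y)
  obtain ⟨i, y, rfl⟩ := Concrete.isColimit_exists_rep _ hc a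
  obtain ⟨j, z, rfl⟩ := Concrete.isColimit_exists_rep _ hc b
  have hz : ∀ (N : Idx (A := A) Y) (w : (diag (A := A) Y ⋙ F).obj N), w = 0 := fun N w => by
    have : Module.Finite A N.1 := Module.Finite.iff_fg.mpr N.2
    have := ModuleCat.subsingleton_of_isZero (h N.1)
    exact @Subsingleton.elim _ this _ _
  rw [hz i y, hz j z]
  exact (map_zero _).trans (map_zero _).symm

end Groth.Agent.H25.FGColim
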