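import Groth.Agent.H25.FittingLoc
import Groth.Prelude.Def_BlowUp2

/-!
# Strict transforms and Fitting ideals
-/

universe u

open TensorProduct

namespace Groth.Agent.H25.Fitting

variable {R : Type u} [CommRing R] {I : Ideal R} {a : R} {R₁ : Type u} [CommRing R₁] [Algebra R R₁]
  (e : R₁ ≃ₐ[R] ↥(BlowUp.affineAlgebra R I a))

include e in
lemma blowUp_nzd : algebraMap R R₁ a ∈ nonZeroDivisors R₁ := by
  rw [mem_nonZeroDivisors_iff_right]
  intro x hx
  have h := congrArg (fun t => (e t : Localization.Away a)) hx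
  simp only [map_mul, map_zero, MulMemClass.coe_mul, e.commutes, ZeroMemClass.coe_zero,
    SubalgebraClass.coe_algebraMap] at h
  have : (e x : Localization.Away a) = 0 :=
    ((IsLocalization.map_units (Localization.Away a)
      ⟨a, Submonoid.mem_powers a⟩).mul_left_eq_zero).mp h
  exact e.map_eq_zero_iff.mp (Subtype.ext this)

include e in
lemma blowUp_map_le : I.map (algebraMap R R₁) ≤ Ideal.span {algebraMap R R₁ a} := by
  refine Ideal.map_le_iff_le_comap.mpr fun x hx => ?_
  rw [Ideal.mem_comap, Ideal.mem_span_singleton]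
  refine ⟨e.symm ⟨IsLocalization.mk' (Localization.Away a) x ⟨a, Submonoid.mem_powers a⟩,
    Algebra.subset_adjoin ⟨x, hx, rfl⟩⟩, e.injective (Subtype.ext ?_)⟩
  simp only [map_mul, e.commutes, AlgEquiv.apply_symm_apply, MulMemClass.coe_mul,
    SubalgebraClass.coe_algebraMap]
  exact (IsLocalization.mk'_spec' _ x ⟨a, Submonoid.mem_powers a⟩).symm

include e in
lemma blowUp_map_eq (ha : a ∈ I) : I.map (algebraMap R R₁) = Ideal.span {algebraMap R R₁ a} :=
  le_antisymm (blowUp_map_le e) ((Ideal.span_singleton_le_iff_mem _).mpr (Ideal.mem_map_of_mem _ ha))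

lemma map_eq_bot_of_torsion {b : R₁} (hb : b ∈ nonZeroDivisors R₁) (ha : algebraMap R R₁ a = b)
    (J : Ideal R) (hJ : ∀ x ∈ J, ∃ N : ℕ, a ^ N * x = 0) : J.map (algebraMap R R₁) = ⊥ := by
  rw [eq_bot_iff, Ideal.map_le_iff_le_comap]
  intro x hx
  obtain ⟨N, hN⟩ := hJ x hx
  have h := congrArg (algebraMap R R₁) hN
  rw [map_mul, map_pow, map_zero, ha] at h
  exact Ideal.mem_bot.mpr ((mul_left_mem_nonZeroDivisors_eq_zero_iff (pow_mem hb N)).mp h)

lemma powTorsion_eq {M : Type u} [AddCommGroup M] [Module R M] (f : R)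
    (h : ∀ x : M, (∃ n : ℕ, f ^ n • x = 0) → f • x = 0) :
    FlatCA.powTorsion R f M = LinearMap.ker (f • (LinearMap.id : M →ₗ[R] M)) := by
  refine le_antisymm (iSup_le fun n x hx => h x ⟨n, hx⟩) fun x hx => ?_
  refine Submodule.mem_iSup_of_mem 1 ?_
  rw [pow_one]
  exact hx

lemma ker_le_powTorsion {M : Type u} [AddCommGroup M] [Module R M] (f : R) :
    LinearMap.ker (f • (LinearMap.id : M →ₗ[R] M)) ≤ FlatCA.powTorsion R f M := fun x hx => by
  refine Submodule.mem_iSup_of_mem 1 ?_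
  rw [pow_one]
  exact hx

end Groth.Agent.H25.Fitting
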