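import Groth.Agent.H25.Fitting
import Mathlib.RingTheory.Ideal.Operations
import Mathlib.RingTheory.Finiteness.Prod

/-!
# Fitting ideals of products; transposes
-/

universe u v w

open Matrix

namespace Groth.Agent.H25.Fitting

variable {R : Type u} [CommRing R]

theorem ideal_mono {M : Type v} [AddCommGroup M] [Module R M] [Module.Finite R M] {k k' : ℕ}
    (h : k ≤ k') : Fitt.ideal R M k ≤ Fitt.ideal R M k' := by
  obtain ⟨n, x, hx⟩ := Module.Finite.exists_fin (R := R) (M := M)
  rw [ideal_eq_Fx x hx, ideal_eq_Fx x hx]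
  exact Ideal.span_mono fun d ⟨a, ha, hd⟩ => ⟨a, fun i hi => ha i (by omega), hd⟩

lemma Mn_eq_bot_of_lt {n p : ℕ} (S : Set (Fin n → R)) (h : n < p) : Mn S p = ⊥ := by
  rw [Mn, Ideal.span_eq_bot]
  rintro d ⟨z, e, hz, rfl⟩
  obtain ⟨a, a', hne, ha⟩ := Fintype.exists_ne_map_eq_of_card_lt e (by simpa using h)
  exact Matrix.det_zero_of_row_eq hne (funext fun b => by simp [ha])

lemma Mn_range_transpose_le {ι κ : Type*} (C : κ → ι → R) (p : ℕ) :
    Mn (Set.range C) p ≤ Mn (Set.range fun i k => C k i) p := by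
  refine Ideal.span_le.mpr ?_
  rintro d ⟨z, e, hz, rfl⟩
  choose g hg using hz
  have := det_mem_Mn' (S := Set.range fun i k => C k i) (fun a k => C k (e a)) g (fun a => ⟨e a, rfl⟩)
  simpa [← hg] using this

lemma Mn_range_transpose {ι κ : Type*} (C : κ → ι → R) (p : ℕ) :
    Mn (Set.range C) p = Mn (Set.range fun i k => C k i) p :=
  le_antisymm (Mn_range_transpose_le C p) (Mn_range_transpose_le (fun i k => C k i) p)

/-- Two-block determinant with different side counts vanishes. -/
lemma det_eq_zero_of_blocks {p : Type*} [Fintype p] [DecidableEq p] (A : Matrix p p R) (s t : p → Prop)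
    [DecidablePred s] [DecidablePred t] (h : ∀ a b, ¬(s a ↔ t b) → A a b = 0)
    (hne : (Finset.univ.filter s).card ≠ (Finset.univ.filter t).card) : A.det = 0 := by
  rw [Matrix.det_apply]
  refine Finset.sum_eq_zero fun σ _ => ?_
  have : ∃ b, ¬(s (σ b) ↔ t b) := by
    by_contra hh
    push Not at hh
    refine hne (Finset.card_bij' (fun a _ => σ.symm a) (fun b _ => σ b) ?_ ?_ ?_ ?_) <;>
      intro a ha <;> simp_all
    all_goals (first | exact (hh (σ.symm a)).mp (by simpa using ha))
  obtain ⟨b, hb⟩ := this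
  exact smul_eq_zero_of_right _ (Finset.prod_eq_zero (Finset.mem_univ b) (h _ _ hb))

/-- Extend by zero on the right. -/
def padL (n m : ℕ) : (Fin n → R) →ₗ[R] (Fin (n + m) → R) where
  toFun v := Fin.append v 0
  map_add' v w := by funext i; induction i using Fin.addCases <;> simp
  map_smul' r v := by funext i; induction i using Fin.addCases <;> simp

/-- Extend by zero on the left. -/
def padR (n m : ℕ) : (Fin m → R) →ₗ[R] (Fin (n + m) → R) where
  toFun v := Fin.append 0 v
  map_add' v w := by funext i; induction i using Fin.addCases <;> simp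
  map_smul' r v := by funext i; induction i using Fin.addCases <;> simp

variable {M : Type v} {M' : Type w} [AddCommGroup M] [Module R M] [AddCommGroup M'] [Module R M']
  {n m : ℕ} (x : Fin n → M) (y : Fin m → M')

/-- Generators of the product. -/
def prodGen : Fin (n + m) → M × M' := Fin.append (fun i => (x i, 0)) (fun j => (0, y j))

lemma prodGen_sum (v : Fin (n + m) → R) : ∑ i, v i • prodGen x y i =
    (∑ i, v (Fin.castAdd m i) • x i, ∑ j, v (Fin.natAdd n j) • y j) := by
  rw [Fin.sum_univ_add]
  simp [prodGen, Prod.ext_iff, Prod.fst_sum, Prod.snd_sum]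

lemma span_prodGen (hx : Submodule.span R (Set.range x) = ⊤) (hy : Submodule.span R (Set.range y) = ⊤) :
    Submodule.span R (Set.range (prodGen x y)) = ⊤ := by
  rw [eq_top_iff]
  rintro ⟨a, b⟩ -
  obtain ⟨c, rfl⟩ := (Submodule.mem_span_range_iff_exists_fun R).mp (hx ▸ Submodule.mem_top : a ∈ _)
  obtain ⟨c', rfl⟩ := (Submodule.mem_span_range_iff_exists_fun R).mp (hy ▸ Submodule.mem_top : b ∈ _)
  exact (Submodule.mem_span_range_iff_exists_fun R).mpr
    ⟨Fin.append c c', by rw [prodGen_sum]; simp⟩

lemma rel_prodGen : rel (R := R) (prodGen x y) = Submodule.span R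
    (padL n m '' (rel (R := R) x : Set (Fin n → R)) ∪ padR n m '' (rel (R := R) y : Set (Fin m → R))) := by
  rw [Submodule.span_union, Submodule.span_image, Submodule.span_image, Submodule.span_eq,
    Submodule.span_eq]
  refine le_antisymm (fun v hv => ?_) (sup_le ?_ ?_)
  · have h := mem_rel.mp hv
    rw [prodGen_sum, Prod.ext_iff] at h
    have hv' : v = padL n m (fun i => v (Fin.castAdd m i)) + padR n m (fun j => v (Fin.natAdd n j)) := by
      funext i; induction i using Fin.addCases <;> simp [padL, padR]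
    rw [hv']
    exact Submodule.add_mem_sup (Submodule.mem_map_of_mem (mem_rel.mpr h.1))
      (Submodule.mem_map_of_mem (mem_rel.mpr h.2))
  · rintro _ ⟨v, hv, rfl⟩
    rw [mem_rel, prodGen_sum]
    simpa [padL] using mem_rel.mp hv
  · rintro _ ⟨v, hv, rfl⟩
    rw [mem_rel, prodGen_sum]
    simpa [padR] using mem_rel.mp hv

variable [Module.Finite R M] [Module.Finite R M']

theorem ideal_prod_ge (k k' : ℕ) :
    Fitt.ideal R M k * Fitt.ideal R M' k' ≤ Fitt.ideal R (M × M') (k + k') := by
  obtain ⟨n, x, hx⟩ := Module.Finite.exists_fin (R := R) (M := M)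
  obtain ⟨m, y, hy⟩ := Module.Finite.exists_fin (R := R) (M := M')
  rw [ideal_eq x hx, ideal_eq y hy]
  refine le_trans ?_ (ideal_mono (k := n + m - ((n - k) + (m - k'))) (by omega))
  rw [ideal_eq_of_rel _ (span_prodGen x y hx hy) _ (rel_prodGen x y),
    show n + m - (n + m - ((n - k) + (m - k'))) = (n - k) + (m - k') by omega, Mn, Mn,
    Ideal.span_mul_span, Ideal.span_le]
  intro d hd
  rw [Set.mem_mul] at hd
  obtain ⟨_, ⟨z, e, hz, rfl⟩, _, ⟨z', e', hz', rfl⟩, rfl⟩ := hd
  have hmem := det_mem_Mn (S := padL n m '' (rel (R := R) x : Set (Fin n → R)) ∪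
      padR n m '' (rel (R := R) y : Set (Fin m → R)))
    (Fin.append (fun b => padL n m (z b)) (fun b => padR n m (z' b)))
    (Fin.append (fun a => Fin.castAdd m (e a)) (fun a => Fin.natAdd n (e' a)))
    (fun b => by
      induction b using Fin.addCases with
      | left b => exact Or.inl ⟨z b, hz b, by rw [Fin.append_left]⟩
      | right b => exact Or.inr ⟨z' b, hz' b, by rw [Fin.append_right]⟩)
  rw [← Matrix.det_submatrix_equiv_self finSumFinEquiv] at hmem
  refine Eq.subst (motive := fun d => d ∈ Mn _ _) ?_ hmem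
  rw [← Matrix.det_fromBlocks_zero₂₁ _ 0]
  refine congrArg Matrix.det ?_
  ext i j
  rcases i with i | i <;> rcases j with j | j <;>
    simp [padL, padR, finSumFinEquiv_apply_left, finSumFinEquiv_apply_right]

theorem ideal_prod (l : ℕ) :
    Fitt.ideal R (M × M') l = ∑ k ∈ Finset.range (l + 1), Fitt.ideal R M k * Fitt.ideal R M' (l - k) := by
  classical
  refine le_antisymm ?_ ?_
  swap
  · rw [Ideal.sum_eq_sup]
    refine Finset.sup_le fun k hk => (ideal_prod_ge k (l - k)).trans (le_of_eq ?_)
    rw [Nat.add_sub_cancel' (Finset.mem_range_succ_iff.mp hk)]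
  obtain ⟨n, x, hx⟩ := Module.Finite.exists_fin (R := R) (M := M)
  obtain ⟨m, y, hy⟩ := Module.Finite.exists_fin (R := R) (M := M')
  set tot := ∑ k ∈ Finset.range (l + 1), Fitt.ideal R M k * Fitt.ideal R M' (l - k)
  have hterm : ∀ k ≤ l, Fitt.ideal R M k * Fitt.ideal R M' (l - k) ≤ tot := fun k hk => by
    simp only [tot, Ideal.sum_eq_sup]
    exact Finset.le_sup (f := fun k => Fitt.ideal R M k * Fitt.ideal R M' (l - k))
      (Finset.mem_range_succ_iff.mpr hk)
  by_cases hl : n + m < l
  · refine le_trans ?_ (hterm n (by omega))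
    rw [ideal_eq_top x hx le_rfl, ideal_eq_top y hy (by omega), Ideal.top_mul]
    exact le_top
  rw [ideal_eq_of_rel _ (span_prodGen x y hx hy) _ (rel_prodGen x y)]
  refine Ideal.span_le.mpr ?_
  rintro d ⟨z, e, hz, rfl⟩
  set L := padL n m '' (rel (R := R) x : Set (Fin n → R))
  let t : Fin (n + m - l) → Prop := fun b => z b ∈ L
  let s : Fin (n + m - l) → Prop := fun a => (e a : ℕ) < n
  have hzero : ∀ a b, ¬(s a ↔ t b) → (Matrix.of fun a b => z b (e a)) a b = 0 := by
    intro a b hab
    rw [Matrix.of_apply]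
    by_cases htb : t b
    · obtain ⟨v, hv0, hv⟩ := htb
      have hsa : ¬ (e a : ℕ) < n := fun h => hab ⟨fun _ => ⟨v, hv0, hv⟩, fun _ => h⟩
      obtain ⟨j, hj⟩ : ∃ j, e a = Fin.natAdd n j := ⟨⟨e a - n, by omega⟩, by ext; simp; omega⟩
      rw [← hv, hj]; simp [padL]
    · obtain ⟨v, -, hv⟩ := (hz b).resolve_left htb
      have hsa : (e a : ℕ) < n := by
        by_contra h; exact hab ⟨fun h' => absurd h' h, fun h' => absurd h' htb⟩
      obtain ⟨j, hj⟩ : ∃ j, e a = Fin.castAdd m j := ⟨⟨e a, hsa⟩, by ext; simp⟩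
      rw [← hv, hj]; simp [padR]
  by_cases hcard : (Finset.univ.filter s).card = (Finset.univ.filter t).card
  swap
  · rw [det_eq_zero_of_blocks _ s t hzero hcard]; exact zero_mem _
  set q := (Finset.univ.filter t).card with hq
  set q' := (Finset.univ.filter fun b => ¬ t b).card with hq'
  have hqq : q + q' = n + m - l := by
    rw [hq, hq', Finset.card_filter_add_card_filter_not, Finset.card_univ, Fintype.card_fin]
  have hs' : (Finset.univ.filter fun a => ¬ s a).card = q' := by
    have := Finset.card_filter_add_card_filter_not s (s := (Finset.univ : Finset (Fin (n + m - l))))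
    rw [Finset.card_univ, Fintype.card_fin] at this
    omega
  let ec : Fin q ⊕ Fin q' ≃ Fin (n + m - l) :=
    (Equiv.sumCongr (Fintype.equivFinOfCardEq (by rw [Fintype.card_subtype])).symm
      (Fintype.equivFinOfCardEq (by rw [Fintype.card_subtype])).symm).trans
      (Equiv.sumCompl t)
  let er : Fin q ⊕ Fin q' ≃ Fin (n + m - l) :=
    (Equiv.sumCongr (Fintype.equivFinOfCardEq (by rw [Fintype.card_subtype, hcard])).symm
      (Fintype.equivFinOfCardEq (by rw [Fintype.card_subtype]; exact hs')).symm).trans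
      (Equiv.sumCompl s)
  let A : Matrix (Fin (n + m - l)) (Fin (n + m - l)) R := Matrix.of fun a b => z b (e a)
  have htl : ∀ i, t (ec (.inl i)) := fun i => by
    simp only [ec, Equiv.trans_apply, Equiv.sumCongr_apply, Sum.map_inl, Equiv.sumCompl_apply_inl]
    exact Subtype.prop _
  have htr : ∀ i, ¬ t (ec (.inr i)) := fun i => by
    simp only [ec, Equiv.trans_apply, Equiv.sumCongr_apply, Sum.map_inr, Equiv.sumCompl_apply_inr]
    exact Subtype.prop (p := fun b => ¬ t b) _
  have hsl : ∀ i, s (er (.inl i)) := fun i => by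
    simp only [er, Equiv.trans_apply, Equiv.sumCongr_apply, Sum.map_inl, Equiv.sumCompl_apply_inl]
    exact Subtype.prop _
  have hsr : ∀ i, ¬ s (er (.inr i)) := fun i => by
    simp only [er, Equiv.trans_apply, Equiv.sumCongr_apply, Sum.map_inr, Equiv.sumCompl_apply_inr]
    exact Subtype.prop (p := fun b => ¬ s b) _
  have hB : A.submatrix er ec = Matrix.fromBlocks (Matrix.of fun a b => z (ec (.inl b)) (e (er (.inl a)))) 0 0
      (Matrix.of fun a b => z (ec (.inr b)) (e (er (.inr a)))) := by
    ext i j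
    rcases i with i | i <;> rcases j with j | j
    · rfl
    · exact hzero _ _ (fun h => htr j (h.mp (hsl i)))
    · exact hzero _ _ (fun h => hsr i (h.mpr (htl j)))
    · rfl
  have hdet : (A.submatrix er ec).det = Equiv.Perm.sign (ec.trans er.symm) * A.det := by
    have h1 : A.submatrix er ec = (A.submatrix er er).submatrix id (ec.trans er.symm) := by
      ext i j; simp
    rw [h1, Matrix.det_permute', Matrix.det_submatrix_equiv_self]
  suffices (A.submatrix er ec).det ∈ tot by
    rw [hdet] at this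
    exact (Ideal.unit_mul_mem_iff_mem _ ((Units.isUnit _).map (Int.castRingHom R))).mp this
  rw [hB, Matrix.det_fromBlocks_zero₂₁]
  choose u hu huv using htl
  choose u' hu' huv' using fun i => (hz _).resolve_left (htr i)
  let ea : Fin q → Fin n := fun a => ⟨e (er (.inl a)), hsl a⟩
  let eb : Fin q' → Fin m := fun a => ⟨e (er (.inr a)) - n, by
    have : ¬ (e (er (.inr a)) : ℕ) < n := hsr a
    omega⟩
  have h1 : (Matrix.of fun a b => z (ec (.inl b)) (e (er (.inl a)))) = Matrix.of fun a b => u b (ea a) := by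
    ext a b
    simp only [Matrix.of_apply, ← huv]
    rw [show e (er (.inl a)) = Fin.castAdd m (ea a) from Fin.ext rfl]
    simp [padL]
  have h2 : (Matrix.of fun a b => z (ec (.inr b)) (e (er (.inr a)))) = Matrix.of fun a b => u' b (eb a) := by
    ext a b
    simp only [Matrix.of_apply, ← huv']
    rw [show e (er (.inr a)) = Fin.natAdd n (eb a) from Fin.ext (by
      have : ¬ (e (er (.inr a)) : ℕ) < n := hsr a
      simp [eb]; omega)]
    simp [padR]
  rw [h1, h2]
  have hp1 := det_mem_Mn u ea hu
  have hp2 := det_mem_Mn u' eb hu'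
  by_cases hqn : n < q
  · rw [Mn_eq_bot_of_lt _ hqn, Ideal.mem_bot] at hp1
    rw [hp1, zero_mul]; exact zero_mem _
  by_cases hqm : m < q'
  · rw [Mn_eq_bot_of_lt _ hqm, Ideal.mem_bot] at hp2
    rw [hp2, mul_zero]; exact zero_mem _
  refine hterm (n - q) (by omega) (Ideal.mul_mem_mul ?_ ?_)
  · rw [ideal_eq x hx, show n - (n - q) = q by omega]; exact hp1
  · rw [ideal_eq y hy, show m - (l - (n - q)) = q' by omega]; exact hp2

end Groth.Agent.H25.Fitting
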