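import Groth.Prelude.Def_W4c5qllcourbesmultMultCrv
import Mathlib.RingTheory.Polynomial.Quotient
import Mathlib.RingTheory.AdjoinRoot
import Mathlib.LinearAlgebra.Dual.Lemmas
import Mathlib.LinearAlgebra.FreeModule.PID
import Mathlib.RingTheory.DiscreteValuationRing.Basic
import Mathlib.RingTheory.Finiteness.Basic

/-!
# Modules over `R[X]/(X^n)`: duality with `R`
-/

universe u v w

open Polynomial

namespace Groth.Agent.H25.MultCrv

variable {R : Type u} [CommRing R] {n : ℕ}


lemma z_pow_n : (_root_.MultCrv.z R n) ^ n = 0 := by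
  rw [← map_pow, Ideal.Quotient.eq_zero_iff_mem]
  exact Ideal.mem_span_singleton_self _

lemma z_pow_eq_zero {j : ℕ} (h : n ≤ j) : (_root_.MultCrv.z R n) ^ j = 0 := by
  obtain ⟨d, rfl⟩ := Nat.exists_eq_add_of_le h
  rw [pow_add, z_pow_n, zero_mul]

instance free_Rn : Module.Free R (_root_.MultCrv.Rn R n) := (monic_X_pow n).free_quotient

instance finite_Rn : Module.Finite R (_root_.MultCrv.Rn R n) := (monic_X_pow n).finite_quotient

/-- The `j`-th coefficient, for `j < n`. -/
noncomputable def coeffAt (j : ℕ) (hj : j < n) : (_root_.MultCrv.Rn R n) →ₗ[R] R :=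
  (Submodule.liftQ ((Ideal.span {(X : R[X]) ^ n}).restrictScalars R) (Polynomial.lcoeff R j) (fun p hp => by
      obtain ⟨q, rfl⟩ := Ideal.mem_span_singleton.mp (Submodule.restrictScalars_mem R _ _ |>.mp hp)
      rw [LinearMap.mem_ker, lcoeff_apply, X_pow_mul, coeff_mul_X_pow', if_neg (by omega)])).comp
    (Submodule.Quotient.restrictScalarsEquiv R (Ideal.span {(X : R[X]) ^ n})).symm.toLinearMap

lemma coeffAt_mk (j : ℕ) (hj : j < n) (p : R[X]) :
    coeffAt j hj (Ideal.Quotient.mk _ p) = p.coeff j := rfl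

lemma coeffAt_z_pow_mul (j i : ℕ) (hj : j < n) (a : (_root_.MultCrv.Rn R n)) :
    coeffAt j hj ((_root_.MultCrv.z R n) ^ i * a) = if h : i ≤ j then coeffAt (j - i) (by omega) a else 0 := by
  obtain ⟨p, rfl⟩ := Ideal.Quotient.mk_surjective a
  rw [← map_pow, ← map_mul, coeffAt_mk, X_pow_mul, coeff_mul_X_pow']
  split_ifs with h <;> rfl

lemma ext_coeff {a b : (_root_.MultCrv.Rn R n)} (h : ∀ j (hj : j < n), coeffAt j hj a = coeffAt j hj b) : a = b := by
  obtain ⟨p, rfl⟩ := Ideal.Quotient.mk_surjective a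
  obtain ⟨q, rfl⟩ := Ideal.Quotient.mk_surjective b
  rw [Ideal.Quotient.mk_eq_mk_iff_sub_mem, Ideal.mem_span_singleton, X_pow_dvd_iff]
  intro j hj
  rw [coeff_sub, sub_eq_zero]
  exact h j hj

lemma coeffAt_sum (c : ℕ → R) (j : ℕ) (hj : j < n) :
    coeffAt j hj (∑ i ∈ Finset.range n, c i • (_root_.MultCrv.z R n) ^ i) = c j := by
  rw [map_sum, Finset.sum_eq_single j]
  · rw [map_smul, ← mul_one ((_root_.MultCrv.z R n) ^ j), coeffAt_z_pow_mul, dif_pos le_rfl]
    rw [show (1 : (_root_.MultCrv.Rn R n)) = Ideal.Quotient.mk _ 1 from rfl, coeffAt_mk, Nat.sub_self, coeff_one_zero,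
      smul_eq_mul, mul_one]
  · intro i _ hij
    rw [map_smul, ← mul_one ((_root_.MultCrv.z R n) ^ i), coeffAt_z_pow_mul]
    split_ifs with h
    · rw [show (1 : (_root_.MultCrv.Rn R n)) = Ideal.Quotient.mk _ 1 from rfl, coeffAt_mk, coeff_one,
        if_neg (by omega), smul_zero]
    · rw [smul_zero]
  · exact fun h => absurd (Finset.mem_range.mpr hj) h

lemma eq_sum (a : (_root_.MultCrv.Rn R n)) : a = ∑ j ∈ (Finset.range n).attach, coeffAt j.1 (Finset.mem_range.mp j.2) a • (_root_.MultCrv.z R n) ^ j.1 := by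
  refine ext_coeff fun j hj => ?_
  have := coeffAt_sum (n := n) (fun i => if h : i < n then coeffAt i h a else 0) j hj
  rw [dif_pos hj] at this
  refine this.symm.trans (congrArg _ ?_)
  rw [← Finset.sum_attach (Finset.range n)]
  exact Finset.sum_congr rfl fun i _ => by rw [dif_pos (Finset.mem_range.mp i.2)]

variable {M : Type v} [AddCommGroup M] [Module (_root_.MultCrv.Rn R n) M]

/-- (_root_.MultCrv.Rn R n) map commuting with `z` and the scalars from `R` is linear. -/
lemma map_smul_of_z {N : Type w} [AddCommGroup N] [Module (_root_.MultCrv.Rn R n) N] [Module R M] [IsScalarTower R (_root_.MultCrv.Rn R n) M]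
    [Module R N] [IsScalarTower R (_root_.MultCrv.Rn R n) N] (φ : M →ₗ[R] N) (h : ∀ m, φ ((_root_.MultCrv.z R n) • m) = (_root_.MultCrv.z R n) • φ m) (a : (_root_.MultCrv.Rn R n)) (m : M) :
    φ (a • m) = a • φ m := by
  have hp : ∀ i : ℕ, ∀ m, φ ((_root_.MultCrv.z R n) ^ i • m) = (_root_.MultCrv.z R n) ^ i • φ m := by
    intro i
    induction i with
    | zero => simp
    | succ i ih => intro m; rw [pow_succ, mul_smul, ih, h, ← mul_smul]
  rw [eq_sum a, Finset.sum_smul, Finset.sum_smul, map_sum]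
  exact Finset.sum_congr rfl fun i _ => by rw [smul_assoc, map_smul, hp, smul_assoc]

variable [Module R M] [IsScalarTower R (_root_.MultCrv.Rn R n) M]

/-- Top coefficient. -/
noncomputable def eps (hn : 1 ≤ n) : (_root_.MultCrv.Rn R n) →ₗ[R] R := coeffAt (n - 1) (by omega)

lemma eps_z_pow_mul (hn : 1 ≤ n) (j : ℕ) (hj : j < n) (a : (_root_.MultCrv.Rn R n)) :
    eps hn ((_root_.MultCrv.z R n) ^ (n - 1 - j) * a) = coeffAt j hj a := by
  rw [eps, coeffAt_z_pow_mul, dif_pos (by omega)]
  congr 2
  omega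

/-- The `(_root_.MultCrv.Rn R n)`-linear form attached to an `R`-linear form. -/
noncomputable def toA (f : M →ₗ[R] R) : M →ₗ[R] (_root_.MultCrv.Rn R n) :=
  ∑ j ∈ Finset.range n, (LinearMap.toSpanSingleton R (_root_.MultCrv.Rn R n) ((_root_.MultCrv.z R n) ^ j)) ∘ₗ f ∘ₗ
    ((_root_.MultCrv.z R n) ^ (n - 1 - j) • (LinearMap.id : M →ₗ[R] M))

lemma toA_apply (f : M →ₗ[R] R) (m : M) :
    toA (n := n) f m = ∑ j ∈ Finset.range n, f ((_root_.MultCrv.z R n) ^ (n - 1 - j) • m) • (_root_.MultCrv.z R n) ^ j := by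
  simp [toA, LinearMap.sum_apply]

lemma coeffAt_toA (f : M →ₗ[R] R) (m : M) (j : ℕ) (hj : j < n) :
    coeffAt j hj (toA (n := n) f m) = f ((_root_.MultCrv.z R n) ^ (n - 1 - j) • m) := by
  rw [toA_apply]
  exact coeffAt_sum (n := n) (fun i => f ((_root_.MultCrv.z R n) ^ (n - 1 - i) • m)) j hj

lemma toA_z (f : M →ₗ[R] R) (m : M) : toA (n := n) f ((_root_.MultCrv.z R n) • m) = (_root_.MultCrv.z R n) • toA (n := n) f m := by
  refine ext_coeff fun j hj => ?_
  rw [coeffAt_toA, smul_eq_mul, ← mul_smul, ← pow_succ]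
  conv_rhs => rw [← pow_one (_root_.MultCrv.z R n), coeffAt_z_pow_mul]
  split_ifs with h
  · rw [coeffAt_toA, show n - 1 - j + 1 = n - 1 - (j - 1) by omega]
  · rw [z_pow_eq_zero (by omega)]
    exact (congrArg f (zero_smul (_root_.MultCrv.Rn R n) m)).trans (map_zero f)

/-- `Hom_A(M, (_root_.MultCrv.Rn R n)) ≅ Hom_R(M, R)`. -/
noncomputable def dualEquiv (hn : 1 ≤ n) : Module.Dual (_root_.MultCrv.Rn R n) M ≃ₗ[R] Module.Dual R M where
  toFun φ := eps hn ∘ₗ φ.restrictScalars R
  map_add' φ ψ := by ext m; simp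
  map_smul' r φ := by ext m; simp
  invFun f :=
    { toFun := toA f
      map_add' := map_add _
      map_smul' := fun a m => map_smul_of_z (toA f) (toA_z f) a m }
  left_inv φ := by
    ext m
    refine ext_coeff fun j hj => ?_
    change coeffAt j hj (toA (eps hn ∘ₗ φ.restrictScalars R) m) = _
    rw [coeffAt_toA, LinearMap.comp_apply, LinearMap.restrictScalars_apply, map_smul, smul_eq_mul,
      eps_z_pow_mul hn j hj]
  right_inv f := by
    ext m
    change eps hn (toA f m) = f m
    rw [eps, coeffAt_toA, Nat.sub_self, pow_zero, one_smul]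

lemma dualEquiv_apply (hn : 1 ≤ n) (φ : Module.Dual (_root_.MultCrv.Rn R n) M) (m : M) :
    dualEquiv hn φ m = eps hn (φ m) := rfl

lemma dualMap_surjective_iff (hn : 1 ≤ n) {M' : Type w} [AddCommGroup M'] [Module (_root_.MultCrv.Rn R n) M'] [Module R M']
    [IsScalarTower R (_root_.MultCrv.Rn R n) M'] (f : M' →ₗ[(_root_.MultCrv.Rn R n)] M) :
    Function.Surjective f.dualMap ↔ Function.Surjective (f.restrictScalars R).dualMap := by
  have key : ∀ φ : Module.Dual (_root_.MultCrv.Rn R n) M, dualEquiv hn (f.dualMap φ) =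
      (f.restrictScalars R).dualMap (dualEquiv hn φ) := fun φ => rfl
  constructor
  · intro h g
    obtain ⟨φ, hφ⟩ := h ((dualEquiv hn).symm g)
    exact ⟨dualEquiv hn φ, by rw [← key, hφ, LinearEquiv.apply_symm_apply]⟩
  · intro h φ
    obtain ⟨g, hg⟩ := h (dualEquiv hn φ)
    exact ⟨(dualEquiv hn).symm g, (dualEquiv hn).injective (by rw [key, LinearEquiv.apply_symm_apply, hg])⟩

lemma isReflexive_iff (hn : 1 ≤ n) : Module.IsReflexive (_root_.MultCrv.Rn R n) M ↔ Module.IsReflexive R M := by
  let E : Module.Dual (_root_.MultCrv.Rn R n) (Module.Dual (_root_.MultCrv.Rn R n) M) ≃ₗ[R] Module.Dual R (Module.Dual R M) :=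
    (dualEquiv hn).trans (dualEquiv hn).symm.dualMap
  have key : ∀ m, E (Module.Dual.eval (_root_.MultCrv.Rn R n) M m) = Module.Dual.eval R M m := by
    intro m
    refine LinearMap.ext fun f => ?_
    exact LinearMap.congr_fun ((dualEquiv hn).apply_symm_apply f) m
  have hfun : (E : _ → _) ∘ Module.Dual.eval (_root_.MultCrv.Rn R n) M = Module.Dual.eval R M := funext key
  constructor <;> intro h <;> refine ⟨?_⟩
  · rw [← hfun]; exact E.bijective.comp h.bijective_dual_eval'
  · have h2 := h.bijective_dual_eval'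
    rw [← hfun] at h2
    exact (Function.Bijective.of_comp_iff' E.bijective _).mp h2

variable [IsDomain R] [IsPrincipalIdealRing R]

omit [IsDomain R] [IsPrincipalIdealRing R] in
theorem finite_R [Module.Finite (_root_.MultCrv.Rn R n) M] : Module.Finite R M :=
  Module.Finite.trans (_root_.MultCrv.Rn R n) M

omit [IsScalarTower R (_root_.MultCrv.Rn R n) M] [IsDomain R] [IsPrincipalIdealRing R] in
lemma surjective_dualMap_of_quot_free {M' M'' : Type*} [AddCommGroup M'] [Module R M'] [AddCommGroup M'']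
    [Module R M''] [Module.Free R M''] (f : M' →ₗ[R] M) (g : M →ₗ[R] M'') (hf : Function.Injective f)
    (hg : Function.Surjective g) (hfg : LinearMap.range f = LinearMap.ker g) :
    Function.Surjective f.dualMap := by
  obtain ⟨s, hs⟩ := Module.projective_lifting_property g LinearMap.id hg
  intro φ
  have hmem : ∀ m, m - s (g m) ∈ LinearMap.range f := fun m => by
    rw [hfg, LinearMap.mem_ker, map_sub]
    exact sub_eq_zero.mpr (LinearMap.congr_fun hs (g m)).symm
  let p : M →ₗ[R] LinearMap.range f := (LinearMap.id - s ∘ₗ g).codRestrict _ hmem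
  refine ⟨φ ∘ₗ (LinearEquiv.ofInjective f hf).symm.toLinearMap ∘ₗ p, LinearMap.ext fun m' => ?_⟩
  simp only [LinearMap.dualMap_apply, LinearMap.comp_apply]
  congr 1
  rw [LinearEquiv.coe_toLinearMap, LinearEquiv.symm_apply_eq]
  ext
  have : g (f m') = 0 := LinearMap.mem_ker.mp (hfg ▸ LinearMap.mem_range_self f m')
  simp [p, this]

omit [IsScalarTower R (_root_.MultCrv.Rn R n) M] in
lemma free_of_injective {N : Type*} [AddCommGroup N] [Module R N] [Module.IsTorsionFree R M]
    [Module.Finite R M] (f : N →ₗ[R] M) (hf : Function.Injective f) : Module.Free R N := by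
  have : Module.Finite R N := Module.Finite.of_injective f hf
  have : Module.IsTorsionFree R N := hf.moduleIsTorsionFree f f.map_smul
  exact Module.free_of_finite_type_torsion_free'

lemma torsionFree_iff_reflexive [Module.Finite R M] :
    Module.IsReflexive R M ↔ Module.IsTorsionFree R M := by
  constructor
  · intro h
    exact h.bijective_dual_eval'.injective.moduleIsTorsionFree _ (Module.Dual.eval R M).map_smul
  · intro h
    infer_instance

theorem isReflexive_iff_torsionFree (hn : 1 ≤ n) [Module.Finite (_root_.MultCrv.Rn R n) M] :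
    Module.IsReflexive (_root_.MultCrv.Rn R n) M ↔ Module.IsTorsionFree R M :=
  have : Module.Finite R M := finite_R (n := n)
  (isReflexive_iff hn).trans torsionFree_iff_reflexive

theorem dualMap_surjective (hn : 1 ≤ n) [Module.Finite (_root_.MultCrv.Rn R n) M] {M' : Type*} [AddCommGroup M'] [Module (_root_.MultCrv.Rn R n) M']
    [Module R M'] [IsScalarTower R (_root_.MultCrv.Rn R n) M'] {M'' : Type*}
    [AddCommGroup M''] [Module (_root_.MultCrv.Rn R n) M''] [Module R M''] [IsScalarTower R (_root_.MultCrv.Rn R n) M''] [Module.Finite (_root_.MultCrv.Rn R n) M'']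
    [Module.IsTorsionFree R M''] (f : M' →ₗ[(_root_.MultCrv.Rn R n)] M) (g : M →ₗ[(_root_.MultCrv.Rn R n)] M'') (hf : Function.Injective f)
    (hg : Function.Surjective g) (hfg : LinearMap.range f = LinearMap.ker g) :
    Function.Surjective f.dualMap := by
  rw [dualMap_surjective_iff hn]
  have : Module.Finite R M'' := finite_R (n := n)
  have : Module.Free R M'' := Module.free_of_finite_type_torsion_free'
  refine surjective_dualMap_of_quot_free (f.restrictScalars R) (g.restrictScalars R) hf hg ?_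
  ext m
  exact SetLike.ext_iff.mp hfg m

/-- `z^(n-1)` on an `R`-free module factors through a finite free module. -/
theorem z_pow_factor [Module.Finite (_root_.MultCrv.Rn R n) M] [Module.IsTorsionFree R M] :
    ∃ (s : ℕ) (u : M →ₗ[(_root_.MultCrv.Rn R n)] (Fin s → (_root_.MultCrv.Rn R n))) (v : (Fin s → (_root_.MultCrv.Rn R n)) →ₗ[(_root_.MultCrv.Rn R n)] M), ∀ m, v (u m) = (_root_.MultCrv.z R n) ^ (n - 1) • m := by
  have : Module.Finite R M := finite_R (n := n)
  let T : M →ₗ[R] M := ((_root_.MultCrv.z R n) ^ (n - 1)) • (LinearMap.id : M →ₗ[R] M)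
  let L := LinearMap.range T
  have : Module.IsTorsionFree R L := L.injective_subtype.moduleIsTorsionFree _ L.subtype.map_smul
  have : Module.Free R L := Module.free_of_finite_type_torsion_free'
  let b := Module.finBasis R L
  choose m hm using fun s => (b s).2
  have hz0 : (_root_.MultCrv.z R n) * (_root_.MultCrv.z R n) ^ (n - 1) = 0 := by rw [← pow_succ']; exact z_pow_eq_zero (by omega)
  let u : M →ₗ[R] (Fin (Module.finrank R L) → (_root_.MultCrv.Rn R n)) :=
    LinearMap.pi fun s => (LinearMap.toSpanSingleton R (_root_.MultCrv.Rn R n) ((_root_.MultCrv.z R n) ^ (n - 1))) ∘ₗ b.coord s ∘ₗ T.rangeRestrict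
  have hu : ∀ m, u ((_root_.MultCrv.z R n) • m) = (_root_.MultCrv.z R n) • u m := by
    intro m
    have h0 : T.rangeRestrict ((_root_.MultCrv.z R n) • m) = 0 := Subtype.ext (by
      change (_root_.MultCrv.z R n) ^ (n - 1) • (_root_.MultCrv.z R n) • m = 0
      rw [← mul_smul, mul_comm, hz0]
      exact zero_smul (_root_.MultCrv.Rn R n) m)
    funext s
    simp only [u, LinearMap.pi_apply, LinearMap.comp_apply, h0, map_zero, Pi.smul_apply,
      LinearMap.toSpanSingleton_apply, smul_eq_mul, mul_smul_comm, hz0, smul_zero]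
  refine ⟨_, { toFun := u, map_add' := map_add u, map_smul' := fun a x => map_smul_of_z u hu a x },
    Fintype.linearCombination (_root_.MultCrv.Rn R n) m, fun x => ?_⟩
  change Fintype.linearCombination (_root_.MultCrv.Rn R n) m (u x) = _
  have hx := congrArg Subtype.val (b.sum_repr (T.rangeRestrict x))
  rw [Submodule.coe_sum] at hx
  refine Eq.trans ?_ hx
  rw [Fintype.linearCombination_apply]
  refine Finset.sum_congr rfl fun s _ => ?_
  simp only [u, LinearMap.pi_apply, LinearMap.comp_apply, LinearMap.toSpanSingleton_apply, smul_assoc,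
    Submodule.coe_smul, ← hm s]
  rfl

end Groth.Agent.H25.MultCrv
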