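import Groth.Agent.H25.MultCrv
import Mathlib.Algebra.Category.ModuleCat.Ext.HasExt
import Mathlib.Algebra.Homology.DerivedCategory.Ext.Linear
import Mathlib.Algebra.Homology.DerivedCategory.Ext.ExactSequences
import Mathlib.Algebra.Homology.ShortComplex.ModuleCat

/-!
# Ext over `R[X]/(X^n)`
-/

universe u

open CategoryTheory Polynomial

namespace Groth.Agent.H25.MultCrv

section General

variable {A : Type u} [CommRing A] {S : ShortComplex (ModuleCat.{u} A)}

lemma eq_extClass_comp (hS : S.ShortExact) [Projective S.X₂] {Y : ModuleCat.{u} A} {n₀ n₁ : ℕ}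
    (h : 1 + n₀ = n₁) (x : Abelian.Ext S.X₃ Y n₁) :
    ∃ x₁ : Abelian.Ext S.X₁ Y n₀, hS.extClass.comp x₁ h = x := by
  refine Abelian.Ext.contravariant_sequence_exact₃ hS Y x ?_ h
  obtain ⟨j, rfl⟩ : ∃ j, n₁ = j + 1 := ⟨n₀, by omega⟩
  exact Abelian.Ext.eq_zero_of_projective _

lemma smul_ext_eq_zero_of_factor {M N P : ModuleCat.{u} A} [Projective P] (r : A) (u : M ⟶ P) (v : P ⟶ M)
    (huv : u ≫ v = r • 𝟙 M) {i : ℕ} (hi : 1 ≤ i) (x : Abelian.Ext M N i) : r • x = 0 := by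
  obtain ⟨j, rfl⟩ := Nat.exists_eq_add_of_le' hi
  have h1 : r • x = (Abelian.Ext.mk₀ (r • 𝟙 M)).comp x (zero_add _) := by
    rw [Abelian.Ext.mk₀_smul, Abelian.Ext.smul_comp, Abelian.Ext.mk₀_id_comp]
  rw [h1, ← huv, ← Abelian.Ext.mk₀_comp_mk₀_assoc, Abelian.Ext.eq_zero_of_projective
    ((Abelian.Ext.mk₀ v).comp x (zero_add _)), Abelian.Ext.comp_zero]

end General

variable {R : Type u} [CommRing R] [IsDomain R] [IsPrincipalIdealRing R] {n : ℕ}

section Cover

variable {M : Type u} [AddCommGroup M] [Module (_root_.MultCrv.Rn R n) M]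
  [Module.Finite (_root_.MultCrv.Rn R n) M]

instance isNoetherian_Rn : IsNoetherianRing (_root_.MultCrv.Rn R n) :=
  inferInstance

omit [IsDomain R] [IsPrincipalIdealRing R] in
lemma torsionFree_pi (s : ℕ) : Module.IsTorsionFree R (Fin s → _root_.MultCrv.Rn R n) :=
  inferInstance

omit [IsDomain R] in
lemma exists_cover : ∃ (s : ℕ) (π : (Fin s → _root_.MultCrv.Rn R n) →ₗ[_root_.MultCrv.Rn R n] M),
    Function.Surjective π ∧ Module.IsTorsionFree R (LinearMap.ker π) ∧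
      Module.Finite (_root_.MultCrv.Rn R n) (LinearMap.ker π) := by
  obtain ⟨s, π, hπ⟩ := Module.Finite.exists_fin' (_root_.MultCrv.Rn R n) M
  have := torsionFree_pi (R := R) (n := n) s
  exact ⟨s, π, hπ, (LinearMap.ker π).injective_subtype.moduleIsTorsionFree _ (fun _ _ => rfl),
    inferInstance⟩

end Cover

omit [IsDomain R] [IsPrincipalIdealRing R] in
lemma shortExact_cover {M : Type u} [AddCommGroup M] [Module (_root_.MultCrv.Rn R n) M] {s : ℕ}
    (π : (Fin s → _root_.MultCrv.Rn R n) →ₗ[_root_.MultCrv.Rn R n] M) (hπ : Function.Surjective π) :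
    π.shortComplexKer.ShortExact ∧ Projective π.shortComplexKer.X₂ :=
  ⟨LinearMap.shortExact_shortComplexKer hπ,
    (IsProjective.iff_projective (R := _root_.MultCrv.Rn R n) (Fin s → _root_.MultCrv.Rn R n)).mp inferInstance⟩

theorem ext_eq_zero_of_torsionFree (hn : 1 ≤ n) : ∀ (i : ℕ) (M : Type u) [AddCommGroup M]
    [Module (_root_.MultCrv.Rn R n) M] [Module R M] [IsScalarTower R (_root_.MultCrv.Rn R n) M]
    [Module.Finite (_root_.MultCrv.Rn R n) M] [Module.IsTorsionFree R M]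
    (x : Abelian.Ext (ModuleCat.of (_root_.MultCrv.Rn R n) M)
      (ModuleCat.of (_root_.MultCrv.Rn R n) (_root_.MultCrv.Rn R n)) (i + 1)), x = 0
  | 0, M, _, _, _, _, _, _, x => by
    obtain ⟨s, π, hπ, hK, hKfin⟩ := exists_cover (R := R) (n := n) (M := M)
    obtain ⟨hS, hP⟩ := shortExact_cover π hπ
    obtain ⟨x₁, rfl⟩ := eq_extClass_comp hS (add_zero 1) x
    obtain ⟨φ, rfl⟩ := (Abelian.Ext.mk₀_bijective _ _).2 x₁
    obtain ⟨ψ, hψ⟩ := dualMap_surjective hn (LinearMap.ker π).subtype π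
      (LinearMap.ker π).injective_subtype hπ (Submodule.range_subtype _) φ.hom
    have : φ = π.shortComplexKer.f ≫ ModuleCat.ofHom ψ := ModuleCat.hom_ext hψ.symm
    rw [this, ← Abelian.Ext.mk₀_comp_mk₀]
    exact hS.extClass_comp_assoc _
  | i + 1, M, _, _, _, _, _, _, x => by
    obtain ⟨s, π, hπ, hK, hKfin⟩ := exists_cover (R := R) (n := n) (M := M)
    obtain ⟨hS, hP⟩ := shortExact_cover π hπ
    obtain ⟨x₁, rfl⟩ := eq_extClass_comp hS (show 1 + (i + 1) = i + 1 + 1 by omega) x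
    rw [show x₁ = 0 from ext_eq_zero_of_torsionFree hn i (LinearMap.ker π) x₁, Abelian.Ext.comp_zero]

theorem ext_eq_zero (hn : 1 ≤ n) (M : Type u) [AddCommGroup M]
    [Module (_root_.MultCrv.Rn R n) M] [Module.Finite (_root_.MultCrv.Rn R n) M] (i : ℕ)
    (x : Abelian.Ext (ModuleCat.of (_root_.MultCrv.Rn R n) M)
      (ModuleCat.of (_root_.MultCrv.Rn R n) (_root_.MultCrv.Rn R n)) (i + 2)) : x = 0 := by
  obtain ⟨s, π, hπ, hK, hKfin⟩ := exists_cover (R := R) (n := n) (M := M)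
  obtain ⟨hS, hP⟩ := shortExact_cover π hπ
  obtain ⟨x₁, rfl⟩ := eq_extClass_comp hS (show 1 + (i + 1) = i + 2 by omega) x
  rw [show x₁ = 0 from ext_eq_zero_of_torsionFree hn i (LinearMap.ker π) x₁, Abelian.Ext.comp_zero]

theorem torsionFree_of_ext_eq_zero (hn : 1 ≤ n) (M : Type u) [AddCommGroup M]
    [Module (_root_.MultCrv.Rn R n) M] [Module R M] [IsScalarTower R (_root_.MultCrv.Rn R n) M]
    [Module.Finite (_root_.MultCrv.Rn R n) M]
    (h : Subsingleton (Abelian.Ext (ModuleCat.of (_root_.MultCrv.Rn R n) M)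
      (ModuleCat.of (_root_.MultCrv.Rn R n) (_root_.MultCrv.Rn R n)) 1)) : Module.IsTorsionFree R M := by
  obtain ⟨s, π, hπ, hK, hKfin⟩ := exists_cover (R := R) (n := n) (M := M)
  obtain ⟨hS, hP⟩ := shortExact_cover π hπ
  let K := LinearMap.ker π
  have hsurj : Function.Surjective K.subtype.dualMap := fun φ => by
    obtain ⟨x₂, hx₂⟩ := Abelian.Ext.contravariant_sequence_exact₁ hS _
      (Abelian.Ext.mk₀ (ModuleCat.ofHom φ : ModuleCat.of _ K ⟶ _)) (add_zero 1) (Subsingleton.elim _ _)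
    obtain ⟨ψ, rfl⟩ := (Abelian.Ext.mk₀_bijective _ _).2 x₂
    rw [Abelian.Ext.mk₀_comp_mk₀] at hx₂
    exact ⟨ψ.hom, congrArg ModuleCat.Hom.hom ((Abelian.Ext.mk₀_bijective _ _).1 hx₂)⟩
  rw [dualMap_surjective_iff hn] at hsurj
  have : Module.Finite R K := finite_R (n := n)
  have : Module.Free R K := Module.free_of_finite_type_torsion_free'
  let b := Module.finBasis R K
  choose g hg using fun t => hsurj (b.coord t)
  let p : (Fin s → _root_.MultCrv.Rn R n) →ₗ[R] K :=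
    b.equivFun.symm.toLinearMap ∘ₗ LinearMap.pi g
  have hp : ∀ k : K, p (k : Fin s → _root_.MultCrv.Rn R n) = k := fun k => by
    refine b.equivFun.injective ?_
    rw [LinearMap.comp_apply, LinearEquiv.coe_toLinearMap, LinearEquiv.apply_symm_apply]
    funext t
    exact LinearMap.congr_fun (hg t) k
  have := torsionFree_pi (R := R) (n := n) s
  refine ⟨fun r hr m₁ m₂ hm => ?_⟩
  obtain ⟨y, hy⟩ := hπ (m₁ - m₂)
  have hm' : r • m₁ = r • m₂ := hm
  have h1 : r • y ∈ K := by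
    rw [LinearMap.mem_ker, LinearMap.map_smul_of_tower, hy, smul_sub, hm', sub_self]
  have h2 : r • (p y : Fin s → _root_.MultCrv.Rn R n) = r • y := by
    have := congrArg Subtype.val (hp ⟨r • y, h1⟩)
    simpa using this
  have h3 : y ∈ K := (hr.isSMulRegular (M := Fin s → _root_.MultCrv.Rn R n)) h2 ▸ (p y).2
  rw [LinearMap.mem_ker, hy, sub_eq_zero] at h3
  exact h3

theorem z_pow_smul_ext_eq_zero (M N : Type u) [AddCommGroup M]
    [Module (_root_.MultCrv.Rn R n) M] [Module R M] [IsScalarTower R (_root_.MultCrv.Rn R n) M]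
    [Module.Finite (_root_.MultCrv.Rn R n) M] [Module.IsTorsionFree R M] [AddCommGroup N]
    [Module (_root_.MultCrv.Rn R n) N] {i : ℕ} (hi : 1 ≤ i)
    (x : Abelian.Ext (ModuleCat.of (_root_.MultCrv.Rn R n) M) (ModuleCat.of (_root_.MultCrv.Rn R n) N) i) :
    (_root_.MultCrv.z R n ^ (n - 1)) • x = 0 := by
  obtain ⟨s, u, v, huv⟩ := z_pow_factor (R := R) (n := n) (M := M)
  have : Projective (ModuleCat.of (_root_.MultCrv.Rn R n) (Fin s → _root_.MultCrv.Rn R n)) :=
    (IsProjective.iff_projective (R := _root_.MultCrv.Rn R n) (Fin s → _root_.MultCrv.Rn R n)).mp inferInstance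
  exact smul_ext_eq_zero_of_factor _ (ModuleCat.ofHom u) (ModuleCat.ofHom v)
    (ModuleCat.hom_ext (LinearMap.ext huv)) hi x

theorem z_pow_smul_ext_eq_zero' (M N : Type u) [AddCommGroup M]
    [Module (_root_.MultCrv.Rn R n) M] [Module.Finite (_root_.MultCrv.Rn R n) M] [AddCommGroup N]
    [Module (_root_.MultCrv.Rn R n) N] {i : ℕ} (hi : 2 ≤ i)
    (x : Abelian.Ext (ModuleCat.of (_root_.MultCrv.Rn R n) M) (ModuleCat.of (_root_.MultCrv.Rn R n) N) i) :
    (_root_.MultCrv.z R n ^ (n - 1)) • x = 0 := by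
  obtain ⟨j, rfl⟩ := Nat.exists_eq_add_of_le' hi
  obtain ⟨s, π, hπ, hK, hKfin⟩ := exists_cover (R := R) (n := n) (M := M)
  obtain ⟨hS, hP⟩ := shortExact_cover π hπ
  obtain ⟨x₁, rfl⟩ := eq_extClass_comp hS (show 1 + (j + 1) = j + 2 by omega) x
  have h0 : (_root_.MultCrv.z R n ^ (n - 1)) • x₁ = 0 :=
    z_pow_smul_ext_eq_zero (LinearMap.ker π) N (by omega) x₁
  rw [← Abelian.Ext.comp_smul, h0, Abelian.Ext.comp_zero]

end Groth.Agent.H25.MultCrv
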