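import Groth.Agent.H25.MultCrv
import Mathlib.LinearAlgebra.Dimension.RankNullity
import Mathlib.LinearAlgebra.Dimension.Localization

/-!
# Graded pieces of modules over `R[X]/(X^n)`
-/

universe u v

open Polynomial

namespace Groth.Agent.H25.MultCrv

lemma rank_nullity {R : Type u} [CommRing R] [IsDomain R] {M : Type u} [AddCommGroup M] [Module R M]
    [Module.Finite R M] (f : M →ₗ[R] M) :
    Module.finrank R (LinearMap.range f) + Module.finrank R (LinearMap.ker f) = Module.finrank R M := by
  rw [← LinearEquiv.finrank_eq f.quotKerEquivRange]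
  exact Submodule.finrank_quotient_add_finrank _

variable {R : Type u} [CommRing R] [IsDomain R] [IsPrincipalIdealRing R] {n : ℕ}
  {M : Type u} [AddCommGroup M] [Module (_root_.MultCrv.Rn R n) M] [Module R M]
  [IsScalarTower R (_root_.MultCrv.Rn R n) M] [Module.Finite (_root_.MultCrv.Rn R n) M]

lemma finrank_quot_comap (P Q : Submodule (_root_.MultCrv.Rn R n) M) (h : P ≤ Q) :
    Module.finrank R (↥Q ⧸ Submodule.comap Q.subtype P) + Module.finrank R P = Module.finrank R Q := by
  have : Module.Finite R M := finite_R (n := n)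
  have : Module.Finite R Q := Module.Finite.of_injective (Q.subtype.restrictScalars R) Q.injective_subtype
  let P' : Submodule R Q := (Submodule.comap Q.subtype P).restrictScalars R
  have h1 : Module.finrank R P' = Module.finrank R P :=
    ((Submodule.comapSubtypeEquivOfLe h).restrictScalars R).finrank_eq
  rw [← (Submodule.Quotient.restrictScalarsEquiv R (Submodule.comap Q.subtype P)).finrank_eq, ← h1]
  exact Submodule.finrank_quotient_add_finrank P'

omit [IsPrincipalIdealRing R] in
lemma finrank_filt_add (i : ℕ) :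
    Module.finrank R (_root_.MultCrv.filt R n M i) + Module.finrank R (_root_.MultCrv.filt2 R n M i) =
      Module.finrank R M := by
  have : Module.Finite R M := finite_R (n := n)
  let T : M →ₗ[_root_.MultCrv.Rn R n] M := (_root_.MultCrv.z R n ^ i) • LinearMap.id
  let e1 : LinearMap.range (T.restrictScalars R) ≃ₗ[R] _root_.MultCrv.filt R n M i :=
    { toFun := fun x => ⟨x.1, x.2⟩
      invFun := fun x => ⟨x.1, x.2⟩
      map_add' := fun _ _ => rfl
      map_smul' := fun _ _ => rfl }
  let e2 : LinearMap.ker (T.restrictScalars R) ≃ₗ[R] _root_.MultCrv.filt2 R n M i :=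
    { toFun := fun x => ⟨x.1, x.2⟩
      invFun := fun x => ⟨x.1, x.2⟩
      map_add' := fun _ _ => rfl
      map_smul' := fun _ _ => rfl }
  have h1 := rank_nullity (T.restrictScalars R)
  rwa [e1.finrank_eq, e2.finrank_eq] at h1

omit [IsDomain R] [IsPrincipalIdealRing R] [Module R M] [IsScalarTower R (_root_.MultCrv.Rn R n) M]
  [Module.Finite (_root_.MultCrv.Rn R n) M] in
lemma filt_succ_le (i : ℕ) : _root_.MultCrv.filt R n M (i + 1) ≤ _root_.MultCrv.filt R n M i := by
  rintro _ ⟨x, rfl⟩
  exact ⟨_root_.MultCrv.z R n • x, by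
    change _root_.MultCrv.z R n ^ i • _root_.MultCrv.z R n • x = _root_.MultCrv.z R n ^ (i + 1) • x
    rw [← mul_smul, ← pow_succ]⟩

omit [IsDomain R] [IsPrincipalIdealRing R] [Module R M] [IsScalarTower R (_root_.MultCrv.Rn R n) M]
  [Module.Finite (_root_.MultCrv.Rn R n) M] in
lemma filt2_le_succ (i : ℕ) : _root_.MultCrv.filt2 R n M i ≤ _root_.MultCrv.filt2 R n M (i + 1) := by
  intro x hx
  change _root_.MultCrv.z R n ^ (i + 1) • x = 0
  rw [pow_succ', mul_smul, show _root_.MultCrv.z R n ^ i • x = 0 from hx, smul_zero]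

theorem finrank_G2_eq_G1 (i : ℕ) :
    Module.finrank R (_root_.MultCrv.G2 R n M (i + 1)) = Module.finrank R (_root_.MultCrv.G1 R n M i) := by
  have h1 := finrank_quot_comap (R := R) _ _ (filt2_le_succ (R := R) (n := n) (M := M) i)
  have h2 := finrank_quot_comap (R := R) _ _ (filt_succ_le (R := R) (n := n) (M := M) i)
  have h3 := finrank_filt_add (R := R) (n := n) (M := M) i
  have h4 := finrank_filt_add (R := R) (n := n) (M := M) (i + 1)
  have h5 : Module.finrank R (_root_.MultCrv.G2 R n M (i + 1)) + Module.finrank R (_root_.MultCrv.filt2 R n M i) =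
      Module.finrank R (_root_.MultCrv.filt2 R n M (i + 1)) := h1
  have h6 : Module.finrank R (_root_.MultCrv.G1 R n M i) + Module.finrank R (_root_.MultCrv.filt R n M (i + 1)) =
      Module.finrank R (_root_.MultCrv.filt R n M i) := h2
  omega

omit [IsDomain R] [IsPrincipalIdealRing R] [Module R M] [IsScalarTower R (_root_.MultCrv.Rn R n) M]
  [Module.Finite (_root_.MultCrv.Rn R n) M] in
/-- `0 → Γ^(i) → G_i → G_{i+1} → 0`. -/
lemma exists_sequence (i : ℕ) :
    ∃ (ι : _root_.MultCrv.Gam2 R n M i →ₗ[_root_.MultCrv.Rn R n] _root_.MultCrv.G1 R n M i)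
      (μ : _root_.MultCrv.G1 R n M i →ₗ[_root_.MultCrv.Rn R n] _root_.MultCrv.G1 R n M (i + 1)),
      Function.Injective ι ∧ ∀ x, μ x = 0 → x ∈ LinearMap.range ι := by
  let z := _root_.MultCrv.z R n
  let F := _root_.MultCrv.filt R n M
  let D := _root_.MultCrv.filt2 R n M
  let up : D (i + 1) →ₗ[_root_.MultCrv.Rn R n] F i :=
    ((z ^ i • (LinearMap.id : M →ₗ[_root_.MultCrv.Rn R n] M)).rangeRestrict).comp (D (i + 1)).subtype
  let u1 : D (i + 1) →ₗ[_root_.MultCrv.Rn R n] _root_.MultCrv.G1 R n M i := (Submodule.mkQ _).comp up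
  have hu1 : ∀ u, u1 u = 0 ↔ ∃ w : M, z ^ (i + 1) • w = z ^ i • (u : M) := by
    intro u
    refine (Submodule.Quotient.mk_eq_zero _).trans ?_
    rw [Submodule.mem_comap]
    exact Iff.rfl
  have hker1 : Submodule.comap (D (i + 1)).subtype (D (i + 1 - 1)) ≤ LinearMap.ker u1 := by
    intro u hu
    rw [LinearMap.mem_ker, hu1]
    have hu' : z ^ (i + 1 - 1) • (u : M) = 0 := hu
    rw [Nat.add_sub_cancel] at hu'
    exact ⟨0, by rw [smul_zero, hu']⟩
  let u2 : _root_.MultCrv.G2 R n M (i + 1) →ₗ[_root_.MultCrv.Rn R n] _root_.MultCrv.G1 R n M i :=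
    Submodule.liftQ _ u1 hker1
  have hker2 : LinearMap.range (_root_.MultCrv.lamG2 R n M i) ≤ LinearMap.ker u2 := by
    rintro _ ⟨q, rfl⟩
    obtain ⟨v, rfl⟩ := Submodule.Quotient.mk_surjective _ q
    refine (hu1 _).mpr ⟨(v : M), ?_⟩
    change z ^ (i + 1) • (v : M) = z ^ i • z • (v : M)
    rw [← mul_smul, ← pow_succ]
  let ι := Submodule.liftQ _ u2 hker2
  have hle : F (i + 1) ≤ F i := filt_succ_le i
  let dn : F i →ₗ[_root_.MultCrv.Rn R n] F (i + 1) :=
    ((z • (LinearMap.id : M →ₗ[_root_.MultCrv.Rn R n] M)).comp (F i).subtype).codRestrict (F (i + 1)) (fun x => by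
      obtain ⟨w, hw⟩ := x.2
      refine ⟨w, ?_⟩
      change z ^ (i + 1) • w = z • (x : M)
      rw [← hw]
      change z ^ (i + 1) • w = z • z ^ i • w
      rw [← mul_smul, ← pow_succ'])
  let μ : _root_.MultCrv.G1 R n M i →ₗ[_root_.MultCrv.Rn R n] _root_.MultCrv.G1 R n M (i + 1) :=
    Submodule.mapQ _ _ dn (fun x hx => by
      obtain ⟨w, hw⟩ := (show (x : M) ∈ F (i + 1) from hx)
      refine ⟨w, ?_⟩
      change z ^ (i + 1 + 1) • w = z • (x : M)
      rw [← hw]
      change z ^ (i + 1 + 1) • w = z • z ^ (i + 1) • w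
      rw [← mul_smul, ← pow_succ'])
  refine ⟨ι, μ, ?_, fun x hx => ?_⟩
  · rw [← LinearMap.ker_eq_bot]
    refine Submodule.ker_liftQ_eq_bot _ u2 hker2 fun q hq => ?_
    obtain ⟨u, rfl⟩ := Submodule.Quotient.mk_surjective _ q
    obtain ⟨w, hw⟩ := (hu1 u).mp hq
    have hwm : z ^ (i + 2) • w = 0 := by
      have hu : z ^ (i + 1) • (u : M) = 0 := u.2
      rw [pow_succ' z (i + 1), mul_smul, hw, ← mul_smul, ← pow_succ', hu]
    refine ⟨Submodule.Quotient.mk ⟨w, hwm⟩, (Submodule.Quotient.eq _).mpr ?_⟩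
    change z ^ (i + 1 - 1) • (z • w - (u : M)) = 0
    rw [Nat.add_sub_cancel, smul_sub, ← mul_smul, ← pow_succ, hw, sub_self]
  · obtain ⟨⟨y, w, rfl⟩, rfl⟩ := Submodule.Quotient.mk_surjective _ x
    obtain ⟨w', hw'⟩ := (Submodule.Quotient.mk_eq_zero _).mp hx
    have hw'' : z ^ (i + 1 + 1) • w' = z • z ^ i • w := hw'
    have hmem : z ^ (i + 1) • (w - z • w') = 0 := by
      rw [smul_sub, ← mul_smul _ z, ← pow_succ, hw'', ← mul_smul, ← pow_succ', sub_self]
    refine ⟨Submodule.Quotient.mk (Submodule.Quotient.mk ⟨w - z • w', hmem⟩),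
      (Submodule.Quotient.eq _).mpr ⟨-w', ?_⟩⟩
    change z ^ (i + 1) • -w' = z ^ i • (w - z • w') - z ^ i • w
    rw [smul_sub, sub_sub_cancel_left, ← mul_smul, ← pow_succ, smul_neg]

theorem free_G1_iff_free_Gam2 :
    (∀ i : ℕ, i < n → Module.Free R (_root_.MultCrv.G1 R n M i)) ↔
      (∀ i : ℕ, i < n → Module.Free R (_root_.MultCrv.Gam2 R n M i)) := by
  have : Module.Finite R M := finite_R (n := n)
  have : IsNoetherianRing (_root_.MultCrv.Rn R n) := inferInstance
  have hfin : ∀ j, Module.Finite R (_root_.MultCrv.G1 R n M j) := fun j => finite_R (n := n)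
  constructor
  · intro h i hi
    have := h i hi
    obtain ⟨ι, μ, hι, -⟩ := exists_sequence (R := R) (n := n) (M := M) i
    exact free_of_injective (ι.restrictScalars R) hι
  · intro h
    suffices ∀ k i, n ≤ i + k → Module.Free R (_root_.MultCrv.G1 R n M i) from
      fun i _ => this n i (by omega)
    intro k
    induction k with
    | zero =>
      intro i hi
      have : Subsingleton (_root_.MultCrv.G1 R n M i) := by
        refine Submodule.Quotient.subsingleton_iff.mpr (eq_top_iff.mpr ?_)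
        rintro ⟨x, w, rfl⟩ -
        refine ⟨0, ?_⟩
        change _root_.MultCrv.z R n ^ (i + 1) • (0 : M) = _root_.MultCrv.z R n ^ i • w
        rw [smul_zero, z_pow_eq_zero (by omega)]
        exact (zero_smul (_root_.MultCrv.Rn R n) w).symm
      exact Module.Free.of_subsingleton R _
    | succ k ih =>
      intro i hi
      by_cases hin : n ≤ i + k
      · exact ih i hin
      have := h i (by omega)
      have := ih (i + 1) (by omega)
      obtain ⟨ι, μ, hι, hμ⟩ := exists_sequence (R := R) (n := n) (M := M) i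
      have : Module.IsTorsionFree R (_root_.MultCrv.G1 R n M i) := by
        refine ⟨fun r hr x y hxy => ?_⟩
        have h0 : r • (x - y) = 0 := by
          rw [smul_sub, sub_eq_zero]; exact hxy
        have h1 : r • μ (x - y) = r • (0 : _root_.MultCrv.G1 R n M (i + 1)) := by
          rw [← LinearMap.map_smul_of_tower, h0, map_zero, smul_zero]
        obtain ⟨g, hg⟩ := hμ _ (hr.isSMulRegular h1)
        have h2 : r • g = r • (0 : _root_.MultCrv.Gam2 R n M i) := by
          refine hι ?_
          rw [LinearMap.map_smul_of_tower, LinearMap.map_smul_of_tower, hg, h0, map_zero, smul_zero]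
        rw [← sub_eq_zero, ← hg, hr.isSMulRegular h2, map_zero]
      exact Module.free_of_finite_type_torsion_free'

end Groth.Agent.H25.MultCrv
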