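import Groth.Agent.H25.MultCrv
import Mathlib.RingTheory.Nilpotent.Basic

/-!
# Kernels of covers of quasi-free modules
-/

universe u v

open Polynomial

namespace Groth.Agent.H25.MultCrv

section Lift

variable {A : Type u} [CommRing A] (z : A)

lemma bijective_of_sub_one_range_le {F : Type v} [AddCommGroup F] [Module A F] {k : ℕ} (hz : z ^ k = 0)
    (e : F →ₗ[A] F) (h : ∀ x, ∃ y, z • y = e x - x) : Function.Bijective e := by
  let N : Module.End A F := e - 1
  have hN : ∀ (j : ℕ) (x : F), ∃ y, z ^ j • y = (N ^ j) x := by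
    intro j
    induction j with
    | zero => exact fun x => ⟨x, by simp⟩
    | succ j ih =>
      intro x
      obtain ⟨y, hy⟩ := ih x
      obtain ⟨y', hy'⟩ := h y
      refine ⟨y', ?_⟩
      rw [pow_succ' N, Module.End.mul_apply, ← hy, map_smul, show N y = e y - y from rfl, ← hy',
        pow_succ, mul_smul]
  have hnil : N ^ k = 0 := LinearMap.ext fun x => by
    obtain ⟨y, hy⟩ := hN k x
    rw [← hy, hz, zero_smul]
    rfl
  have hu : IsUnit (1 + N) := IsNilpotent.isUnit_one_add ⟨k, hnil⟩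
  rw [show (1 + N) = e from add_sub_cancel 1 e] at hu
  exact (Module.End.isUnit_iff e).mp hu

/-- Two free covers of `M`, both isomorphisms modulo `z`, have isomorphic kernels. -/
lemma nonempty_ker_equiv {P F M : Type v} [AddCommGroup P] [Module A P] [Module.Projective A P]
    [AddCommGroup F] [Module A F] [Module.Projective A F] [AddCommGroup M] [Module A M] {k : ℕ}
    (hz : z ^ k = 0) (φ : P →ₗ[A] M) (hφ : Function.Surjective φ) (hφz : ∀ x, φ x = 0 → ∃ y, z • y = x)
    (ψ : F →ₗ[A] M) (hψ : Function.Surjective ψ) (hψz : ∀ x, ψ x = 0 → ∃ y, z • y = x) :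
    Nonempty (LinearMap.ker φ ≃ₗ[A] LinearMap.ker ψ) := by
  obtain ⟨g, hg⟩ := Module.projective_lifting_property ψ φ hψ
  obtain ⟨h, hh⟩ := Module.projective_lifting_property φ ψ hφ
  have h1 : Function.Bijective (g ∘ₗ h) := bijective_of_sub_one_range_le z hz _ fun x => hψz _ (by
    rw [map_sub, sub_eq_zero]
    exact (LinearMap.congr_fun hg (h x)).trans (LinearMap.congr_fun hh x))
  have h2 : Function.Bijective (h ∘ₗ g) := bijective_of_sub_one_range_le z hz _ fun x => hφz _ (by
    rw [map_sub, sub_eq_zero]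
    exact (LinearMap.congr_fun hh (g x)).trans (LinearMap.congr_fun hg x))
  let G := LinearEquiv.ofBijective g
    ⟨Function.Injective.of_comp (f := h) h2.1, Function.Surjective.of_comp (g := h) h1.2⟩
  refine ⟨G.ofSubmodules (LinearMap.ker φ) (LinearMap.ker ψ) ?_⟩
  ext y
  obtain ⟨x, rfl⟩ := G.surjective y
  rw [Submodule.mem_map]
  constructor
  · rintro ⟨x', hx', hxx⟩
    obtain rfl := G.injective hxx
    exact (LinearMap.congr_fun hg x').trans hx'
  · intro hx
    exact ⟨x, (LinearMap.congr_fun hg x).symm.trans hx, rfl⟩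

end Lift

variable {R : Type u} [CommRing R] {n : ℕ}

lemma mem_span_of_z_pow_mul_eq_zero {d : ℕ} (hd : d ≤ n) (a : _root_.MultCrv.Rn R n)
    (h : _root_.MultCrv.z R n ^ d * a = 0) : a ∈ Ideal.span {_root_.MultCrv.z R n ^ (n - d)} := by
  obtain ⟨p, rfl⟩ := Ideal.Quotient.mk_surjective a
  rw [← map_pow, ← map_mul, Ideal.Quotient.eq_zero_iff_mem, Ideal.mem_span_singleton, X_pow_dvd_iff] at h
  have hp : X ^ (n - d) ∣ p := by
    rw [X_pow_dvd_iff]
    intro t ht
    have := h (t + d) (by omega)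
    rwa [X_pow_mul, coeff_mul_X_pow', if_pos (by omega), Nat.add_sub_cancel] at this
  obtain ⟨q, rfl⟩ := hp
  rw [Ideal.mem_span_singleton, map_mul, map_pow]
  exact Dvd.intro _ rfl

/-- `Oi e → A`, multiplication by `z ^ d`. -/
noncomputable def mulPow (e d : ℕ) (h : n ≤ d + e) :
    _root_.MultCrv.Oi R n e →ₗ[_root_.MultCrv.Rn R n] _root_.MultCrv.Rn R n :=
  Submodule.liftQ _ (LinearMap.mulLeft (_root_.MultCrv.Rn R n) (_root_.MultCrv.z R n ^ d)) (by
    intro a ha
    obtain ⟨b, rfl⟩ := Ideal.mem_span_singleton.mp ha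
    rw [LinearMap.mem_ker, LinearMap.mulLeft_apply, ← mul_assoc, ← pow_add, z_pow_eq_zero h, zero_mul])

lemma mulPow_mk (e d : ℕ) (h : n ≤ d + e) (a : _root_.MultCrv.Rn R n) :
    mulPow e d h (Ideal.Quotient.mk _ a) = _root_.MultCrv.z R n ^ d * a := rfl

lemma mulPow_injective (e d : ℕ) (h : n = d + e) : Function.Injective (mulPow (R := R) e d h.le) := by
  intro a b hab
  rw [← sub_eq_zero] at hab ⊢
  rw [← map_sub] at hab
  obtain ⟨c, hc⟩ := Ideal.Quotient.mk_surjective (a - b)
  rw [← hc, mulPow_mk] at hab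
  rw [← hc, Ideal.Quotient.eq_zero_iff_mem]
  have := mem_span_of_z_pow_mul_eq_zero (n := n) (by omega) c hab
  rwa [show n - d = e by omega] at this

lemma range_mulPow (e d : ℕ) (h : n ≤ d + e) :
    LinearMap.range (mulPow (R := R) e d h) = Ideal.span {_root_.MultCrv.z R n ^ d} := by
  refine le_antisymm ?_ fun x hx => ?_
  · rintro _ ⟨a, rfl⟩
    obtain ⟨a, rfl⟩ := Ideal.Quotient.mk_surjective a
    rw [mulPow_mk]
    exact Ideal.mem_span_singleton.mpr (Dvd.intro _ rfl)
  · obtain ⟨b, rfl⟩ := Ideal.mem_span_singleton.mp hx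
    exact ⟨Ideal.Quotient.mk _ b, mulPow_mk e d h b⟩

/-- The standard cover of the quasi-free model. -/
noncomputable def cover (m : Fin n → ℕ) :
    ((i : Fin n) → Fin (m i) → _root_.MultCrv.Rn R n) →ₗ[_root_.MultCrv.Rn R n]
      ((i : Fin n) → Fin (m i) → _root_.MultCrv.Oi R n (i.1 + 1)) :=
  LinearMap.pi fun i => (LinearMap.pi fun t =>
    (Submodule.mkQ (Ideal.span {_root_.MultCrv.z R n ^ (i.1 + 1)}) :
      _root_.MultCrv.Rn R n →ₗ[_root_.MultCrv.Rn R n] _root_.MultCrv.Oi R n (i.1 + 1)).comp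
      (LinearMap.proj t)).comp (LinearMap.proj i)

lemma cover_surjective (m : Fin n → ℕ) : Function.Surjective (cover (R := R) m) := by
  intro y
  choose x hx using fun i t => Ideal.Quotient.mk_surjective (y i t)
  exact ⟨x, funext fun i => funext fun t => hx i t⟩

lemma cover_eq_zero_iff (m : Fin n → ℕ) (x : (i : Fin n) → Fin (m i) → _root_.MultCrv.Rn R n) :
    cover (R := R) m x = 0 ↔ ∀ i t, x i t ∈ Ideal.span {_root_.MultCrv.z R n ^ (i.1 + 1)} := by
  simp only [funext_iff]
  exact forall_congr' fun i => forall_congr' fun t => Ideal.Quotient.eq_zero_iff_mem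

lemma nonempty_rev_equiv_ker {k : ℕ} (m : Fin (k + 1) → ℕ) :
    Nonempty (((i : Fin (k + 1)) → Fin (_root_.MultCrv.revType (k + 1) m i) → _root_.MultCrv.Oi R (k + 1) (i.1 + 1))
      ≃ₗ[_root_.MultCrv.Rn R (k + 1)] LinearMap.ker (cover (R := R) m)) := by
  have hm : ∀ j : Fin k, _root_.MultCrv.revType (k + 1) m j.rev.castSucc = m j.castSucc := fun j => by
    rw [_root_.MultCrv.revType, dif_pos (by have := j.isLt; simp; omega)]
    congr 1
    ext
    simp only [Fin.val_castSucc, Fin.val_rev]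
    omega
  have hlast : _root_.MultCrv.revType (k + 1) m (Fin.last k) = 0 := dif_neg (by simp)
  let Φ : ((i : Fin (k + 1)) → Fin (_root_.MultCrv.revType (k + 1) m i) → _root_.MultCrv.Oi R (k + 1) (i.1 + 1))
      →ₗ[_root_.MultCrv.Rn R (k + 1)] ((i : Fin (k + 1)) → Fin (m i) → _root_.MultCrv.Rn R (k + 1)) :=
    LinearMap.pi (Fin.lastCases 0 fun j => LinearMap.pi fun t =>
      (mulPow (j.rev.castSucc.1 + 1) (j.1 + 1) (by simp only [Fin.val_castSucc, Fin.val_rev]; omega)).comp
        ((LinearMap.proj (R := _root_.MultCrv.Rn R (k + 1))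
          (φ := fun _ : Fin (_root_.MultCrv.revType (k + 1) m j.rev.castSucc) =>
            _root_.MultCrv.Oi R (k + 1) (j.rev.castSucc.1 + 1)) (t.cast (hm j).symm)).comp
        (LinearMap.proj (R := _root_.MultCrv.Rn R (k + 1))
          (φ := fun i : Fin (k + 1) => Fin (_root_.MultCrv.revType (k + 1) m i) →
            _root_.MultCrv.Oi R (k + 1) (i.1 + 1)) j.rev.castSucc)))
  have hΦ : ∀ y (j : Fin k) (t : Fin (m j.castSucc)), Φ y j.castSucc t =
      mulPow (j.rev.castSucc.1 + 1) (j.1 + 1) (by simp only [Fin.val_castSucc, Fin.val_rev]; omega)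
        (y j.rev.castSucc (t.cast (hm j).symm)) := fun y j t => by
    simp [Φ]
  have hΦl : ∀ y, Φ y (Fin.last k) = 0 := fun y => by simp [Φ]
  have hinj : Function.Injective Φ := fun y y' h => by
    funext i t
    induction i using Fin.lastCases with
    | last => exact (t.cast hlast).elim0
    | cast i =>
      obtain ⟨j, rfl⟩ := Fin.rev_surjective i
      have h2 := congrFun (congrFun h j.castSucc) (t.cast (hm j))
      rw [hΦ, hΦ] at h2
      exact mulPow_injective _ _ (by simp only [Fin.val_castSucc, Fin.val_rev]; omega) h2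
  refine ⟨(LinearEquiv.ofInjective Φ hinj).trans (LinearEquiv.ofEq _ _ (le_antisymm ?_ fun x hx => ?_))⟩
  · rintro _ ⟨y, rfl⟩
    rw [LinearMap.mem_ker, cover_eq_zero_iff]
    intro i t
    induction i using Fin.lastCases with
    | last => rw [hΦl]; exact zero_mem _
    | cast j =>
      rw [hΦ]
      exact (range_mulPow _ _ _).le (LinearMap.mem_range_self _ _)
  · rw [LinearMap.mem_ker, cover_eq_zero_iff] at hx
    have : ∀ (i : Fin k) (t : Fin (m i.castSucc)), ∃ a : _root_.MultCrv.Oi R (k + 1) (i.rev.castSucc.1 + 1),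
        mulPow (i.rev.castSucc.1 + 1) (i.1 + 1) (by simp only [Fin.val_castSucc, Fin.val_rev]; omega) a =
          x i.castSucc t :=
      fun i t => (range_mulPow _ _ _).ge (hx i.castSucc t)
    choose a ha using this
    have hex : ∀ i : Fin (k + 1), ∃ y : Fin (_root_.MultCrv.revType (k + 1) m i) →
        _root_.MultCrv.Oi R (k + 1) (i.1 + 1),
        ∀ (j : Fin k) (hij : j.rev.castSucc = i) (t : Fin (m j.castSucc)),
          mulPow (i.1 + 1) (j.1 + 1) (by rw [← hij]; simp only [Fin.val_castSucc, Fin.val_rev]; omega)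
            (y (t.cast ((hm j).symm.trans (by rw [hij])))) = x j.castSucc t := by
      intro i
      induction i using Fin.lastCases with
      | last => exact ⟨0, fun j hj => absurd hj (Fin.castSucc_lt_last _).ne⟩
      | cast i =>
        obtain ⟨j, rfl⟩ := Fin.rev_surjective i
        refine ⟨fun t => a j (t.cast (hm j)), fun j' hj t => ?_⟩
        obtain rfl := Fin.rev_injective (Fin.castSucc_injective _ hj)
        exact ha j' t
    choose y hy using hex
    refine ⟨y, ?_⟩
    funext i t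
    induction i using Fin.lastCases with
    | last =>
      rw [hΦl]
      have := hx (Fin.last k) t
      rw [Fin.val_last, z_pow_n, Ideal.span_singleton_eq_bot.mpr rfl, Ideal.mem_bot] at this
      exact this.symm
    | cast j => rw [hΦ]; exact hy _ j rfl t

lemma cover_ker_le (m : Fin n → ℕ) (x : (i : Fin n) → Fin (m i) → _root_.MultCrv.Rn R n)
    (hx : cover (R := R) m x = 0) : ∃ y, _root_.MultCrv.z R n • y = x := by
  rw [cover_eq_zero_iff] at hx
  choose c hc using fun i t => Ideal.mem_span_singleton.mp (hx i t)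
  refine ⟨fun i t => _root_.MultCrv.z R n ^ i.1 * c i t, funext fun i => funext fun t => ?_⟩
  rw [Pi.smul_apply, Pi.smul_apply, smul_eq_mul, ← mul_assoc, ← pow_succ', hc i t]

lemma nonempty_ker_cover_equiv (m : Fin n → ℕ) (r : ℕ) {M : Type u} [AddCommGroup M]
    [Module (_root_.MultCrv.Rn R n) M] (φ : (Fin r → _root_.MultCrv.Rn R n) →ₗ[_root_.MultCrv.Rn R n] M)
    (hφ : Function.Surjective φ) (h1 : ∀ x, φ x = 0 → ∃ y, _root_.MultCrv.z R n • y = x)
    (E : M ≃ₗ[_root_.MultCrv.Rn R n] ((i : Fin n) → Fin (m i) → _root_.MultCrv.Oi R n (i.1 + 1))) :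
    Nonempty (LinearMap.ker φ ≃ₗ[_root_.MultCrv.Rn R n] LinearMap.ker (cover (R := R) m)) := by
  obtain ⟨e⟩ := nonempty_ker_equiv (_root_.MultCrv.z R n) (k := n) z_pow_n φ hφ h1
    (E.symm.toLinearMap.comp (cover m)) (E.symm.surjective.comp (cover_surjective m))
    (fun x hx => cover_ker_le m x (E.symm.map_eq_zero_iff.mp hx))
  exact ⟨e.trans (LinearEquiv.ofEq _ _ (LinearEquiv.ker_comp E.symm (cover m)))⟩

lemma nonempty_rev_equiv_ker' (hn : 1 ≤ n) (m : Fin n → ℕ) :
    Nonempty (((i : Fin n) → Fin (_root_.MultCrv.revType n m i) → _root_.MultCrv.Oi R n (i.1 + 1))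
      ≃ₗ[_root_.MultCrv.Rn R n] LinearMap.ker (cover (R := R) m)) := by
  obtain ⟨k, rfl⟩ := Nat.exists_eq_add_of_le' hn
  exact nonempty_rev_equiv_ker m

theorem isQuasiFreeOfType_ker (hn : 1 ≤ n) (m : Fin n → ℕ) {M : Type u} [AddCommGroup M]
    [Module (_root_.MultCrv.Rn R n) M] (hM : _root_.MultCrv.IsQuasiFreeOfType R n M m) (r : ℕ)
    (φ : (Fin r → _root_.MultCrv.Rn R n) →ₗ[_root_.MultCrv.Rn R n] M) (hφ : Function.Surjective φ)
    (hφz : ∀ f, φ f ∈ _root_.MultCrv.filt R n M 1 →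
      f ∈ _root_.MultCrv.filt R n (Fin r → _root_.MultCrv.Rn R n) 1) :
    _root_.MultCrv.IsQuasiFreeOfType R n (LinearMap.ker φ) (_root_.MultCrv.revType n m) := by
  obtain ⟨e⟩ := hM
  have h1 : ∀ x, φ x = 0 → ∃ y, _root_.MultCrv.z R n • y = x := fun x hx0 => by
    obtain ⟨y, hy⟩ := hφz x (by rw [hx0]; exact zero_mem _)
    refine ⟨y, ?_⟩
    rw [← hy]
    change _ = _root_.MultCrv.z R n ^ 1 • y
    rw [pow_one]
  obtain ⟨e1⟩ := nonempty_ker_cover_equiv m r φ hφ h1 (e.trans (_root_.MultCrv.QFModel.equivPi R n m))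
  obtain ⟨e2⟩ := nonempty_rev_equiv_ker' (R := R) hn m
  exact ⟨(e1.trans e2.symm).trans (_root_.MultCrv.QFModel.equivPi R n _).symm⟩

end Groth.Agent.H25.MultCrv
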