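import Groth.Agent.H25.TorLES
import Groth.Agent.Lib.LocalFlat.Basic
import Mathlib.Algebra.Category.ModuleCat.EpiMono

/-!
# `Tor₁ = 0` versus `Tor1Zero`
-/

universe u

namespace Groth.Agent.H25.TorBridge

open CategoryTheory CategoryTheory.Limits MonoidalCategory
open Groth.Agent.Lib.LocalFlat.Basic Groth.Agent.H25.TorLES

variable {A : Type u} [CommRing A] {M : ModuleCat.{u} A}

/-- A short exact sequence of types as a short complex. -/
@[reducible] def mkSC {P B Q : Type u} [AddCommGroup P] [Module A P] [AddCommGroup B] [Module A B]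
    [AddCommGroup Q] [Module A Q] (f : P →ₗ[A] B) (g : B →ₗ[A] Q) (h : Function.Exact f g) :
    ShortComplex (ModuleCat.{u} A) :=
  ShortComplex.moduleCatMk f g h.linearMap_comp_eq_zero

theorem shortExact_mkSC {P B Q : Type u} [AddCommGroup P] [Module A P] [AddCommGroup B] [Module A B]
    [AddCommGroup Q] [Module A Q] {f : P →ₗ[A] B} {g : B →ₗ[A] Q} (h : Function.Exact f g)
    (hf : Function.Injective f) (hg : Function.Surjective g) : (mkSC f g h).ShortExact :=
  { exact := (ShortComplex.moduleCat_exact_iff _).mpr fun x hx => (h x).mp hx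
    mono_f := (ModuleCat.mono_iff_injective _).mpr hf
    epi_g := (ModuleCat.epi_iff_surjective _).mpr hg }

theorem mono_map_zero_iff {S : ShortComplex (ModuleCat.{u} A)} :
    Mono ((T M 0).map S.f) ↔ Function.Injective (S.f.hom.lTensor M) := by
  have h : (T M 0).map S.f ≫ (zeroIso M).hom.app _ = (zeroIso M).hom.app _ ≫ (tensorLeft M).map S.f :=
    (zeroIso M).hom.naturality S.f
  constructor
  · intro hm
    have : Mono ((zeroIso M).hom.app _ ≫ (tensorLeft M).map S.f) := by
      rw [← h]; exact mono_comp _ _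
    have h2 : Mono ((tensorLeft M).map S.f) :=
      by
        have := mono_comp ((zeroIso M).inv.app _) ((zeroIso M).hom.app _ ≫ (tensorLeft M).map S.f)
        rwa [Iso.inv_hom_id_app_assoc] at this
    exact (ModuleCat.mono_iff_injective _).mp h2
  · intro hi
    have h2 : Mono ((tensorLeft M).map S.f) := (ModuleCat.mono_iff_injective _).mpr hi
    have : Mono ((T M 0).map S.f ≫ (zeroIso M).hom.app _) := by
      rw [h]; exact mono_comp _ _
    exact mono_of_mono ((T M 0).map S.f) ((zeroIso M).hom.app _)

theorem isZero_of_injective {P B Q : Type u} [AddCommGroup P] [Module A P] [AddCommGroup B]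
    [Module A B] [Module.Flat A B] [AddCommGroup Q] [Module A Q] {f : P →ₗ[A] B} {g : B →ₗ[A] Q}
    (hfg : Function.Exact f g) (hf : Function.Injective f) (hg : Function.Surjective g)
    (hinj : Function.Injective (f.lTensor M)) : IsZero ((T M 1).obj (ModuleCat.of A Q)) := by
  have hS := shortExact_mkSC hfg hf hg
  have hi : Mono ((T M 0).map (mkSC f g hfg).f) :=
    (mono_map_zero_iff (S := mkSC f g hfg)).mpr hinj
  have : Module.Flat A (mkSC f g hfg).X₂ := inferInstanceAs (Module.Flat A B)
  have hm := mono_δ (M := M) hS 0 (Lib.Tor.Balance.isZero_tor_succ_of_flat_right M _ 0)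
  have hδ : δ (M := M) hS 0 = 0 :=
    (cancel_mono ((T M 0).map (mkSC f g hfg).f)).mp ((δ_comp hS 0).trans zero_comp.symm)
  have hz : IsZero ((T M (0 + 1)).obj (mkSC f g hfg).X₃) :=
    @IsZero.of_mono_eq_zero _ _ _ _ _ (δ (M := M) hS 0) hm hδ
  exact hz

theorem isZero_iff (Q : Type u) [AddCommGroup Q] [Module A Q] :
    IsZero ((T M 1).obj (ModuleCat.of A Q)) ↔ Tor1Zero A M Q := by
  constructor
  · intro hz P B _ _ _ _ f g hf hfg hg
    have hm : Mono ((T M 0).map (mkSC f g hfg).f) :=
      (exact₁ (M := M) (shortExact_mkSC hfg hf hg) 0).mono_g (hz.eq_of_src _ _)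
    exact (mono_map_zero_iff (M := M) (S := mkSC f g hfg)).mp hm
  · intro h
    exact isZero_of_injective (LinearMap.exact_subtype_ker_map (Finsupp.linearCombination A (id : Q → Q)))
      (Submodule.injective_subtype _) (Finsupp.linearCombination_id_surjective A Q)
      (h _ _ _ (Finsupp.linearCombination A (id : Q → Q)) (Submodule.injective_subtype _)
        (LinearMap.exact_subtype_ker_map _) (Finsupp.linearCombination_id_surjective A Q))

theorem isZero_iff' (Q : ModuleCat.{u} A) : IsZero ((T M 1).obj Q) ↔ Tor1Zero A M Q :=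
  isZero_iff (M := M) Q

end Groth.Agent.H25.TorBridge
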