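import Groth.Agent.H25.TorBridge
import Groth.Agent.H25.FGColim
import Groth.Agent.Lib.Tor.Colim
import Mathlib.RingTheory.Ideal.AssociatedPrime.Finiteness
import Mathlib.RingTheory.LocalRing.ResidueField.Ideal

/-!
# Tor-dimension by residue fields
-/

universe u

namespace Groth.Agent.H25.TorFibre

open CategoryTheory CategoryTheory.Limits
open Groth.Agent.H25.TorLES Groth.Agent.H25.TorBridge

variable {A : Type u} [CommRing A]

instance preservesFiltered_T (M : ModuleCat.{u} A) (i : ℕ) : PreservesFilteredColimits (T M i) :=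
  ⟨fun J _ _ => Groth.Agent.Lib.Tor.Colim.tor_obj_preservesFilteredColimits (J := J) M i⟩

lemma exists_smul_mem_range (p : Ideal A) [p.IsPrime] (y : p.ResidueField) :
    ∃ s ∉ p, ∃ r : A, s • y = algebraMap A p.ResidueField r := by
  obtain ⟨y', rfl⟩ := IsLocalRing.residue_surjective y
  obtain ⟨r, s, rfl⟩ := IsLocalization.exists_mk'_eq p.primeCompl y'
  refine ⟨s.1, s.2, r, ?_⟩
  rw [Algebra.smul_def, IsScalarTower.algebraMap_apply A (Localization.AtPrime p) p.ResidueField,
    IsScalarTower.algebraMap_apply A (Localization.AtPrime p) p.ResidueField,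
    IsLocalRing.ResidueField.algebraMap_eq, ← map_mul, IsLocalization.mk'_spec']

/-- `A / p → κ(p)`. -/
noncomputable def toFibre (p : Ideal A) [p.IsPrime] : (A ⧸ p) →ₗ[A] p.ResidueField :=
  Submodule.liftQ p (Algebra.linearMap A p.ResidueField) (fun x hx => by
    rw [LinearMap.mem_ker, Algebra.linearMap_apply, Ideal.algebraMap_residueField_eq_zero]
    exact hx)

lemma toFibre_injective (p : Ideal A) [p.IsPrime] : Function.Injective (toFibre p) := by
  rw [← LinearMap.ker_eq_bot]
  refine Submodule.ker_liftQ_eq_bot _ _ _ fun x hx => ?_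
  rwa [LinearMap.mem_ker, Algebra.linearMap_apply, Ideal.algebraMap_residueField_eq_zero] at hx

lemma exists_smul_mem_range_of_fg (p : Ideal A) [p.IsPrime] {N : Submodule A p.ResidueField} (hN : N.FG) :
    ∃ s ∉ p, ∀ y ∈ N, s • y ∈ LinearMap.range (toFibre p) := by
  classical
  obtain ⟨W, rfl⟩ := hN
  choose s hs r hr using fun y : p.ResidueField => exists_smul_mem_range p y
  refine ⟨∏ w ∈ W, s w, fun h => ?_, fun y hy => ?_⟩
  · obtain ⟨w, -, hw⟩ := (Ideal.IsPrime.prod_mem_iff.mp h)
    exact hs w hw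
  · have h1 : Submodule.span A (W : Set p.ResidueField) ≤
        (LinearMap.range (toFibre p)).comap ((∏ w ∈ W, s w) • LinearMap.id) := by
      refine Submodule.span_le.mpr fun w hw => ?_
      change (∏ v ∈ W, s v) • w ∈ LinearMap.range (toFibre p)
      rw [← Finset.prod_erase_mul W s hw, mul_smul, hr w]
      exact Submodule.smul_mem _ _ ⟨Submodule.Quotient.mk (r w), rfl⟩
    exact h1 hy

/-- An element of `F(A/p)` dying in `F(κ(p))` is killed by some `s ∉ p`. -/
theorem exists_smul_eq_zero_of_fibre (p : Ideal A) [p.IsPrime] (F : ModuleCat.{u} A ⥤ ModuleCat.{u} A)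
    [PreservesFilteredColimits F] (x : F.obj (ModuleCat.of A (A ⧸ p)))
    (hx : (F.map (ModuleCat.ofHom (toFibre p))).hom x = 0) :
    ∃ s ∉ p, (F.map (ModuleCat.ofHom (s • (LinearMap.id : (A ⧸ p) →ₗ[A] A ⧸ p)))).hom x = 0 := by
  let N0 : FGColim.Idx (A := A) p.ResidueField :=
    ⟨LinearMap.range (toFibre p), Module.Finite.iff_fg.mp (Module.Finite.range _)⟩
  let a : ModuleCat.of A (A ⧸ p) ⟶ ModuleCat.of A N0.1 := ModuleCat.ofHom (toFibre p).rangeRestrict
  have hx0 : (F.map (ModuleCat.ofHom N0.1.subtype)).hom ((F.map a).hom x) = 0 := by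
    rw [← LinearMap.comp_apply, ← ModuleCat.hom_comp, ← F.map_comp]
    exact hx
  obtain ⟨N', hle, hN'⟩ := FGColim.exists_map_eq_zero F N0 _ hx0
  obtain ⟨s, hs, hsN⟩ := exists_smul_mem_range_of_fg p N'.2
  refine ⟨s, hs, ?_⟩
  let b : ModuleCat.of A N'.1 ⟶ ModuleCat.of A (A ⧸ p) := ModuleCat.ofHom
    ((LinearEquiv.ofInjective (toFibre p) (toFibre_injective p)).symm.toLinearMap ∘ₗ
      (s • (N'.1).subtype).codRestrict (LinearMap.range (toFibre p)) (fun y => hsN y.1 y.2))
  have hfac : ModuleCat.ofHom (s • (LinearMap.id : (A ⧸ p) →ₗ[A] A ⧸ p)) =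
      a ≫ ModuleCat.ofHom (Submodule.inclusion hle) ≫ b := by
    refine ModuleCat.hom_ext (LinearMap.ext fun y => toFibre_injective p ?_)
    change toFibre p (s • y) = toFibre p ((LinearEquiv.ofInjective (toFibre p) (toFibre_injective p)).symm _)
    refine Eq.trans ?_ (congrArg Subtype.val
      (LinearEquiv.apply_symm_apply (LinearEquiv.ofInjective (toFibre p) (toFibre_injective p)) _)).symm
    exact map_smul _ _ _
  rw [hfac, F.map_comp, F.map_comp, ModuleCat.hom_comp, ModuleCat.hom_comp, LinearMap.comp_apply,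
    LinearMap.comp_apply, hN', map_zero]

lemma isZero_of_linearEquiv (F : ModuleCat.{u} A ⥤ ModuleCat.{u} A) {X Y : Type u} [AddCommGroup X]
    [Module A X] [AddCommGroup Y] [Module A Y] (e : X ≃ₗ[A] Y) (h : IsZero (F.obj (ModuleCat.of A Y))) :
    IsZero (F.obj (ModuleCat.of A X)) :=
  h.of_iso (F.mapIso e.toModuleIso)

variable [IsNoetherianRing A]

/-- Vanishing of `Tor_i(M, κ(p))` for all `p` and all `i > n` gives vanishing of `Tor_i(M, -)`. -/
theorem isZero_T_of_fibres (M : ModuleCat.{u} A) (n : ℕ)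
    (h : ∀ (p : Ideal A) [p.IsPrime] (i : ℕ), n < i →
      IsZero ((T M i).obj (ModuleCat.of A p.ResidueField)))
    (N : ModuleCat.{u} A) (i : ℕ) (hi : n < i) : IsZero ((T M i).obj N) := by
  suffices ∀ (J : Ideal A) (N : Type u) [AddCommGroup N] [Module A N] [Module.Finite A N],
      (∀ a ∈ J, ∀ x : N, a • x = 0) → ∀ i, n < i → IsZero ((T M i).obj (ModuleCat.of A N)) from
    FGColim.isZero_of_forall_finite (T M i) (fun N _ _ _ => this ⊥ N (fun a ha x => by
      rw [Ideal.mem_bot.mp ha, zero_smul]) i hi) N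
  intro J
  induction J using WellFoundedGT.induction with
  | _ J ih =>
    intro N _ _ hfin hJ
    revert hJ
    refine IsNoetherianRing.induction_on_isQuotientEquivQuotientPrime A hfin
      (motive := fun N _ _ _ => (∀ a ∈ J, ∀ x : N, a • x = 0) →
        ∀ i, n < i → IsZero ((T M i).obj (ModuleCat.of A N))) ?_ ?_ ?_
    · intro N _ _ _ _ _ i _
      exact (T M i).map_isZero (ModuleCat.isZero_of_subsingleton _)
    · intro N _ _ _ p e hJN i hi
      refine isZero_of_linearEquiv (T M i) e ?_
      have hJp : J ≤ p.asIdeal := fun a ha => by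
        have := congrArg e (hJN a ha (e.symm (Submodule.Quotient.mk 1)))
        rw [map_smul, map_zero, e.apply_symm_apply, ← Submodule.Quotient.mk_smul, smul_eq_mul, mul_one,
          Submodule.Quotient.mk_eq_zero] at this
        exact this
      rcases lt_or_eq_of_le hJp with hlt | heq
      · exact ih p.asIdeal hlt (A ⧸ p.asIdeal) (fun a ha x => by
          obtain ⟨x, rfl⟩ := Submodule.Quotient.mk_surjective _ x
          rw [← Submodule.Quotient.mk_smul, Submodule.Quotient.mk_eq_zero, smul_eq_mul]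
          exact Ideal.mul_mem_right _ _ ha) i hi
      have hinj : ∀ s ∉ p.asIdeal, Function.Injective
          ((T M i).map (ModuleCat.ofHom (s • (LinearMap.id : (A ⧸ p.asIdeal) →ₗ[A] A ⧸ p.asIdeal)))).hom := by
        intro s hs
        let K := p.asIdeal ⊔ Ideal.span {s}
        have hlt : J < K := heq ▸ lt_of_le_of_ne le_sup_left fun hh => hs (by
          rw [hh]; exact Ideal.mem_sup_right (Ideal.mem_span_singleton_self s))
        let g : (A ⧸ p.asIdeal) →ₗ[A] A ⧸ K := Submodule.factor le_sup_left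
        have hfg : Function.Exact (s • (LinearMap.id : (A ⧸ p.asIdeal) →ₗ[A] A ⧸ p.asIdeal)) g := by
          intro x
          obtain ⟨x, rfl⟩ := Submodule.Quotient.mk_surjective _ x
          constructor
          · intro hx
            obtain ⟨u, hu, v, hv, huv⟩ := Submodule.mem_sup.mp ((Submodule.Quotient.mk_eq_zero K).mp hx)
            obtain ⟨w, rfl⟩ := Ideal.mem_span_singleton'.mp hv
            refine ⟨Submodule.Quotient.mk w, (Submodule.Quotient.eq _).mpr ?_⟩
            change s • w - x ∈ p.asIdeal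
            have huv' : u + w * s = x := huv
            rw [smul_eq_mul, ← huv', show s * w - (u + w * s) = -u by ring]
            exact neg_mem hu
          · rintro ⟨y, hy⟩
            obtain ⟨y, rfl⟩ := Submodule.Quotient.mk_surjective _ y
            rw [← hy]
            exact (Submodule.Quotient.mk_eq_zero K).mpr
              (Ideal.mem_sup_right (Ideal.mem_span_singleton.mpr (Dvd.intro y rfl)))
        have hf : Function.Injective (s • (LinearMap.id : (A ⧸ p.asIdeal) →ₗ[A] A ⧸ p.asIdeal)) := by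
          rw [← LinearMap.ker_eq_bot, eq_bot_iff]
          intro x hx
          obtain ⟨x, rfl⟩ := Submodule.Quotient.mk_surjective _ x
          have hx' : s * x ∈ p.asIdeal := (Submodule.Quotient.mk_eq_zero _).mp hx
          exact (Submodule.Quotient.mk_eq_zero _).mpr ((p.isPrime.mem_or_mem hx').resolve_left hs)
        have hS := shortExact_mkSC hfg hf (Submodule.factor_surjective le_sup_left)
        have hz : IsZero ((T M (i + 1)).obj (ModuleCat.of A (A ⧸ K))) := ih K hlt (A ⧸ K) (fun a ha x => by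
          obtain ⟨x, rfl⟩ := Submodule.Quotient.mk_surjective _ x
          rw [← Submodule.Quotient.mk_smul, Submodule.Quotient.mk_eq_zero, smul_eq_mul]
          exact Ideal.mul_mem_right _ _ ha) (i + 1) (by omega)
        exact (ModuleCat.mono_iff_injective _).mp ((exact₁ (M := M) hS i).mono_g (hz.eq_of_src _ _))
      refine @ModuleCat.isZero_of_subsingleton _ _ _ ⟨fun x y => ?_⟩
      obtain ⟨s, hs, hsx⟩ := exists_smul_eq_zero_of_fibre p.asIdeal (T M i) (x - y)
        (@Subsingleton.elim _ (ModuleCat.subsingleton_of_isZero (h p.asIdeal i hi)) _ _)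
      exact sub_eq_zero.mp (hinj s hs (hsx.trans (map_zero _).symm))
    · intro N₁ _ _ _ N₂ _ _ _ N₃ _ _ _ f g hf hg hfg h₁ h₃ hJ i hi
      refine isZero_mid (M := M) (shortExact_mkSC hfg hf hg) i (h₁ (fun a ha x => hf ?_) i hi)
        (h₃ (fun a ha x => ?_) i hi)
      · rw [map_smul, hJ a ha, map_zero]
      · obtain ⟨x, rfl⟩ := hg x
        rw [← map_smul, hJ a ha, map_zero]

end Groth.Agent.H25.TorFibre
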