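import Groth.Agent.H25.TorFibre
import Mathlib.RingTheory.Flat.Basic
import Mathlib.LinearAlgebra.TensorProduct.RightExactness

/-!
# Isomorphisms detected on residue fields
-/

universe u

namespace Groth.Agent.H25.TorFibre

open CategoryTheory CategoryTheory.Limits TensorProduct
open Groth.Agent.H25.TorLES Groth.Agent.H25.TorBridge

variable {A : Type u} [CommRing A]

/-- `Tor₁(K, A/J) = 0` for all finitely generated `J` gives flatness. -/
theorem flat_of_isZero (K : ModuleCat.{u} A)
    (h : ∀ J : Ideal A, IsZero ((T K 1).obj (ModuleCat.of A (A ⧸ J)))) : Module.Flat A K := by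
  rw [Module.Flat.iff_lTensor_injective]
  intro J _
  have hS := shortExact_mkSC (LinearMap.exact_subtype_mkQ J) J.injective_subtype J.mkQ_surjective
  have hm : Mono ((T K 0).map (mkSC J.subtype J.mkQ (LinearMap.exact_subtype_mkQ J)).f) :=
    (exact₁ (M := K) hS 0).mono_g ((h J).eq_of_src _ _)
  exact (mono_map_zero_iff (M := K)).mp hm

lemma map_zero_bijective (P : ModuleCat.{u} A) {X Y : ModuleCat.{u} A} (f : X ⟶ Y) :
    Function.Bijective ((T P 0).map f).hom ↔ Function.Bijective (f.hom.lTensor P) := by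
  have hnat : ∀ x, ((zeroIso P).hom.app Y).hom (((T P 0).map f).hom x) =
      f.hom.lTensor P (((zeroIso P).hom.app X).hom x) := fun x =>
    LinearMap.congr_fun (congrArg ModuleCat.Hom.hom ((zeroIso P).hom.naturality f)) x
  have h : (((zeroIso P).app Y).toLinearEquiv : _ → _) ∘ ((T P 0).map f).hom =
      (f.hom.lTensor P) ∘ (((zeroIso P).app X).toLinearEquiv : _ → _) := funext hnat
  constructor
  · intro hb
    have h2 := ((zeroIso P).app Y).toLinearEquiv.bijective.comp hb
    rw [h] at h2
    exact (Function.Bijective.of_comp_iff _ ((zeroIso P).app X).toLinearEquiv.bijective).mp h2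
  · intro hb
    have h2 := hb.comp ((zeroIso P).app X).toLinearEquiv.bijective
    rw [← h] at h2
    exact (Function.Bijective.of_comp_iff' ((zeroIso P).app Y).toLinearEquiv.bijective _).mp h2

variable [IsNoetherianRing A]

/-- A map of flat modules injective on all fibres is universally injective. -/
theorem injective_of_flat_of_fibres {K F : Type u} [AddCommGroup K] [Module A K] [Module.Flat A K]
    [AddCommGroup F] [Module A F] [Module.Flat A F] (q : K →ₗ[A] F)
    (h : ∀ (p : Ideal A) [p.IsPrime], Function.Injective (q.lTensor p.ResidueField))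
    (X : Type u) [AddCommGroup X] [Module A X] [hX : Module.Finite A X] :
    Function.Injective (q.lTensor X) := by
  refine IsNoetherianRing.induction_on_isQuotientEquivQuotientPrime A hX
    (motive := fun X _ _ _ => Function.Injective (q.lTensor X)) ?_ ?_ ?_
  · intro X _ _ _ _
    have : Subsingleton (X ⊗[A] K) := subsingleton_of_forall_eq 0 fun t => by
      induction t using TensorProduct.induction_on with
      | zero => rfl
      | tmul x y => rw [Subsingleton.elim x 0, zero_tmul]
      | add a b ha hb => rw [ha, hb, add_zero]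
    exact Function.injective_of_subsingleton _
  · intro X _ _ _ p e
    let ι : X →ₗ[A] p.asIdeal.ResidueField := toFibre p.asIdeal ∘ₗ e.toLinearMap
    have hι : Function.Injective ι := (toFibre_injective p.asIdeal).comp e.injective
    have hsq : (q.lTensor p.asIdeal.ResidueField) ∘ₗ (ι.rTensor K) = (ι.rTensor F) ∘ₗ (q.lTensor X) := by
      rw [LinearMap.lTensor_comp_rTensor, LinearMap.rTensor_comp_lTensor]
    intro a b hab
    have h1 : ι.rTensor K a = ι.rTensor K b := by
      refine h p.asIdeal ?_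
      have h2 := LinearMap.congr_fun hsq a
      have h3 := LinearMap.congr_fun hsq b
      simp only [LinearMap.comp_apply] at h2 h3
      rw [h2, h3, hab]
    exact Module.Flat.rTensor_preserves_injective_linearMap ι hι h1
  · intro X₁ _ _ _ X₂ _ _ _ X₃ _ _ _ f g hf hg hfg h₁ h₃
    rw [injective_iff_map_eq_zero]
    intro x hx
    have h3 : g.rTensor K x = 0 := by
      apply h₃
      rw [map_zero]
      have := congrArg (g.rTensor F) hx
      rw [map_zero, ← LinearMap.comp_apply, LinearMap.rTensor_comp_lTensor, ← LinearMap.lTensor_comp_rTensor] at this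
      exact this
    obtain ⟨y, rfl⟩ := (rTensor_exact K hfg hg x).mp h3
    rw [← LinearMap.comp_apply, LinearMap.lTensor_comp_rTensor, ← LinearMap.rTensor_comp_lTensor,
      LinearMap.comp_apply] at hx
    have hy : q.lTensor X₁ y = 0 :=
      Module.Flat.rTensor_preserves_injective_linearMap f hf (hx.trans (map_zero _).symm)
    rw [h₁ (hy.trans (map_zero _).symm), map_zero]

theorem bijective_of_flat_of_fibres {K F : Type u} [AddCommGroup K] [Module A K] [Module.Flat A K]
    [AddCommGroup F] [Module A F] [Module.Flat A F] (q : K →ₗ[A] F)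
    (h : ∀ (p : Ideal A) [p.IsPrime], Function.Bijective (q.lTensor p.ResidueField)) :
    Function.Bijective q := by
  have hinjX : ∀ (X : Type u) [AddCommGroup X] [Module A X] [Module.Finite A X],
      Function.Injective (q.lTensor X) := fun X _ _ _ =>
    injective_of_flat_of_fibres q (fun p _ => (h p).1) X
  have hinj : Function.Injective q := by
    intro a b hab
    have := hinjX A (a₁ := 1 ⊗ₜ a) (a₂ := 1 ⊗ₜ b) (by rw [LinearMap.lTensor_tmul, LinearMap.lTensor_tmul, hab])
    simpa using congrArg (TensorProduct.lid A K) this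
  refine ⟨hinj, ?_⟩
  let C := F ⧸ LinearMap.range q
  let g : F →ₗ[A] C := (LinearMap.range q).mkQ
  have hqg : Function.Exact q g := LinearMap.exact_map_mkQ_range q
  have hS := shortExact_mkSC hqg hinj (Submodule.mkQ_surjective _)
  have hCflat : Module.Flat A C := by
    refine flat_of_isZero (ModuleCat.of A C) fun J => ?_
    refine IsZero.of_iso ?_ (Groth.Agent.Lib.Tor.Balance.torFlipIso (ModuleCat.of A C) (ModuleCat.of A (A ⧸ J)) 1)
    have hm : Mono ((T (ModuleCat.of A (A ⧸ J)) 0).map (mkSC q g hqg).f) :=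
      (mono_map_zero_iff (M := ModuleCat.of A (A ⧸ J))).mpr (hinjX (A ⧸ J))
    have : Module.Flat A (mkSC q g hqg).X₂ := inferInstanceAs (Module.Flat A F)
    exact isZero_of_injective hqg hinj (Submodule.mkQ_surjective _) (hinjX (A ⧸ J))
  have hC : ∀ (p : Ideal A) [p.IsPrime], Subsingleton (p.ResidueField ⊗[A] C) := by
    intro p _
    refine ⟨fun a b => ?_⟩
    obtain ⟨a, rfl⟩ := LinearMap.lTensor_surjective p.ResidueField (Submodule.mkQ_surjective (LinearMap.range q)) a
    obtain ⟨b, rfl⟩ := LinearMap.lTensor_surjective p.ResidueField (Submodule.mkQ_surjective (LinearMap.range q)) b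
    obtain ⟨c, hc⟩ := (h p).2 (a - b)
    refine sub_eq_zero.mp ?_
    rw [← map_sub, ← hc, ← LinearMap.comp_apply, ← LinearMap.lTensor_comp,
      show (LinearMap.range q).mkQ ∘ₗ q = 0 from hqg.linearMap_comp_eq_zero]
    simp
  have hC0 := injective_of_flat_of_fibres (0 : C →ₗ[A] PUnit.{u+1})
    (fun p _ => Function.injective_of_subsingleton (α := p.ResidueField ⊗[A] C) _) A
  intro x
  have h1 : (1 : A) ⊗ₜ[A] g x = (1 : A) ⊗ₜ[A] (0 : C) := hC0 (by simp)
  have h2 : g x = 0 := by simpa using congrArg (TensorProduct.lid A C) h1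
  exact (hqg x).mp h2

section Core

omit [IsNoetherianRing A]

variable {M N X K P : ModuleCat.{u} A} [Module.Flat A P] {k : K ⟶ X} {π : X ⟶ N} {j : M ⟶ X} {s : X ⟶ P}
  {w : k ≫ π = 0} {w' : j ≫ s = 0}

lemma epi_of_comp (V : ModuleCat.{u} A) {u : M ⟶ N} (hu : j ≫ π = u) (i : ℕ)
    (h : IsIso ((T V i).map u)) : Epi ((T V i).map π) := by
  rw [← hu, Functor.map_comp] at h
  exact epi_of_epi ((T V i).map j) _

lemma isZero_kernel (hS : (ShortComplex.mk k π w).ShortExact) (hS' : (ShortComplex.mk j s w').ShortExact)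
    (V : ModuleCat.{u} A) {u : M ⟶ N} (hu : j ≫ π = u) (h : ∀ i, IsIso ((T V i).map u)) (i : ℕ) :
    IsZero ((T V (i + 1)).obj K) := by
  have hz : IsZero ((T V (i + 1)).obj P) := Groth.Agent.Lib.Tor.Balance.isZero_tor_succ_of_flat_right _ _ i
  have he : Epi ((T V (i + 1)).map j) :=
    (exact₂ (M := V) hS' (i + 1) (map_comp (i + 1))).epi_f (hz.eq_of_tgt _ _)
  have hiso := h (i + 1)
  rw [← hu, Functor.map_comp] at hiso
  have hm' : Mono ((T V (i + 1)).map j) := mono_of_mono _ ((T V (i + 1)).map π)
  have : IsIso ((T V (i + 1)).map j) := isIso_of_mono_of_epi _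
  have hπiso : IsIso ((T V (i + 1)).map π) := IsIso.of_isIso_comp_left ((T V (i + 1)).map j) _
  have he2 := epi_of_comp V hu (i + 1 + 1) (h _)
  have hδ : δ (M := V) hS (i + 1) = 0 :=
    (cancel_epi ((T V (i + 1 + 1)).map π)).mp ((comp_δ hS (i + 1)).trans comp_zero.symm)
  have hm : Mono ((T V (i + 1)).map k) := (exact₁ (M := V) hS (i + 1)).mono_g hδ
  have hf0 : (T V (i + 1)).map k = 0 :=
    (cancel_mono ((T V (i + 1)).map π)).mp
      ((map_comp (M := V) (S := ShortComplex.mk k π w) (i + 1)).trans zero_comp.symm)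
  exact @IsZero.of_mono_eq_zero _ _ _ _ _ _ hm hf0

omit [Module.Flat A P] in
lemma fibre_bijective (hS : (ShortComplex.mk k π w).ShortExact) (hS' : (ShortComplex.mk j s w').ShortExact)
    (V : ModuleCat.{u} A) {u : M ⟶ N} (hu : j ≫ π = u) (h : ∀ i, IsIso ((T V i).map u)) :
    Function.Bijective ((k ≫ s).hom.lTensor V) := by
  have hu0 : Function.Bijective (u.hom.lTensor V) :=
    (map_zero_bijective V u).mp (have := h 0; ConcreteCategory.bijective_of_isIso ((T V 0).map u))
  have hm : Function.Injective (k.hom.lTensor V) := by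
    have := epi_of_comp V hu 1 (h _)
    have hδ : δ (M := V) hS 0 = 0 :=
      (cancel_epi ((T V 1).map π)).mp ((comp_δ hS 0).trans comp_zero.symm)
    exact (mono_map_zero_iff (M := V) (S := ShortComplex.mk k π w)).mp ((exact₁ (M := V) hS 0).mono_g hδ)
  have hex := lTensor_exact V ((ShortComplex.ShortExact.moduleCat_exact_iff_function_exact _).mp hS.exact)
    ((ModuleCat.epi_iff_surjective π).mp hS.epi_g)
  have hex' := lTensor_exact V ((ShortComplex.ShortExact.moduleCat_exact_iff_function_exact _).mp hS'.exact)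
    ((ModuleCat.epi_iff_surjective s).mp hS'.epi_g)
  have hπj : ∀ m, π.hom.lTensor V (j.hom.lTensor V m) = u.hom.lTensor V m := fun m => by
    rw [← LinearMap.comp_apply, ← LinearMap.lTensor_comp, ← ModuleCat.hom_comp, hu]
  have hqc : ∀ x, (k ≫ s).hom.lTensor V x = s.hom.lTensor V (k.hom.lTensor V x) := fun x => by
    rw [← LinearMap.comp_apply, ← LinearMap.lTensor_comp, ← ModuleCat.hom_comp]
  constructor
  · rw [injective_iff_map_eq_zero]
    intro x hx
    obtain ⟨m, hm'⟩ := (hex' _).mp ((hqc x).symm.trans hx)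
    have h1 : u.hom.lTensor V m = 0 := by
      rw [← hπj, hm']
      exact (hex _).mpr ⟨x, rfl⟩
    rw [hu0.1 (h1.trans (map_zero _).symm), map_zero] at hm'
    exact hm (hm'.symm.trans (map_zero _).symm)
  · intro z
    obtain ⟨y, rfl⟩ := LinearMap.lTensor_surjective V ((ModuleCat.epi_iff_surjective s).mp hS'.epi_g) z
    obtain ⟨m, hm'⟩ := hu0.2 (π.hom.lTensor V y)
    obtain ⟨x, hx⟩ := (hex (y - j.hom.lTensor V m)).mp (by rw [map_sub, hπj, hm', sub_self])
    refine ⟨x, ?_⟩
    rw [hqc, hx, map_sub, (hex' _).mpr ⟨m, rfl⟩, sub_zero]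

end Core

theorem isIso_core {M N X K P : ModuleCat.{u} A} [Module.Flat A P] {k : K ⟶ X} {π : X ⟶ N} {j : M ⟶ X}
    {s : X ⟶ P} {w : k ≫ π = 0} {w' : j ≫ s = 0} (hS : (ShortComplex.mk k π w).ShortExact)
    (hS' : (ShortComplex.mk j s w').ShortExact) {u : M ⟶ N} (hu : j ≫ π = u)
    (h : ∀ (p : Ideal A) [p.IsPrime] (i : ℕ), IsIso ((T (ModuleCat.of A p.ResidueField) i).map u)) :
    IsIso u := by
  have hflatK : Module.Flat A K := flat_of_isZero K fun J =>
    isZero_T_of_fibres K 0 (fun p _ i hi => by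
      obtain ⟨i', rfl⟩ := Nat.exists_eq_add_of_le' (Nat.one_le_iff_ne_zero.mpr hi.ne')
      exact (isZero_kernel hS hS' (ModuleCat.of A p.ResidueField) hu (h p) i').of_iso
        (Groth.Agent.Lib.Tor.Balance.torFlipIso _ _ _)) _ 1 one_pos
  have hbij := bijective_of_flat_of_fibres (k ≫ s).hom
    (fun p _ => fibre_bijective hS hS' (ModuleCat.of A p.ResidueField) hu (h p))
  have hk := (ShortComplex.ShortExact.moduleCat_exact_iff_function_exact _).mp hS.exact
  have hj := (ShortComplex.ShortExact.moduleCat_exact_iff_function_exact _).mp hS'.exact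
  refine (ConcreteCategory.isIso_iff_bijective u).mpr ⟨?_, fun y => ?_⟩
  · rw [injective_iff_map_eq_zero]
    intro m hm
    obtain ⟨z, hz⟩ := (hk (j.hom m)).mp (by
      rw [← hm, ← hu]; rfl)
    have hz0 : (k ≫ s).hom z = 0 := by
      change s.hom (k.hom z) = 0
      rw [hz]; exact (hj _).mpr ⟨m, rfl⟩
    rw [hbij.1 (hz0.trans (map_zero _).symm), map_zero] at hz
    exact (ModuleCat.mono_iff_injective j).mp hS'.mono_f (hz.symm.trans (map_zero _).symm)
  · obtain ⟨x, rfl⟩ := (ModuleCat.epi_iff_surjective π).mp hS.epi_g y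
    obtain ⟨z, hz⟩ := hbij.2 (s.hom x)
    obtain ⟨m, hm⟩ := (hj (x - k.hom z)).mp (by
      rw [map_sub, ← hz]; exact sub_self _)
    refine ⟨m, ?_⟩
    rw [← hu]
    change π.hom (j.hom m) = π.hom x
    rw [hm, map_sub, (hk _).mpr ⟨z, rfl⟩, sub_zero]

/-- A map inducing isomorphisms on all `Tor_i(κ(p), -)` is an isomorphism. -/
theorem isIso_of_fibres {M N : ModuleCat.{u} A} (u : M ⟶ N)
    (h : ∀ (p : Ideal A) [p.IsPrime] (i : ℕ),
      IsIso ((T (ModuleCat.of A p.ResidueField) i).map u)) : IsIso u := by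
  let P : Type u := N →₀ A
  let π : (M × P) →ₗ[A] N := u.hom.coprod (Finsupp.linearCombination A (id : N → N))
  have hπ : Function.Surjective π := fun y => by
    obtain ⟨x, hx⟩ := Finsupp.linearCombination_id_surjective A N y
    exact ⟨(0, x), by simp [π, hx]⟩
  let K : Submodule A (M × P) := LinearMap.ker π
  let k : ModuleCat.of A K ⟶ ModuleCat.of A (M × P) := ModuleCat.ofHom K.subtype
  let π' : ModuleCat.of A (M × P) ⟶ N := ModuleCat.ofHom π
  have hw : k ≫ π' = 0 :=
    ModuleCat.hom_ext (LinearMap.ext fun x => x.2)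
  have hw' : ModuleCat.ofHom (LinearMap.inl A M P) ≫ ModuleCat.ofHom (LinearMap.snd A M P) = 0 :=
    ModuleCat.hom_ext (LinearMap.ext fun _ => rfl)
  have hS : (ShortComplex.mk _ _ hw).ShortExact :=
    { exact := (ShortComplex.ShortExact.moduleCat_exact_iff_function_exact _).mpr (LinearMap.exact_subtype_ker_map π)
      mono_f := (ModuleCat.mono_iff_injective _).mpr (Submodule.injective_subtype _)
      epi_g := (ModuleCat.epi_iff_surjective _).mpr hπ }
  have hS' : (ShortComplex.mk _ _ hw').ShortExact :=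
    { exact := (ShortComplex.ShortExact.moduleCat_exact_iff_function_exact _).mpr fun x =>
        ⟨fun hx => ⟨x.1, Prod.ext rfl (Eq.symm hx)⟩, fun ⟨_, hy⟩ => hy ▸ rfl⟩
      mono_f := (ModuleCat.mono_iff_injective _).mpr LinearMap.inl_injective
      epi_g := (ModuleCat.epi_iff_surjective _).mpr LinearMap.snd_surjective }
  have : Module.Flat A (ModuleCat.of A P) := inferInstanceAs (Module.Flat A P)
  refine isIso_core hS hS' (ModuleCat.hom_ext (LinearMap.ext fun x => ?_)) h
  change u.hom x + Finsupp.linearCombination A (id : N → N) 0 = u.hom x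
  rw [map_zero, add_zero]

end Groth.Agent.H25.TorFibre
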