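import Groth.Agent.Lib.Tor.Balance
import Mathlib.CategoryTheory.Abelian.LeftDerived

/-!
# Balancing of Tor, natural in both variables
-/

universe v u v' u'

namespace Groth.Agent.H25.TorFlip

open CategoryTheory CategoryTheory.Limits
open Groth.Agent.Lib.Tor.DimShift

section

variable {C : Type u} [Category.{v} C] [Abelian C] {D : Type u'} [Category.{v'} D] [Abelian D]
  {T T' : C ⥤ D} {E E' : C ⥤ ChainComplex D ℕ} [E.PreservesZeroMorphisms] [E'.PreservesZeroMorphisms]
  (c : Computing T E) (c' : Computing T' E') (α : T ⟶ T') (β : E ⟶ E')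
  (hz : ∀ X, HomologicalComplex.homologyMap (β.app X) 0 ≫ (z0 c' X).hom = (z0 c X).hom ≫ α.app X)

lemma dlt_natE {Q : ChainComplex C ℕ} (hQ : IsRes Q) (k m : ℕ) :
    HomologicalComplex.homologyMap (β.app (Q.opcycles k)) (m + 1) ≫ dlt c' hQ k m =
      dlt c hQ k m ≫ HomologicalComplex.homologyMap (β.app (Q.opcycles (k + 1))) m :=
  (HomologicalComplex.HomologySequence.δ_naturality
    ((opSC Q k).mapNatTrans β) (hQ.shortExact_map c k) (hQ.shortExact_map c' k)
    (m + 1) m (by simp)).symm

include hz in
lemma iterDelta_natE {Q : ChainComplex C ℕ} (hQ : IsRes Q) :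
    ∀ (m k j : ℕ) (h : k + m + 1 = j),
      HomologicalComplex.homologyMap (β.app (Q.opcycles k)) (m + 1) ≫ iterDelta c' hQ m k j h =
        iterDelta c hQ m k j h ≫ α.app (Q.opcycles j)
  | 0, k, j, h => by
      subst h
      simp only [iterDelta, eqToHom_refl, Category.comp_id, Category.assoc]
      rw [← Category.assoc, dlt_natE c c' β hQ k 0, Category.assoc, hz]
  | m + 1, k, j, h => by
      simp only [iterDelta, Category.assoc]
      rw [← Category.assoc, dlt_natE c c' β hQ k (m + 1), Category.assoc,
        iterDelta_natE hQ m (k + 1) j (by omega)]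

variable [T.Additive] [T'.Additive]

/-- The map of complexes `T Q ⟶ T' Q`. -/
noncomputable abbrev mapCx (Q : ChainComplex C ℕ) :
    (T.mapHomologicalComplex (ComplexShape.down ℕ)).obj Q ⟶
      (T'.mapHomologicalComplex (ComplexShape.down ℕ)).obj Q :=
  (NatTrans.mapHomologicalComplex α _).app Q

lemma opComp_natT (Q : ChainComplex C ℕ) (j : ℕ) :
    HomologicalComplex.opcyclesMap (mapCx α Q) j ≫ opComp T' Q j =
      opComp T Q j ≫ α.app (Q.opcycles j) := by
  rw [← cancel_epi (((T.mapHomologicalComplex _).obj Q).pOpcycles j),
    HomologicalComplex.p_opcyclesMap_assoc, pOpcycles_opComp, pOpcycles_opComp_assoc]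
  exact (α.naturality (Q.pOpcycles j)).symm

lemma homComp_natT (Q : ChainComplex C ℕ) (j : ℕ) :
    HomologicalComplex.homologyMap (mapCx α Q) j ≫ homComp T' Q j =
      homComp T Q j ≫ α.app (Q.opcycles j) := by
  rw [homComp, homComp, HomologicalComplex.homologyι_naturality_assoc, opComp_natT,
    Category.assoc]

variable [PreservesFiniteColimits T] [PreservesFiniteColimits T']

include hz in
lemma resIso_natE {Q : ChainComplex C ℕ} (hQ : IsRes Q) (i : ℕ) :
    HomologicalComplex.homologyMap (β.app (Q.opcycles 0)) (i + 1) ≫ (resIso c' hQ i).hom =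
      (resIso c hQ i).hom ≫ HomologicalComplex.homologyMap (mapCx α Q) (i + 1) := by
  have := (homComp_exact T' Q i).snd.1
  rw [← cancel_mono (homComp T' Q (i + 1)), Category.assoc, Category.assoc, resIso_hom_comp,
    homComp_natT, ← Category.assoc (resIso c hQ i).hom, resIso_hom_comp]
  exact iterDelta_natE c c' α β hz hQ i 0 (i + 1) (by omega)

omit [PreservesFiniteColimits T] [PreservesFiniteColimits T'] in
lemma fromLeftDerivedZero'_natT {X : C} (P : ProjectiveResolution X) :
    HomologicalComplex.opcyclesMap (mapCx α P.complex) 0 ≫ P.fromLeftDerivedZero' T' =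
      P.fromLeftDerivedZero' T ≫ α.app X := by
  rw [← cancel_epi (((T.mapHomologicalComplex _).obj P.complex).pOpcycles 0)]
  simp only [ProjectiveResolution.fromLeftDerivedZero', HomologicalComplex.p_opcyclesMap_assoc,
    HomologicalComplex.p_descOpcycles, HomologicalComplex.p_descOpcycles_assoc]
  exact (α.naturality _).symm

variable [HasProjectiveResolutions C]

omit [PreservesFiniteColimits T] [PreservesFiniteColimits T'] in
lemma fromLeftDerivedZero_natT (X : C) :
    (NatTrans.leftDerived α 0).app X ≫ T'.fromLeftDerivedZero.app X =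
      T.fromLeftDerivedZero.app X ≫ α.app X := by
  rw [(projectiveResolution X).fromLeftDerivedZero_eq, (projectiveResolution X).fromLeftDerivedZero_eq,
    ProjectiveResolution.leftDerived_app_eq α (projectiveResolution X)]
  simp only [Category.assoc, Iso.inv_hom_id_assoc]
  rw [← fromLeftDerivedZero'_natT α]
  refine congrArg (_ ≫ ·) ?_
  exact HomologicalComplex.homologyι_naturality_assoc (mapCx α (projectiveResolution X).complex) 0 _

include hz in
theorem leftDerivedIso_natT : ∀ (n : ℕ) (X : C),
    HomologicalComplex.homologyMap (β.app X) n ≫ (leftDerivedIso c' n).hom.app X =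
      (leftDerivedIso c n).hom.app X ≫ (NatTrans.leftDerived α n).app X
  | 0, X => by
    have h2 : T.leftDerivedZeroIsoSelf.inv.app X ≫ (NatTrans.leftDerived α 0).app X =
        α.app X ≫ T'.leftDerivedZeroIsoSelf.inv.app X := by
      rw [← cancel_mono (T'.fromLeftDerivedZero.app X), Category.assoc, Category.assoc,
        fromLeftDerivedZero_natT α, T'.leftDerivedZeroIsoSelf_inv_hom_id_app,
        T.leftDerivedZeroIsoSelf_inv_hom_id_app_assoc, Category.comp_id]
    change HomologicalComplex.homologyMap (β.app X) 0 ≫
        ((z0 c' X).hom ≫ T'.leftDerivedZeroIsoSelf.inv.app X) =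
      ((z0 c X).hom ≫ T.leftDerivedZeroIsoSelf.inv.app X) ≫ (NatTrans.leftDerived α 0).app X
    rw [reassoc_of% (hz X), Category.assoc, h2]
  | i + 1, X => by
    have h1 := resIso_natE c c' α β hz (isRes_resolution (projectiveResolution X)) i
    have h0 : HomologicalComplex.homologyMap (β.app X) (i + 1) ≫
        HomologicalComplex.homologyMap (E'.map (augIso (projectiveResolution X)).inv) (i + 1) =
      HomologicalComplex.homologyMap (E.map (augIso (projectiveResolution X)).inv) (i + 1) ≫
        HomologicalComplex.homologyMap (β.app _) (i + 1) := by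
      rw [← HomologicalComplex.homologyMap_comp, ← HomologicalComplex.homologyMap_comp, β.naturality]
    rw [ProjectiveResolution.leftDerived_app_eq α (projectiveResolution X)]
    change HomologicalComplex.homologyMap (β.app X) (i + 1) ≫
        (HomologicalComplex.homologyMap (E'.map (augIso (projectiveResolution X)).inv) (i + 1) ≫
          (resIso c' (isRes_resolution (projectiveResolution X)) i).hom ≫
          ((projectiveResolution X).isoLeftDerivedObj T' (i + 1)).inv) =
      (HomologicalComplex.homologyMap (E.map (augIso (projectiveResolution X)).inv) (i + 1) ≫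
          (resIso c (isRes_resolution (projectiveResolution X)) i).hom ≫
          ((projectiveResolution X).isoLeftDerivedObj T (i + 1)).inv) ≫
        ((projectiveResolution X).isoLeftDerivedObj T (i + 1)).hom ≫
          HomologicalComplex.homologyMap (mapCx α (projectiveResolution X).complex) (i + 1) ≫
          ((projectiveResolution X).isoLeftDerivedObj T' (i + 1)).inv
    simp only [Category.assoc]
    erw [Iso.inv_hom_id_assoc]
    rw [← Category.assoc, h0, Category.assoc]
    refine congrArg (_ ≫ ·) ?_
    exact (Category.assoc _ _ _).symm.trans ((congrArg (· ≫ _) h1).trans (Category.assoc _ _ _))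

end

section

universe w

open MonoidalCategory
open Groth.Agent.Lib.Tor.Balance

variable {A : Type w} [CommRing A]

/-- The data making `P ⊗ -` compute `Tor(M, -)`. -/
noncomputable def comp (M : ModuleCat.{w} A) :
    Computing ((tensoringLeft (ModuleCat.{w} A)).obj M) (tensorCxFun (projectiveResolution M).complex) :=
  { shortExact := shortExact_tensorCxFun _
      (fun i => flat_of_projective ((projectiveResolution M).complex.X i))
    acyclic := fun X hX m =>
      have := flat_of_projective X
      isZero_homology_succ_of_exactAt _ (projectiveResolution M).complex_exactAt_succ (tensorRight X) m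
    zero := zeroIso (projectiveResolution M).complex ((projectiveResolution M).π.f 0)
      (projectiveResolution M).complex_d_comp_π_f_zero
      (epi_of_isColimit_cofork (projectiveResolution M).isColimitCokernelCofork)
      (resolution_exact_zero (projectiveResolution M)) }

/-- `φ ⊗ -`. -/
noncomputable def cxNat {P P' : ChainComplex (ModuleCat.{w} A) ℕ} (φ : P ⟶ P') :
    tensorCxFun P ⟶ tensorCxFun P' where
  app X := ((tensorRight X).mapHomologicalComplex _).map φ
  naturality X Y f := by
    ext i : 1
    exact whisker_exchange (φ.f i) f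

lemma comp_zero_nat {M M' : ModuleCat.{w} A} (f : M ⟶ M')
    (φ : (projectiveResolution M).complex ⟶ (projectiveResolution M').complex)
    (comm : φ.f 0 ≫ (projectiveResolution M').π.f 0 = (projectiveResolution M).π.f 0 ≫ f)
    (X : ModuleCat.{w} A) :
    HomologicalComplex.homologyMap ((cxNat φ).app X) 0 ≫ (z0 (comp M') X).hom =
      (z0 (comp M) X).hom ≫ ((tensoringLeft (ModuleCat.{w} A)).map f).app X := by
  change HomologicalComplex.homologyMap ((cxNat φ).app X) 0 ≫
      (((tensorCxFun (projectiveResolution M').complex).obj X).homologyι 0 ≫ _) =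
    (((tensorCxFun (projectiveResolution M).complex).obj X).homologyι 0 ≫ _) ≫ f ▷ X
  rw [HomologicalComplex.homologyι_naturality_assoc, Category.assoc]
  refine congrArg (_ ≫ ·) ?_
  rw [← cancel_epi (((tensorCxFun (projectiveResolution M).complex).obj X).pOpcycles 0),
    HomologicalComplex.p_opcyclesMap_assoc]
  simp only [asIso_hom]
  refine (congrArg (_ ≫ ·) (HomologicalComplex.p_descOpcycles _ _ _ _ _)).trans
    (Eq.trans ?_ (HomologicalComplex.p_descOpcycles_assoc _ _ _ _ _ _).symm)
  exact (comp_whiskerRight _ _ X).symm.trans ((congrArg (· ▷ X) comm).trans (comp_whiskerRight _ _ X))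

/-- The braiding `P ⊗ N ≅ N ⊗ P` in homology. -/
noncomputable def braidH (P : ChainComplex (ModuleCat.{w} A) ℕ) (N : ModuleCat.{w} A) (n : ℕ) :
    (((tensorRight N).mapHomologicalComplex _).obj P).homology n ≅
      (((tensorLeft N).mapHomologicalComplex _).obj P).homology n :=
  (HomologicalComplex.homologyFunctor _ (ComplexShape.down ℕ) n).mapIso
    ((NatIso.mapHomologicalComplex (BraidedCategory.tensorLeftIsoTensorRight N).symm _).app P)

lemma braidH_nat_left {P P' : ChainComplex (ModuleCat.{w} A) ℕ} (φ : P ⟶ P')
    (N : ModuleCat.{w} A) (n : ℕ) :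
    HomologicalComplex.homologyMap (((tensorRight N).mapHomologicalComplex _).map φ) n ≫ (braidH P' N n).hom =
      (braidH P N n).hom ≫ HomologicalComplex.homologyMap (((tensorLeft N).mapHomologicalComplex _).map φ) n := by
  rw [braidH, braidH, Functor.mapIso_hom, Functor.mapIso_hom, HomologicalComplex.homologyFunctor_map,
    HomologicalComplex.homologyFunctor_map, ← HomologicalComplex.homologyMap_comp,
    ← HomologicalComplex.homologyMap_comp]
  exact congrArg (HomologicalComplex.homologyMap · n)
    ((NatIso.mapHomologicalComplex (BraidedCategory.tensorLeftIsoTensorRight N).symm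
      (ComplexShape.down ℕ)).hom.naturality φ)

lemma braidH_nat_right (P : ChainComplex (ModuleCat.{w} A) ℕ) {N N' : ModuleCat.{w} A} (g : N ⟶ N') (n : ℕ) :
    HomologicalComplex.homologyMap
        ((NatTrans.mapHomologicalComplex ((tensoringRight (ModuleCat.{w} A)).map g) _).app P) n ≫
        (braidH P N' n).hom =
      (braidH P N n).hom ≫ HomologicalComplex.homologyMap
        ((NatTrans.mapHomologicalComplex ((tensoringLeft (ModuleCat.{w} A)).map g) _).app P) n := by
  rw [braidH, braidH, Functor.mapIso_hom, Functor.mapIso_hom, HomologicalComplex.homologyFunctor_map,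
    HomologicalComplex.homologyFunctor_map, ← HomologicalComplex.homologyMap_comp,
    ← HomologicalComplex.homologyMap_comp]
  refine congrArg (HomologicalComplex.homologyMap · n) ?_
  ext i : 1
  exact BraidedCategory.braiding_naturality_right (P.X i) g

/-- Naturality in the resolved variable. -/
lemma torFlipIso_nat_left {M M' : ModuleCat.{w} A} (f : M ⟶ M') (N : ModuleCat.{w} A) (n : ℕ) :
    ((CategoryTheory.Tor (ModuleCat.{w} A) n).map f).app N ≫ (torFlipIso M' N n).hom =
      (torFlipIso M N n).hom ≫ ((CategoryTheory.Tor (ModuleCat.{w} A) n).obj N).map f := by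
  let φ := ProjectiveResolution.lift f (projectiveResolution M) (projectiveResolution M')
  have comm : φ.f 0 ≫ (projectiveResolution M').π.f 0 = (projectiveResolution M).π.f 0 ≫ f :=
    (HomologicalComplex.congr_hom (ProjectiveResolution.lift_commutes f _ _) 0).trans
      (congrArg (_ ≫ ·) (ChainComplex.single₀_map_f_zero f))
  have h1 := leftDerivedIso_natT (comp M) (comp M') ((tensoringLeft (ModuleCat.{w} A)).map f)
    (cxNat φ) (comp_zero_nat f φ comm) n N
  have h1' : ((CategoryTheory.Tor (ModuleCat.{w} A) n).map f).app N ≫
        (leftDerivedIso (comp M') n).inv.app N =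
      (leftDerivedIso (comp M) n).inv.app N ≫ HomologicalComplex.homologyMap ((cxNat φ).app N) n := by
    refine (Iso.comp_inv_eq ((leftDerivedIso (comp M') n).app N)).mpr ?_
    exact (((Category.assoc _ _ _).trans (congrArg (_ ≫ ·) h1)).trans
      (Iso.inv_hom_id_app_assoc (leftDerivedIso (comp M) n) N _)).symm
  have h3 := ProjectiveResolution.isoLeftDerivedObj_inv_naturality f _ _ φ comm
    ((tensoringLeft (ModuleCat.{w} A)).obj N) n
  change ((CategoryTheory.Tor (ModuleCat.{w} A) n).map f).app N ≫
      ((leftDerivedIso (comp M') n).inv.app N ≫ (braidH _ N n).hom ≫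
        ((projectiveResolution M').isoLeftDerivedObj _ n).inv) =
    ((leftDerivedIso (comp M) n).inv.app N ≫ (braidH _ N n).hom ≫
        ((projectiveResolution M).isoLeftDerivedObj _ n).inv) ≫ _
  rw [← Category.assoc, h1', Category.assoc, Category.assoc]
  refine (Category.assoc _ _ _).trans ?_
  refine congrArg (fun t => (leftDerivedIso (comp M) n).inv.app N ≫ t) ?_
  erw [← Category.assoc, braidH_nat_left φ N n, Category.assoc]
  refine congrArg (fun t => (braidH (projectiveResolution M).complex N n).hom ≫ t) ?_
  exact h3.symm

/-- Naturality in the other variable. -/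
lemma torFlipIso_nat_right (M : ModuleCat.{w} A) {N N' : ModuleCat.{w} A} (g : N ⟶ N') (n : ℕ) :
    ((CategoryTheory.Tor (ModuleCat.{w} A) n).obj M).map g ≫ (torFlipIso M N' n).hom =
      (torFlipIso M N n).hom ≫ ((CategoryTheory.Tor (ModuleCat.{w} A) n).map g).app M := by
  have h1 : ((CategoryTheory.Tor (ModuleCat.{w} A) n).obj M).map g ≫
        (leftDerivedIso (comp M) n).inv.app N' =
      (leftDerivedIso (comp M) n).inv.app N ≫
        HomologicalComplex.homologyMap ((tensorCxFun (projectiveResolution M).complex).map g) n :=
    (leftDerivedIso (comp M) n).inv.naturality g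
  change ((CategoryTheory.Tor (ModuleCat.{w} A) n).obj M).map g ≫
      ((leftDerivedIso (comp M) n).inv.app N' ≫ (braidH _ N' n).hom ≫
        ((projectiveResolution M).isoLeftDerivedObj _ n).inv) =
    ((leftDerivedIso (comp M) n).inv.app N ≫ (braidH _ N n).hom ≫
        ((projectiveResolution M).isoLeftDerivedObj _ n).inv) ≫
      (NatTrans.leftDerived ((tensoringLeft (ModuleCat.{w} A)).map g) n).app M
  rw [ProjectiveResolution.leftDerived_app_eq _ (projectiveResolution M), ← Category.assoc, h1,
    Category.assoc, Category.assoc]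
  refine (Category.assoc _ _ _).trans ?_
  refine congrArg (fun t => (leftDerivedIso (comp M) n).inv.app N ≫ t) ?_
  erw [Iso.inv_hom_id_assoc, ← Category.assoc]
  exact (congrArg (· ≫ _) (braidH_nat_right _ g n)).trans (Category.assoc _ _ _)

/-- Balancing as an isomorphism of bifunctors. -/
noncomputable def torFlipNatIso (n : ℕ) :
    CategoryTheory.Tor (ModuleCat.{w} A) n ≅ (CategoryTheory.Tor (ModuleCat.{w} A) n).flip :=
  NatIso.ofComponents
    (fun M => NatIso.ofComponents (fun N => torFlipIso M N n) fun g => torFlipIso_nat_right M g n)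
    fun {M M'} f => by ext N : 2; exact torFlipIso_nat_left f N n

end

end Groth.Agent.H25.TorFlip
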